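/-
Project SJ4 (helper70): standard subgroups isomorphic to the fourth Janko group.  Definitions only.

`A` is the Janko group, `H = C_A(z) = Q.3.M22.2`, `J = H'`, `V = 2^11`, `M = N_A(V) = V : M24`, `T` is a Sylow
2-subgroup in `H ⊓ M`, `f` is an involution of the second class, `p` has order three and is fixed point free on `Q / z`.
If `C(t) = A × ⟨t⟩` and `t` is fused to `t l`, then `V` is doubled to `W` (`Dbl`), `W` is elementary abelian, `M` is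
the diagonal of a product `M₁ M₁ᵗ` (`Dg`), and so is `A`.  Transfer and the Z* theorem finish the proof.
-/
import Cfsg.Agent.Wr.P5
import Cfsg.Agent.Wr.Tools
import Cfsg.Agent.Even.Amb2
import Cfsg.Prelude.Def_Classification2

set_option autoImplicit false
open Cfsg Subgroup CL.Even CL.Grp CL.Wr CL.Wr.P5a
open scoped commutatorElement

namespace CL.SJ

universe u

/-- The data. -/
structure Dat (G : Type*) [Group G] where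
  z : G
  f : G
  p : G
  x₀ : G
  y₀ : G
  A : Subgroup G
  H : Subgroup G
  J : Subgroup G
  Q : Subgroup G
  V : Subgroup G
  M : Subgroup G
  T : Subgroup G

section

variable {G : Type*} [Group G]

/-- The class of `z` in `A`. -/
def Dat.cl (d : Dat G) (x : G) : Prop := ∃ a ∈ d.A, x = a * d.z * a⁻¹

/-- The derived group of the centraliser of `l` in `A`. -/
def Dat.Jc (d : Dat G) (l : G) : Subgroup G := ⁅d.A ⊓ centralizer {l}, d.A ⊓ centralizer {l}⁆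

/-- The preimage of the line over the field with four elements through `x`. -/
def Dat.Om (d : Dat G) (x : G) : Subgroup G := closure {x, d.p * x * d.p⁻¹, d.z}

/-- The image of the data under a homomorphism. -/
@[simps] def Dat.map {G' : Type*} [Group G'] (d : Dat G) (φ : G →* G') : Dat G' :=
  { z := φ d.z, f := φ d.f, p := φ d.p, x₀ := φ d.x₀, y₀ := φ d.y₀, A := d.A.map φ, H := d.H.map φ, J := d.J.map φ,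
    Q := d.Q.map φ, V := d.V.map φ, M := d.M.map φ, T := d.T.map φ }

/-- `τ y = y t y⁻¹ t`. -/
def tau (t y : G) : G := y * t * y⁻¹ * t

/-- `x ∈ {1, z}`. -/
def Z2 (z x : G) : Prop := x = 1 ∨ x = z

/-- `x ∈ {1, z, w, w z}`. -/
def Z4 (z w x : G) : Prop := x = 1 ∨ x = z ∨ x = w ∨ x = w * z

/-- Basic facts. -/
structure OkA (d : Dat G) : Prop where
  z_V : d.z ∈ d.V
  z_Q : d.z ∈ d.Q
  f_V : d.f ∈ d.V
  z_ne : d.z ≠ 1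
  f_ne : d.f ≠ 1
  V_sq : ∀ v ∈ d.V, v * v = 1
  mem_H : ∀ g, g ∈ d.H ↔ g ∈ d.A ∧ g * d.z = d.z * g
  mem_M : ∀ g, g ∈ d.M ↔ g ∈ d.A ∧ g ∈ 𝒩(d.V)
  V_T : d.V ≤ d.T
  Q_T : d.Q ≤ d.T
  T_H : d.T ≤ d.H
  T_M : d.T ≤ d.M
  J_eq : d.J = ⁅d.H, d.H⁆
  p_M : d.p ∈ d.M
  p_cube : d.p * d.p * d.p = 1
  Q_norm : d.H ≤ 𝒩(d.Q)
  syl : IsSylowIn 2 d.T d.A
  simple : IsSimpleGroup d.A
  two : ∀ u ∈ d.A, u * u = 1 → u ≠ 1 → ∃ a ∈ d.A, u = a * d.z * a⁻¹ ∨ u = a * d.f * a⁻¹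
  f_not : ¬ d.cl d.f
  orbV : ∀ v ∈ d.V, v ≠ 1 → ∃ m ∈ d.M, v = m * d.z * m⁻¹ ∨ v = m * d.f * m⁻¹
  card_V : Nat.card d.V = 2048
  card_Q : Nat.card d.Q = 8192
  card_M : Nat.card d.M = 501397585920
  card_cl : {v | v ∈ d.V ∧ d.cl v}.ncard = 1771
  card_ncl : {v | v ∈ d.V ∧ v ≠ 1 ∧ ¬ d.cl v}.ncard = 276
  uniqM : ∀ E, E ≤ d.M → (∀ x ∈ E, x * x = 1) → 2048 ≤ Nat.card E → E = d.V
  uniqH : ∀ E, E ≤ d.H → (∀ x ∈ E, x * x = 1) → 2048 ≤ Nat.card E → ∃ h ∈ d.H, E = cj h d.V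
  Q_comm : ∀ a ∈ d.Q, ∀ b ∈ d.Q, Z2 d.z ⁅a, b⁆
  Q_sq : ∀ a ∈ d.Q, Z2 d.z (a * a)
  cenQ : ∀ g ∈ d.A, (∀ q ∈ d.Q, g * q = q * g) → Z2 d.z g
  cQ : ∀ h ∈ d.H, (∀ q ∈ d.Q, Z2 d.z ⁅h, q⁆) → h ∈ d.Q
  cenU : ∀ g ∈ d.A, (∀ u ∈ d.V, u ∈ d.Q → g * u = u * g) → g ∈ d.V
  cVQ : ∀ q ∈ d.Q, (∀ v ∈ d.V, Z2 d.z ⁅v, q⁆) → q ∈ d.V
  p_fpf : ∀ q ∈ d.Q, Z2 d.z (q * (d.p * q * d.p⁻¹) * (d.p⁻¹ * q * d.p))
  p_V : ∀ v ∈ d.V, ⁅d.p, v⁆ ∈ d.Q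
  p_conj : ∀ h ∈ d.H, h⁻¹ * d.p * h ∈ d.M
  cenCQ : ∀ y ∈ d.Q, ∀ g ∈ d.A, (∀ q ∈ d.Q, q * y = y * q → g * q = q * g) → Z4 d.z y g
  z2 : ∃ x ∈ d.T, ¬ Z2 d.z x ∧ ∀ y ∈ d.T, Z2 d.z ⁅x, y⁆

/-- The structure of the derived groups of the involution centralisers. -/
structure OkJ (d : Dat G) : Prop where
  Q_J : d.Q ≤ d.J
  V_J : d.V ≤ d.J
  p_J : d.p ∈ d.J
  J_perf : d.J ≤ ⁅d.J, d.J⁆
  card_J : Nat.card d.J = 10899947520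
  H_dec : ∀ h ∈ d.H, ∃ j ∈ d.J, ∃ x ∈ d.T, h = j * x
  O2J : ∀ P, P ≤ d.J → IsPGroup 2 P → d.J ≤ 𝒩(P) → P ≤ d.Q
  nz : ∀ N, N ≤ d.H → d.H ≤ 𝒩(N) → (∀ x ∈ N, Z2 d.z x) ∨ d.Q ≤ N
  genJ : d.J ≤ closure {x | ∃ h ∈ d.H, x ∈ cj h d.V}
  V_Jf : d.V ≤ d.Jc d.f
  Jf_perf : d.Jc d.f ≤ ⁅d.Jc d.f, d.Jc d.f⁆
  card_Jf : Nat.card (d.Jc d.f) = 908328960
  O2f : ∀ P, P ≤ d.Jc d.f → IsPGroup 2 P → d.Jc d.f ≤ 𝒩(P) → P ≤ d.V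
  nf : ∀ N, N ≤ d.A ⊓ centralizer {d.f} → d.A ⊓ centralizer {d.f} ≤ 𝒩(N) → (∀ x ∈ N, Z2 d.f x) ∨ d.V ≤ N
  cenJf : ∀ g ∈ d.A, g ∈ 𝒞(d.Jc d.f) → Z2 d.f g

/-- The geometry of the conjugates of `V` in `H`. -/
structure OkH (d : Dat G) : Prop where
  delta : ∃ h ∈ d.H, (∀ v ∈ d.V, v ∈ cj h d.V → Z2 d.z v) ∧
    (∀ q ∈ d.Q, ∃ a ∈ d.V, a ∈ d.Q ∧ ∃ b ∈ cj h d.V, b ∈ d.Q ∧ q = a * b) ∧
    ∀ k ∈ d.H, (∀ v ∈ d.V, v ∈ cj k d.V → Z2 d.z v) → ∃ v ∈ d.V, cj k d.V = cj (v * h) d.V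
  k1 : ∀ x ∈ d.Q, d.cl x → x ≠ d.z → ∀ v ∈ d.A, (∀ h ∈ d.H, x ∈ cj h d.V → v ∈ cj h d.V) → v ∈ d.Om x
  orbQ : ∀ x ∈ d.Q, d.cl x → x ≠ d.z → ∃ h ∈ d.H, x = h * d.x₀ * h⁻¹
  x_V : d.x₀ ∈ d.V
  x_Q : d.x₀ ∈ d.Q
  y_V : d.y₀ ∈ d.V
  y_Q : d.y₀ ∈ d.Q
  x_cl : d.cl d.x₀ ∧ d.x₀ ≠ d.z
  y_cl : d.cl d.y₀ ∧ d.y₀ ≠ d.z
  xy_cl : d.cl (d.x₀ * d.y₀) ∧ d.x₀ * d.y₀ ≠ d.z
  pxy_cl : d.cl (d.p * d.x₀ * d.p⁻¹ * d.y₀) ∧ d.p * d.x₀ * d.p⁻¹ * d.y₀ ≠ d.z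
  indep : ∀ α ∈ d.Om d.x₀, ∀ β ∈ d.Om d.y₀, α * β ∈ d.Om (d.x₀ * d.y₀) →
    d.p⁻¹ * α * d.p * β ∈ d.Om (d.p * d.x₀ * d.p⁻¹ * d.y₀) → Z2 d.z α
  rank : ∀ e ∈ d.V, (∀ q ∈ d.Q, ⁅q, e⁆ ∈ d.Om d.x₀) → e ∈ d.Q
  genU : d.V ⊓ d.Q ≤ closure {x | x ∈ d.V ∧ x ∈ d.Q ∧ d.cl x}
  genQ : d.Q ≤ closure {x | x ∈ d.Q ∧ d.cl x}

/-- The action of `M` on `V`. -/
structure OkM (d : Dat G) : Prop where
  aut : ∀ φ : G → G, (∀ u ∈ d.V, φ u ∈ d.V) → MulOn d.V φ → (∀ u ∈ d.V, φ u = 1 → u = 1) →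
    (∀ u ∈ d.V, ¬ d.cl u → ¬ d.cl (φ u)) → ∃ m ∈ d.M, ∀ u ∈ d.V, φ u = m * u * m⁻¹
  fixz : ∀ s ∈ d.V, (∀ m ∈ d.M, m * d.z = d.z * m → Z2 d.z (m * s * m⁻¹ * s)) → Z2 d.z s
  fixf : ∀ s ∈ d.V, (∀ m ∈ d.M, m * d.f = d.f * m → Z2 d.f (m * s * m⁻¹ * s)) → Z2 d.f s
  irr : ∀ Y, Y ≤ d.V → d.M ≤ 𝒩(Y) → Y = ⊥ ∨ Y = d.V
  nu : ∃ ν : G → M24, MulOn d.M ν ∧ (∀ x, ∃ m ∈ d.M, ν m = x) ∧ ∀ m ∈ d.M, ν m = 1 ↔ m ∈ d.V
  split : ∀ m ∈ d.M, m * m ∈ d.V → ∃ v ∈ d.V, m * v * (m * v) = 1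
  g23 : ∃ g ∈ d.M, ∃ n ∈ d.M, g ^ 23 = 1 ∧ n * g * n⁻¹ = g * g ∧ ∀ v ∈ d.V, g * v = v * g → v = 1
  VX : d.V ≤ ⁅d.V, d.H ⊓ d.M⁆ ⊔ d.Q

/-- Generation. -/
structure OkG (d : Dat G) : Prop where
  gen : ∃ m ∈ d.M, ∃ h ∈ d.H, m * d.z * m⁻¹ ∈ d.Q ∧ m * d.z * m⁻¹ ∈ cj h d.V ∧
    (∀ Y : Subgroup G, d.V ≤ Y → d.Q ≤ Y → (∀ x ∈ cj m d.Q, x ∈ cj h d.V → d.cl x → x ∈ Y) → d.H ⊓ d.M ≤ 𝒩(Y) →
      d.M ⊓ d.J ≤ Y) ∧
    d.A ≤ d.M ⊓ d.J ⊔ cj m d.Q ⊔ cj h d.V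

/-- All facts about the model. -/
structure Ok (d : Dat G) : Prop extends OkA d, OkJ d, OkH d, OkM d, OkG d

/-- The local configuration. -/
structure Loc (d : Dat G) (t : G) : Prop extends Ok d where
  iso : Spor.IsoJ4 d.A
  t_sq : t * t = 1
  t_ne : t ≠ 1
  t_mem : t ∈ 𝒞(d.A)
  cen_le : centralizer {t} ≤ 𝒩(d.A)
  dec : ∀ n ∈ 𝒩(d.A), ∃ a ∈ d.A, a⁻¹ * n ∈ 𝒞(d.A)
  four : ¬ 4 ∣ Nat.card 𝒞(d.A)
  noL : ∀ g : G, g * t * g⁻¹ ∉ d.A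
  fus : ∃ l ∈ d.A, l ≠ 1 ∧ l * l = 1 ∧ IsConj t (t * l)

/-- The core configuration `C(t) = A × ⟨t⟩`. -/
structure Cor (d : Dat G) (t : G) : Prop extends Ok d where
  t_sq : t * t = 1
  t_cen : ∀ a ∈ d.A, a * t = t * a
  cen : ∀ c, c * t = t * c → c ∈ d.A ∨ c * t ∈ d.A
  noL : ∀ g : G, g * t * g⁻¹ ∉ d.A
  fus : ∃ l ∈ d.A, l ≠ 1 ∧ l * l = 1 ∧ IsConj t (t * l)

/-- The doubling `W` of `V`. -/
structure Dbl (d : Dat G) (t : G) (W : Subgroup G) : Prop where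
  le : d.V ≤ W
  comm : ∀ x ∈ W, ∀ y ∈ W, x * y = y * x
  mem : ∀ w ∈ W, tau t w ∈ d.V
  surj : ∀ v ∈ d.V, ∃ w ∈ W, tau t w = v
  ker : ∀ w ∈ W, tau t w = 1 → w ∈ d.V
  norm : d.M ≤ 𝒩(W)
  sq : (∀ w ∈ W, w * w = 1) ∨ ∀ w ∈ W, w * w = tau t w

/-- An element of `W` over `z` which centralises `J`. -/
structure Zst (d : Dat G) (t : G) (W : Subgroup G) (w : G) : Prop where
  mem : w ∈ W
  tau : tau t w = d.z
  cen : ∀ j ∈ d.J, j * w = w * j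

/-- `W` is elementary abelian, and the conjugates of `w` over elements of `Q` act trivially on `Q` modulo `⟨z, w⟩`. -/
structure Elm (d : Dat G) (W : Subgroup G) (w : G) : Prop where
  sq : ∀ x ∈ W, x * x = 1
  act : ∀ a ∈ d.A, a * d.z * a⁻¹ ∈ d.Q → ∀ q ∈ d.Q, Z4 d.z w ⁅q, a * w * a⁻¹⁆

/-- The fusion of `t` in `N(W) / W`. -/
def Fus (d : Dat G) (t : G) (W : Subgroup G) : Prop :=
  ∃ s ∈ 𝒩(W), ∃ y ∈ d.Q, y * y = 1 ∧ y ∉ d.V ∧ ∃ w ∈ W, s * t * s⁻¹ = t * y * w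

/-- The wreath product modulo `W`. -/
structure Bar (d : Dat G) (t : G) (W N : Subgroup G) : Prop where
  le : W ≤ N
  norm : N ≤ 𝒩(W)
  comm : ∀ x ∈ N, ∀ y ∈ N, ⁅x, t * y * t⁻¹⁆ ∈ W
  mem : ∀ x ∈ N, ∃ m ∈ d.M, ∃ w ∈ W, dg t x = m * w
  surj : ∀ m ∈ d.M, ∃ x ∈ N, ∃ w ∈ W, dg t x = m * w
  inj : ∀ x ∈ N, dg t x ∈ W → x ∈ W
  perf : N ≤ ⁅N, N⁆ ⊔ W
  simp : ∀ Y, W ≤ Y → Y ≤ N → N ≤ 𝒩(Y) → Y = W ∨ Y = N

/-- The splitting of `W`. -/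
structure Spl (t : G) (W N V₁ : Subgroup G) : Prop where
  le : V₁ ≤ W
  norm : N ≤ 𝒩(V₁)
  cen : N ≤ 𝒞(cj t V₁)
  disj : V₁ ⊓ cj t V₁ = ⊥
  sup : W ≤ V₁ ⊔ cj t V₁

/-- `P` is the diagonal of the commuting product `K Kᵗ`, and `x ↦ x xᵗ` is an isomorphism from `K` to `P`. -/
structure Dg (t : G) (K P : Subgroup G) : Prop where
  cm : Cm t K
  mem : ∀ x ∈ K, dg t x ∈ P
  surj : ∀ a ∈ P, ∃ x ∈ K, dg t x = a
  inj : ∀ x ∈ K, dg t x = 1 → x = 1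

/-- The first components of the elements of `R`. -/
def Dg.lo {t : G} {K P : Subgroup G} (w : Dg t K P) (R : Subgroup G) : Subgroup G where
  carrier := {x | x ∈ K ∧ dg t x ∈ R}
  one_mem' := ⟨K.one_mem, by rw [dg_one]; exact R.one_mem⟩
  mul_mem' := fun {_ _} ⟨h1, h2⟩ ⟨h3, h4⟩ => ⟨K.mul_mem h1 h3, by rw [w.cm.mul h1 h3]; exact R.mul_mem h2 h4⟩
  inv_mem' := fun {_} ⟨h1, h2⟩ => ⟨K.inv_mem h1, by rw [w.cm.inv h1]; exact R.inv_mem h2⟩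

/-- The product of the two components of `R`. -/
def Dg.dub {t : G} {K P : Subgroup G} (w : Dg t K P) (R : Subgroup G) : Subgroup G := w.lo R ⊔ cj t (w.lo R)

/-- The first component `w` of `z` is canonical. -/
structure Cz (d : Dat G) (t : G) (K : Subgroup G) (w : G) : Prop where
  mem : w ∈ K
  dg : dg t w = d.z
  cen : ∀ h ∈ d.H, h * w = w * h
  q : ∀ a ∈ d.A, a * d.z * a⁻¹ ∈ d.Q → a * w * a⁻¹ ∈ K

/-- The first components of `V` commute with the second components of the conjugates of `V` under `H`. -/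
def Rel4 (d : Dat G) (t : G) (K : Subgroup G) : Prop :=
  ∀ h ∈ d.H, ∀ x ∈ K, ∀ y ∈ K, dg t x ∈ d.V → dg t y ∈ d.V → Commute x (h * (t * y * t⁻¹) * h⁻¹)

/-- The global configuration. -/
structure Glb (d : Dat G) (t : G) (L X : Subgroup G) (w : G) : Prop extends Loc d t, Dg t L d.A where
  normal : X.Normal
  X_simple : IsSimpleGroup X
  L_le : L ≤ X
  w_mem : w ∈ L
  w_dg : dg t w = d.z

end

/-! ### The statements of the jobs -/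

/-- The model exists. -/
def MT : Prop := ∀ {G : Type u} [Group G] [Finite G] (A : Subgroup G), Spor.IsoJ4 A → ∃ d : Dat G, Ok d ∧ d.A = A

/-- (MAP) transport of the facts along an injective homomorphism. -/
def MapThm : Prop := ∀ {Γ : Type} [Group Γ] [Finite Γ] {G : Type u} [Group G] [Finite G] (d : Dat Γ) (φ : Γ →* G),
  Function.Injective φ → Ok d → Ok (d.map φ)

/-- The model of `M24` for project WREATH. -/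
def HTop : Prop := ∃ (Γ : Type) (_ : Group Γ) (_ : Finite Γ) (e : Wr.Dat Γ) (Th : Subgroup Γ), Wr.Top e Th ∧
  Nonempty (M24 ≃* e.L)

/-- (B0) homomorphisms between involution centralisers. -/
def B0 : Prop := ∀ {G : Type u} [Group G] [Finite G] (d e : Dat G) (l k : G) (ρ : G → G), Ok d → Ok e → l ∈ d.A →
  l * l = 1 → l ≠ 1 → k ∈ e.A → k * k = 1 → k ≠ 1 → MulOn (d.A ⊓ centralizer {l}) ρ →
  (∀ x ∈ d.A ⊓ centralizer {l}, ρ x ∈ e.A ⊓ centralizer {k}) → (∀ x ∈ d.Jc l, ρ x = 1 → Z2 l x) →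
  ρ l ≠ 1 ∧ ∀ y ∈ e.Jc k, ∃ x ∈ d.Jc l, ρ x = y

/-- (B1) no involution of `A` lies in a conjugate of `C(A)`. -/
def B1 : Prop := ∀ {G : Type u} [Group G] [Finite G] (d : Dat G), Ok d → (∀ g, ∃ e : Dat G, Ok e ∧ e.A = cj g d.A) →
  IsStandardSubgroup d.A → (∀ n ∈ 𝒩(d.A), ∃ a ∈ d.A, a⁻¹ * n ∈ 𝒞(d.A)) →
  ∀ l ∈ d.A, l * l = 1 → l ≠ 1 → ∀ g : G, l ∉ cj g 𝒞(d.A)

/-- (B2) the local configuration. -/
def B2 : Prop := ∀ {G : Type u} [Group G] [Finite G] (d : Dat G), Ok d → Spor.IsoJ4 d.A →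
  (∀ g, ∃ e : Dat G, Ok e ∧ e.A = cj g d.A) → IsStandardSubgroup d.A →
  (∀ n ∈ 𝒩(d.A), ∃ a ∈ d.A, a⁻¹ * n ∈ 𝒞(d.A)) → (∀ l ∈ d.A, l * l = 1 → l ≠ 1 → ∀ g : G, l ∉ cj g 𝒞(d.A)) →
  (∃ g r : G, g ∉ 𝒩(d.A) ∧ r ∈ cj g 𝒞(d.A) ∧ r ∈ 𝒩(d.A) ∧ r * r = 1 ∧ r ≠ 1) → ∃ t, Loc d t

/-- The core theorem. -/
def CoreThm : Prop := ∀ {G : Type u} [Group G] [Finite G] (d : Dat G) (t : G), Cor d t → ∃ L, Wrt t d.A L

/-- (C) the quotient by the odd part of `C(A) ⊓ C(t)`. -/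
def CThm : Prop := ∀ {G : Type u} [Group G] [Finite G] (d : Dat G) (t : G), Loc d t → ∃ L, Wrt t d.A L

/-- (D1) the first translation. -/
def D1 : Prop := ∀ {G : Type u} [Group G] [Finite G] (d : Dat G) (t : G), Cor d t → ∃ u ∈ 𝒞(d.V), tau t u = d.z

/-- (D2) the doubling. -/
def D2 : Prop := ∀ {G : Type u} [Group G] [Finite G] (d : Dat G) (t : G), Cor d t → (∃ u ∈ 𝒞(d.V), tau t u = d.z) →
  ∃ W, Dbl d t W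

/-- (D3) the element over `z`. -/
def D3 : Prop := ∀ {G : Type u} [Group G] [Finite G] (d : Dat G) (t : G) (W : Subgroup G), Cor d t → Dbl d t W →
  ∃ w, Zst d t W w

/-- (D4) `W` is elementary abelian. -/
def D4 : Prop := ∀ {G : Type u} [Group G] [Finite G] (d : Dat G) (t : G) (W : Subgroup G) (w : G), Cor d t →
  Dbl d t W → Zst d t W w → Elm d W w

/-- (E) fusion in `N(W) / W`. -/
def EThm : Prop := ∀ {G : Type u} [Group G] [Finite G] (d : Dat G) (t : G) (W : Subgroup G) (w : G), Cor d t →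
  Dbl d t W → Zst d t W w → Elm d W w → Fus d t W

/-- (F1) the wreath product in `N(W) / W`. -/
def F1 : Prop := ∀ {G : Type u} [Group G] [Finite G] (d : Dat G) (t : G) (W : Subgroup G), Cor d t →
  Dbl d t W → (∀ x ∈ W, x * x = 1) → Fus d t W → ∃ N, Bar d t W N

/-- (F2) the splitting of `W`. -/
def F2 : Prop := ∀ {G : Type u} [Group G] [Finite G] (d : Dat G) (t : G) (W N : Subgroup G), Cor d t →
  Dbl d t W → (∀ x ∈ W, x * x = 1) → Bar d t W N → ∃ V₁, Spl t W N V₁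

/-- (F3) the components of `M`. -/
def F3 : Prop := ∀ {G : Type u} [Group G] [Finite G] (d : Dat G) (t : G) (W N V₁ : Subgroup G), Cor d t →
  Dbl d t W → (∀ x ∈ W, x * x = 1) → Bar d t W N → Spl t W N V₁ → ∃ K, Dg t K d.M

/-- (G1) the canonical components. -/
def G1 : Prop := ∀ {G : Type u} [Group G] [Finite G] (d : Dat G) (t : G) (K : Subgroup G), Cor d t → Dg t K d.M →
  ∃ w, Cz d t K w

/-- (G2) the components of `J`. -/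
def G2 : Prop := ∀ {G : Type u} [Group G] [Finite G] (d : Dat G) (t : G) (K : Subgroup G) (w : G), Cor d t →
  Dg t K d.M → Cz d t K w → Rel4 d t K

/-- (G3) the components of `A`. -/
def G3 : Prop := ∀ {G : Type u} [Group G] [Finite G] (d : Dat G) (t : G) (K : Subgroup G) (w : G), Cor d t →
  Dg t K d.M → Cz d t K w → Rel4 d t K → ∃ L, Wrt t d.A L

/-- (H1) the Sylow subgroup. -/
def H1 : Prop := ∀ {G : Type u} [Group G] [Finite G] (d : Dat G) (t : G) (L X : Subgroup G) (w : G)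
  (g : Glb d t L X w), IsSylowIn 2 (g.toDg.dub d.T) X

/-- (H2) the orbit of `w` under `N(W)`. -/
def H2 : Prop := ∀ {G : Type u} [Group G] [Finite G] (d : Dat G) (t : G) (L X : Subgroup G) (w : G)
  (g : Glb d t L X w), IsSylowIn 2 (g.toDg.dub d.T) X → ∀ n ∈ X, n ∈ 𝒩(g.toDg.dub d.V) → n * w * n⁻¹ ∈ L

/-- (H3) the fusion of `w`. -/
def H3 : Prop := ∀ {G : Type u} [Group G] [Finite G] (d : Dat G) (t : G) (L X : Subgroup G) (w : G)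
  (g : Glb d t L X w), IsSylowIn 2 (g.toDg.dub d.T) X → (∀ n ∈ X, n ∈ 𝒩(g.toDg.dub d.V) → n * w * n⁻¹ ∈ L) →
  ∀ x ∈ X, x * w * x⁻¹ ∈ g.toDg.dub d.T → ∃ a ∈ L, x * w * x⁻¹ = a * w * a⁻¹

/-- (H4) the final contradiction. -/
def H4 : Prop := ∀ {G : Type u} [Group G] [Finite G] (d : Dat G) (t : G) (L X : Subgroup G) (w : G)
  (g : Glb d t L X w), IsSylowIn 2 (g.toDg.dub d.T) X →
  (∀ x ∈ X, x * w * x⁻¹ ∈ g.toDg.dub d.T → ∃ a ∈ L, x * w * x⁻¹ = a * w * a⁻¹) → False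

end CL.SJ
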