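/-
Project SJ4: the basic calculus.
-/
import Cfsg.Agent.SJ4.Defs

set_option autoImplicit false
set_option linter.unusedSectionVars false
open Cfsg Subgroup CL.Even CL.Grp CL.Wr CL.Wr.P5a
open scoped commutatorElement

namespace CL.SJ

variable {G : Type*} [Group G] {d : Dat G} {t : G}

/-! ### The cocycle `τ` -/

theorem tau_def (t y : G) : tau t y = y * t * y⁻¹ * t := rfl

theorem tau_conj_t (ht : t * t = 1) (y : G) : y * t * y⁻¹ = tau t y * t := by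
  rw [tau_def, mul_assoc _ t t, ht, mul_one]

theorem tau_eq_one (ht : t * t = 1) {y : G} : tau t y = 1 ↔ y * t = t * y := by
  rw [tau_def, mul_eq_one_iff_eq_inv, inv_eq_of_sq ht, mul_inv_eq_iff_eq_mul]

theorem tau_mul (ht : t * t = 1) (x y : G) : tau t (x * y) = x * tau t y * x⁻¹ * tau t x := by
  calc tau t (x * y) = x * (y * t * y⁻¹ * (t * t)) * x⁻¹ * t := by rw [ht, tau_def]; group
    _ = _ := by rw [tau_def, tau_def]; group

theorem tau_conj {g : G} (hg : g * t = t * g) (y : G) : tau t (g * y * g⁻¹) = g * tau t y * g⁻¹ := by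
  have h : g⁻¹ * t * g = t := by rw [mul_assoc, ← hg, inv_mul_cancel_left]
  calc tau t (g * y * g⁻¹) = g * (y * (g⁻¹ * t * g) * y⁻¹ * (g⁻¹ * t * g)) * g⁻¹ := by rw [tau_def]; group
    _ = _ := by rw [h, tau_def]

theorem tau_mul_cen {g : G} (hg : g * t = t * g) (y : G) : tau t (y * g) = tau t y := by
  calc tau t (y * g) = y * (g * t) * g⁻¹ * y⁻¹ * t := by rw [tau_def]; group
    _ = _ := by rw [hg, tau_def]; group

theorem tau_eq_iff {x y : G} : tau t x = tau t y ↔ x⁻¹ * y * t = t * (x⁻¹ * y) := by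
  rw [tau_def, tau_def, mul_left_inj]
  refine ⟨fun h => ?_, fun h => ?_⟩
  · calc x⁻¹ * y * t = x⁻¹ * (y * t * y⁻¹) * y := by group
      _ = _ := by rw [← h]; group
  · calc x * t * x⁻¹ = x * (t * (x⁻¹ * y)) * y⁻¹ := by group
      _ = _ := by rw [← h]; group

theorem tau_eq_dg (ht : t * t = 1) {y : G} (hy : y * y = 1) : tau t y = dg t y := by
  rw [tau_def, dg, inv_eq_of_sq hy, inv_eq_of_sq ht]; group

theorem t_conj_eq (ht : t * t = 1) (y : G) : t * y * t⁻¹ = (tau t y)⁻¹ * y := by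
  rw [tau_def, inv_eq_of_sq ht]
  calc t * y * t = t⁻¹ * y * t⁻¹ := by rw [inv_eq_of_sq ht]
    _ = _ := by group

theorem dg_conj {g : G} (hg : g * t = t * g) (y : G) : dg t (g * y * g⁻¹) = g * dg t y * g⁻¹ := by
  have h : g⁻¹ * t * g = t := by rw [mul_assoc, ← hg, inv_mul_cancel_left]
  calc dg t (g * y * g⁻¹) = g * (y * ((g⁻¹ * t * g) * y * (g⁻¹ * t * g)⁻¹)) * g⁻¹ := by rw [dg]; group
    _ = _ := by rw [h, dg]

theorem Z2.mul {z x y : G} (hz : z * z = 1) (hx : Z2 z x) (hy : Z2 z y) : Z2 z (x * y) := by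
  rcases hx with rfl | rfl <;> rcases hy with rfl | rfl <;> simp [Z2, hz]

theorem Z2.sq {z x : G} (hz : z * z = 1) (hx : Z2 z x) : x * x = 1 := by
  rcases hx with rfl | rfl <;> simp [hz]

theorem Z2.comm {z x g : G} (hx : Z2 z x) (h : g * z = z * g) : g * x = x * g := by
  rcases hx with rfl | rfl <;> simp [h]

theorem Z2.mem {z x : G} {K : Subgroup G} (hx : Z2 z x) (h : z ∈ K) : x ∈ K := by
  rcases hx with rfl | rfl
  exacts [one_mem _, h]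

theorem Z2.z4 {z w x : G} (hx : Z2 z x) : Z4 z w x := hx.imp_right Or.inl

theorem Z4.mem {z w x : G} {K : Subgroup G} (hx : Z4 z w x) (h : z ∈ K) (h' : w ∈ K) : x ∈ K := by
  rcases hx with rfl | rfl | rfl | rfl
  exacts [one_mem _, h, h', mul_mem h' h]

/-- A homomorphism from a perfect group to `⟨z⟩` is trivial. -/
theorem cen_of_perf {K : Subgroup G} (hK : K ≤ ⁅K, K⁆) {z w : G} (hz : ∀ j ∈ K, j * z = z * j)
    (h : ∀ j ∈ K, Z2 z ⁅w, j⁆) (hzK : z ∈ K) : ∀ j ∈ K, j * w = w * j := fun j hj =>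
  mem_cent.1 (mem_cent_of_perfect hK (n := w) fun x hx =>
    ⟨(h x hx).mem hzK, mem_cent.2 fun y hy => (h x hx).comm (hz y hy)⟩) j hj

/-- A prime dividing the length of an orbit on an elementary abelian group of order `2 ^ k`. -/
theorem prime_orbit [Finite G] {N F : Subgroup G} (hN : N ≤ 𝒩(F)) {k r : ℕ} (hF : Nat.card F = 2 ^ k) {x : G}
    (hx : x ∈ F) (hr : r.Prime) (h : r ∣ (centralizer {x}).relIndex N) : ∃ n < k, 2 ^ k % r = 2 ^ n % r := by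
  have := Fact.mk hr
  obtain ⟨P, hP⟩ := exists_isSylowIn r N
  have h1 : ¬ P ≤ centralizer {x} := fun e =>
    hP.not_dvd_relIndex_of_le (le_inf e hP.le) inf_le_right (by rwa [inf_relIndex_right])
  let _ : MulAction P F := MulAction.compHom F ((F.normalizerMonoidHom.comp (inclusion (hP.le.trans hN))))
  have h2 := hP.isPGroup.card_modEq_card_fixedPoints F
  have h3 : Nat.card (MulAction.fixedPoints P F) = Nat.card (F ⊓ 𝒞(P) : Subgroup G) :=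
    Nat.card_congr ⟨fun y => ⟨y.1.1, y.1.2, mem_cent.2 fun g hg =>
        mul_inv_eq_iff_eq_mul.1 (congrArg Subtype.val (y.2 ⟨g, hg⟩))⟩,
      fun y => ⟨⟨y.1, y.2.1⟩, fun g => Subtype.ext (mul_inv_eq_iff_eq_mul.2 (mem_cent.1 y.2.2 g g.2))⟩,
      fun _ => rfl, fun _ => rfl⟩
  obtain ⟨n, hn, e⟩ := (Nat.dvd_prime_pow Nat.prime_two).1 (hF ▸ card_dvd_of_le (inf_le_left : F ⊓ 𝒞(P) ≤ F))
  refine ⟨n, lt_of_le_of_ne hn fun e' => h1 fun g hg => ?_, by rwa [h3, hF, e] at h2⟩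
  have h4 : F ⊓ 𝒞(P) = F := eq_of_le_of_card_ge inf_le_left (by rw [e, hF, e'])
  exact mem_cent1.2 (mem_cent.1 (h4.ge hx).2 g hg)

/-- The projection of `N(A) = A × C(A)` to `A`. -/
theorem exists_proj {A : Subgroup G} (hZ : ∀ a ∈ A, a ∈ 𝒞(A) → a = 1) (h : ∀ n ∈ 𝒩(A), ∃ a ∈ A, a⁻¹ * n ∈ 𝒞(A)) :
    ∃ ρ : G → G, MulOn 𝒩(A) ρ ∧ (∀ n ∈ 𝒩(A), ρ n ∈ A) ∧ (∀ n ∈ 𝒩(A), (ρ n)⁻¹ * n ∈ 𝒞(A)) ∧
      (∀ a ∈ A, ρ a = a) ∧ ∀ n ∈ 𝒩(A), ρ n = 1 ↔ n ∈ 𝒞(A) := by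
  choose! ρ h1 h2 using h
  have uq : ∀ n ∈ 𝒩(A), ∀ a ∈ A, a⁻¹ * n ∈ 𝒞(A) → ρ n = a := fun n hn a ha e =>
    (inv_mul_eq_one.1 (hZ _ (mul_mem (inv_mem ha) (h1 n hn)) (by
      have := mul_mem e (inv_mem (h2 n hn))
      rwa [show a⁻¹ * n * ((ρ n)⁻¹ * n)⁻¹ = a⁻¹ * ρ n by group] at this))).symm
  refine ⟨ρ, fun x hx y hy => uq _ (mul_mem hx hy) _ (mul_mem (h1 x hx) (h1 y hy)) ?_, h1, h2,
    fun a ha => uq a (le_normalizer ha) a ha (by rw [inv_mul_cancel]; exact one_mem _),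
    fun n hn => ⟨fun e => by simpa [e] using h2 n hn, fun e => uq n hn 1 (one_mem _) (by simpa using e)⟩⟩
  have e := comm_of_mem (h2 x hx) (inv_mem (h1 y hy))
  rw [show (ρ x * ρ y)⁻¹ * (x * y) = (ρ y)⁻¹ * ((ρ x)⁻¹ * x) * y by group, e, mul_assoc]
  exact mul_mem (h2 x hx) (h2 y hy)

theorem Dat.cl.conj {x a : G} (h : d.cl x) (ha : a ∈ d.A) : d.cl (a * x * a⁻¹) := by
  obtain ⟨b, hb, rfl⟩ := h
  exact ⟨a * b, mul_mem ha hb, by group⟩

theorem Dat.cl_conj {x a : G} (ha : a ∈ d.A) : d.cl (a * x * a⁻¹) ↔ d.cl x :=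
  ⟨fun h => by simpa [mul_assoc] using h.conj (inv_mem ha), fun h => h.conj ha⟩

theorem Dat.cl_z (d : Dat G) : d.cl d.z := ⟨1, one_mem _, by simp⟩

theorem Dat.Jc_conj {a : G} (ha : a ∈ d.A) (l : G) : d.Jc (a * l * a⁻¹) = cj a (d.Jc l) := by
  have : cj a (d.A ⊓ centralizer {l}) = d.A ⊓ centralizer {a * l * a⁻¹} := by
    ext x
    rw [mem_cj, mem_inf, mem_inf, mem_cent1, mem_cent1, mul_mem_cancel_right ha, mul_mem_cancel_left (inv_mem ha)]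
    refine and_congr_right fun _ => ⟨fun e => ?_, fun e => ?_⟩
    · calc x * (a * l * a⁻¹) = a * (a⁻¹ * x * a * l) * a⁻¹ := by group
        _ = _ := by rw [e]; group
    · calc a⁻¹ * x * a * l = a⁻¹ * (x * (a * l * a⁻¹)) * a := by group
        _ = _ := by rw [e]; group
  rw [Dat.Jc, Dat.Jc, cj_commutator, this]

theorem Dat.Jc_le (d : Dat G) (l : G) : d.Jc l ≤ d.A ⊓ centralizer {l} := comm_le_self _

/-! ### The model -/

namespace Ok

variable (o : Ok d)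
include o

theorem H_A : d.H ≤ d.A := fun g h => ((o.mem_H g).1 h).1
theorem M_A : d.M ≤ d.A := fun g h => ((o.mem_M g).1 h).1
theorem M_norm : d.M ≤ 𝒩(d.V) := fun g h => ((o.mem_M g).1 h).2
theorem H_z {g : G} (h : g ∈ d.H) : g * d.z = d.z * g := ((o.mem_H g).1 h).2
theorem T_A : d.T ≤ d.A := o.syl.le
theorem V_A : d.V ≤ d.A := o.V_T.trans o.T_A
theorem Q_A : d.Q ≤ d.A := o.Q_T.trans o.T_A
theorem V_H : d.V ≤ d.H := o.V_T.trans o.T_H
theorem V_M : d.V ≤ d.M := o.V_T.trans o.T_M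
theorem Q_H : d.Q ≤ d.H := o.Q_T.trans o.T_H
theorem Q_M : d.Q ≤ d.M := o.Q_T.trans o.T_M
theorem J_H : d.J ≤ d.H := o.J_eq ▸ comm_le_self _
theorem J_A : d.J ≤ d.A := o.J_H.trans o.H_A
theorem J_norm : d.H ≤ 𝒩(d.J) := o.J_eq ▸ le_norm_commutator le_normalizer le_normalizer
theorem p_H : d.p ∈ d.H := o.J_H o.p_J
theorem p_inv : d.p⁻¹ = d.p * d.p := inv_eq_of_mul_eq_one_left o.p_cube
theorem z_sq : d.z * d.z = 1 := o.V_sq _ o.z_V
theorem z_A : d.z ∈ d.A := o.V_A o.z_V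
theorem f_A : d.f ∈ d.A := o.V_A o.f_V
theorem H_eq : d.H = d.A ⊓ centralizer {d.z} := by ext g; rw [o.mem_H, mem_inf, mem_cent1]
theorem Jc_z : d.Jc d.z = d.J := by rw [Dat.Jc, ← o.H_eq, o.J_eq]
theorem V_comm {u v : G} (hu : u ∈ d.V) (hv : v ∈ d.V) : u * v = v * u := comm_of_sq o.V_sq hu hv
theorem conj_V {m v : G} (hm : m ∈ d.M) (hv : v ∈ d.V) : m * v * m⁻¹ ∈ d.V := conj_mem (o.M_norm hm) hv
theorem conj_Q {h q : G} (hh : h ∈ d.H) (hq : q ∈ d.Q) : h * q * h⁻¹ ∈ d.Q := conj_mem (o.Q_norm hh) hq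
theorem isP_Q : IsPGroup 2 d.Q := o.syl.isPGroup.to_le o.Q_T
theorem cenV {g : G} (hg : g ∈ d.A) (h : g ∈ 𝒞(d.V)) : g ∈ d.V :=
  o.cenU g hg fun _ hu _ => (comm_of_mem h hu).symm
theorem cenJ {g : G} (hg : g ∈ d.A) (h : ∀ j ∈ d.J, j * g = g * j) : Z2 d.z g :=
  o.cenQ g hg fun q hq => (h q (o.Q_J hq)).symm
theorem cl_A {x : G} (h : d.cl x) : x ∈ d.A := by
  obtain ⟨a, ha, rfl⟩ := h
  exact mul_mem (mul_mem ha o.z_A) (inv_mem ha)
theorem cl_sq {x : G} (h : d.cl x) : x * x = 1 := by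
  obtain ⟨a, -, rfl⟩ := h
  rw [conj_mul, o.z_sq, mul_one, mul_inv_cancel]
theorem cl_ne {x : G} (h : d.cl x) : x ≠ 1 := by
  obtain ⟨a, -, rfl⟩ := h
  exact fun e => o.z_ne (conj_eq_one_iff.1 e)

theorem stab {a b : G} (ha : a ∈ d.A) (hb : b ∈ d.A) (h : a * d.z * a⁻¹ = b * d.z * b⁻¹) : b⁻¹ * a ∈ d.H :=
  (o.mem_H _).2 ⟨mul_mem (inv_mem hb) ha, by
    calc b⁻¹ * a * d.z = b⁻¹ * (a * d.z * a⁻¹) * a := by group
      _ = _ := by rw [h]; group⟩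

/-- `M` controls the fusion of `z` in `V`. -/
theorem fuse {v : G} (hv : v ∈ d.V) (h : d.cl v) : ∃ m ∈ d.M, v = m * d.z * m⁻¹ := by
  obtain ⟨m, hm, e | e⟩ := o.orbV v hv (o.cl_ne h)
  · exact ⟨m, hm, e⟩
  · exact absurd ((Dat.cl_conj (o.M_A hm)).1 (e ▸ h)) o.f_not

theorem fuse' {v : G} (hv : v ∈ d.V) (h1 : v ≠ 1) (h : ¬ d.cl v) : ∃ m ∈ d.M, v = m * d.f * m⁻¹ := by
  obtain ⟨m, hm, e | e⟩ := o.orbV v hv h1
  · exact absurd ⟨m, o.M_A hm, e⟩ h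
  · exact ⟨m, hm, e⟩

theorem conj_into_V {u : G} (hu : u ∈ d.A) (h : u * u = 1) : ∃ a ∈ d.A, a * u * a⁻¹ ∈ d.V := by
  by_cases h1 : u = 1
  · exact ⟨1, one_mem _, by simp [h1]⟩
  obtain ⟨a, ha, rfl | rfl⟩ := o.two u hu h h1
  · exact ⟨a⁻¹, inv_mem ha, by simpa [mul_assoc] using o.z_V⟩
  · exact ⟨a⁻¹, inv_mem ha, by simpa [mul_assoc] using o.f_V⟩

theorem exists_Q {x : G} (hx : x ∈ d.Q) (h : ¬ Z2 d.z x) : ∃ q ∈ d.Q, q * x * q⁻¹ = d.z * x := by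
  by_contra! hn
  refine h (o.cenQ x (o.Q_A hx) fun q hq => ?_)
  rcases o.Q_comm q hq x hx with e | e
  · exact (commutatorElement_eq_one_iff_mul_comm.1 e).symm
  · exact absurd (by rw [← e, commutatorElement_def]; group) (hn q hq)

theorem covQ {y : G} (hy : y ∈ d.Q) (h : d.cl y) : ∃ h ∈ d.H, y ∈ cj h d.V := by
  by_cases e : y = d.z
  · exact ⟨1, one_mem _, by rw [cj_one, e]; exact o.z_V⟩
  obtain ⟨k, hk, rfl⟩ := o.orbQ y hy h e
  exact ⟨k, hk, conj_mem_cj k o.x_V⟩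

theorem Q_cjM {h q : G} (hh : h ∈ d.H) (hq : q ∈ d.Q) : h⁻¹ * q * h ∈ d.M := o.Q_M (conj_mem' (o.Q_norm hh) hq)

theorem fixM {v : G} (hv : v ∈ d.V) (h : ∀ m ∈ d.M, m * v = v * m) : v = 1 := by
  obtain ⟨g, hg, -, -, -, -, e⟩ := o.g23
  exact e v hv (h g hg)

theorem cenA {a : G} (ha : a ∈ d.A) (h : a ∈ 𝒞(d.A)) : a = 1 :=
  o.fixM (o.cenV ha (cent_mono o.V_A h)) fun _ hm => comm_of_mem h (o.M_A hm)

theorem A_perf : d.A ≤ ⁅d.A, d.A⁆ := by
  rcases o.simple.eq_bot_or_eq_top_of_normal (commutator d.A) inferInstance with e | e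
  · have h := (o.Q_J.trans o.J_perf).trans (commutator_mono o.J_A o.J_A) o.z_Q
    rw [← d.A.map_subtype_commutator, e, Subgroup.map_bot] at h
    exact absurd (mem_bot.1 h) o.z_ne
  · rw [← d.A.map_subtype_commutator, e, ← MonoidHom.range_eq_map, range_subtype]

theorem A_normal {N : Subgroup G} (h : N ≤ d.A) (hn : d.A ≤ 𝒩(N)) : N = ⊥ ∨ N = d.A := by
  have : (N.subgroupOf d.A).Normal := (normal_subgroupOf_iff_le_normalizer h).2 hn
  have := o.simple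
  exact (this.eq_bot_or_eq_top_of_normal (N.subgroupOf d.A) inferInstance).imp
    (fun e => le_bot_iff.1 ((le_inf le_rfl h).trans (subgroupOf_eq_bot.1 e).le_bot))
    fun e => le_antisymm h (subgroupOf_eq_top.1 e)

variable [Finite G]

theorem exists_y : ∃ y ∈ d.Q, d.cl y ∧ y ∉ d.V := by
  by_contra! h
  have := card_le_of_le (o.genQ.trans ((closure_le d.V).2 fun y hy => h y hy.1 hy.2))
  rw [o.card_Q, o.card_V] at this
  omega

theorem genV : d.V ≤ closure {v | v ∈ d.V ∧ d.cl v} := by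
  refine ((o.irr _ ((closure_le _).2 fun v hv => hv.1) fun m hm => mem_norm_of fun x hx => ?_).resolve_left
    fun e => o.z_ne (mem_bot.1 (e.le (Subgroup.subset_closure (by exact ⟨o.z_V, d.cl_z⟩))))).ge
  have : closure {v | v ∈ d.V ∧ d.cl v} ≤ cj m⁻¹ (closure {v | v ∈ d.V ∧ d.cl v}) := (closure_le _).2 fun v hv =>
    mem_cj.2 (Subgroup.subset_closure (by rw [inv_inv]; exact ⟨o.conj_V hm hv.1, hv.2.conj (o.M_A hm)⟩))
  simpa using mem_cj.1 (this hx)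

theorem conj_T {E : Subgroup G} (hE : IsPGroup 2 E) (h : E ≤ d.A) : ∃ a ∈ d.A, cj a E ≤ d.T := by
  have := Fact.mk Nat.prime_two
  exact syl_conj_le o.syl hE h

theorem uniqA {E : Subgroup G} (h : E ≤ d.A) (h2 : ∀ x ∈ E, x * x = 1) (hc : 2048 ≤ Nat.card E) :
    ∃ a ∈ d.A, cj a E = d.V := by
  obtain ⟨a, ha, e⟩ := o.conj_T (isP_of_sq h2) h
  refine ⟨a, ha, o.uniqM _ (e.trans o.T_M) ?_ (by rwa [card_cj])⟩
  rintro _ ⟨x, hx, rfl⟩
  rw [← map_mul, h2 x hx, map_one]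

theorem card_ea {E : Subgroup G} (h : E ≤ d.A) (h2 : ∀ x ∈ E, x * x = 1) : Nat.card E ≤ 2048 := by
  by_contra! hc
  obtain ⟨a, -, e⟩ := o.uniqA h h2 hc.le
  rw [← card_cj a, e, o.card_V] at hc
  omega

theorem self_cen {E : Subgroup G} (h : E ≤ d.A) (h2 : ∀ x ∈ E, x * x = 1) (hc : 2048 ≤ Nat.card E) {g : G}
    (hg : g ∈ d.A) (e : g ∈ 𝒞(E)) : g ∈ E := by
  obtain ⟨a, ha, e'⟩ := o.uniqA h h2 hc
  have := o.cenV (mul_mem (mul_mem ha hg) (inv_mem ha)) (by rw [← e', ← cj_cent]; exact conj_mem_cj a e)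
  rw [← e', mem_cj] at this
  simpa [mul_assoc] using this

theorem norm_Q {w : G} (h : w ∈ 𝒩(d.J)) : w ∈ 𝒩(d.Q) :=
  mem_norm_of_cj_le (o.O2J _ (cj_le_of_le o.Q_J h) (isPGroup_cj o.isP_Q w)
    (by rw [← cj_norm, ← cj_eq h]; exact cj_mono w (o.J_H.trans o.Q_norm)))

omit [Finite G] in
/-- An element which normalises `J` and centralises `Q` centralises `J`. -/
theorem cen_J {w : G} (h : w ∈ 𝒩(d.J)) (hQ : ∀ q ∈ d.Q, w * q = q * w) : ∀ j ∈ d.J, j * w = w * j := by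
  refine cen_of_perf o.J_perf (fun j hj => o.H_z (o.J_H hj)) (fun j hj => o.cenQ _ ?_ fun q hq => ?_) (o.Q_J o.z_Q)
  · exact o.J_A (mul_mem (conj_mem h hj) (inv_mem hj))
  · have h1 := hQ _ (conj_mem' (o.Q_norm (o.J_H hj)) hq)
    calc ⁅w, j⁆ * q = w * j * w⁻¹ * (j⁻¹ * q * j * w) * w⁻¹ * j⁻¹ := by rw [commutatorElement_def]; group
      _ = (w * q) * j * w⁻¹ * j⁻¹ := by rw [← h1]; group
      _ = _ := by rw [hQ q hq, commutatorElement_def]; group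

end Ok

/-! ### The core configuration -/

namespace Cor

variable (c : Cor d t)
include c

theorem t_inv : t⁻¹ = t := inv_eq_of_sq c.t_sq
theorem t_not : t ∉ d.A := by simpa using c.noL 1
theorem tau_A {a : G} (ha : a ∈ d.A) : tau t a = 1 := (tau_eq_one c.t_sq).2 (c.t_cen a ha)
theorem t_conj {a : G} (ha : a ∈ d.A) : t * a * t⁻¹ = a := by rw [← c.t_cen a ha, mul_inv_cancel_right]

/-- An element centralising `t` and an element `w` outside `C(t)` lies in `A`, if its `A`-part centralises `w`. -/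
theorem mem_A {g w : G} (h : g * t = t * g) (hw : tau t w ≠ 1) (h1 : g * w = w * g)
    (h2 : g * t ∈ d.A → g * t * w = w * (g * t)) : g ∈ d.A :=
  (c.cen g h).resolve_right fun e => hw ((tau_eq_one c.t_sq).2 (mul_left_cancel (a := g) (by
    rw [← mul_assoc, ← mul_assoc, h2 e, h1, mul_assoc])))

theorem cen_zt {g : G} (h : g * t = t * g) (hz : g * d.z = d.z * g) : g ∈ d.H ∨ g * t ∈ d.H :=
  (c.cen g h).imp (fun e => (c.mem_H g).2 ⟨e, hz⟩) fun e => (c.mem_H _).2 ⟨e, by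
    rw [mul_assoc, ← c.t_cen _ c.toOk.z_A, ← mul_assoc, hz, mul_assoc]⟩

/-- An element normalising `⟨t, z⟩` normalises `J`. -/
theorem norm_J [Finite G] {w : G} (hz : w * d.z = d.z * w) (h : Z2 d.z (tau t w)) : w ∈ 𝒩(d.J) := by
  have key : ∀ a ∈ d.H, ∃ a' ∈ d.H, w * a * w⁻¹ = a' ∨ w * a * w⁻¹ = a' * t := fun a ha => by
    have h1 : w⁻¹ * t * w = t ∨ w⁻¹ * t * w = d.z * t := by
      have e := tau_conj_t c.t_sq w
      rcases h with h | h <;> rw [h] at e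
      · left; rw [one_mul] at e; rw [← e]; nth_rw 2 [e]; group
      · right
        calc w⁻¹ * t * w = w⁻¹ * (d.z * (d.z * t)) * w := by rw [← mul_assoc d.z, c.toOk.z_sq, one_mul]
          _ = w⁻¹ * (d.z * w) * t := by rw [← e]; group
          _ = _ := by rw [← hz]; group
    have h2 : a * (w⁻¹ * t * w) = w⁻¹ * t * w * a := by
      rcases h1 with e | e <;> rw [e]
      · exact c.t_cen a (c.toOk.H_A ha)
      · rw [← mul_assoc, c.toOk.H_z ha, mul_assoc, c.t_cen a (c.toOk.H_A ha), mul_assoc]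
    have h3 : w * a * w⁻¹ * t = t * (w * a * w⁻¹) := by
      calc w * a * w⁻¹ * t = w * (a * (w⁻¹ * t * w)) * w⁻¹ := by group
        _ = _ := by rw [h2]; group
    have h4 : w * a * w⁻¹ * d.z = d.z * (w * a * w⁻¹) :=
      (((show Commute w d.z from hz).mul_left (c.toOk.H_z ha)).mul_left (show Commute w d.z from hz).inv_left).eq
    rcases c.cen_zt h3 h4 with e | e
    · exact ⟨_, e, .inl rfl⟩
    · exact ⟨_, e, .inr (by rw [mul_assoc _ t t, c.t_sq, mul_one])⟩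
  refine mem_norm_of_cj_le ?_
  rw [c.J_eq, cj_commutator, commutator_le]
  rintro _ ⟨a, ha, rfl⟩ _ ⟨b, hb, rfl⟩
  obtain ⟨a', ha', e⟩ := key a ha
  obtain ⟨b', hb', e'⟩ := key b hb
  have ta : Commute t a' := (c.t_cen _ (c.toOk.H_A ha')).symm
  have tb : Commute t b' := (c.t_cen _ (c.toOk.H_A hb')).symm
  have k1 : ∀ x, Commute t x → ⁅a' * t, x⁆ = ⁅a', x⁆ := fun x hx => by
    calc ⁅a' * t, x⁆ = a' * (t * x) * t⁻¹ * a'⁻¹ * x⁻¹ := by rw [commutatorElement_def]; group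
      _ = _ := by rw [hx.eq, commutatorElement_def]; group
  have k2 : ⁅a', b' * t⁆ = ⁅a', b'⁆ := by
    calc ⁅a', b' * t⁆ = a' * b' * (t * a'⁻¹) * t⁻¹ * b'⁻¹ := by rw [commutatorElement_def]; group
      _ = _ := by rw [ta.inv_right.eq, commutatorElement_def]; group
  show ⁅w * a * w⁻¹, w * b * w⁻¹⁆ ∈ _
  rcases e with e | e <;> rcases e' with e' | e' <;> rw [e, e']
  · exact commutator_mem_commutator ha' hb'
  · rw [k2]; exact commutator_mem_commutator ha' hb'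
  · rw [k1 _ tb]; exact commutator_mem_commutator ha' hb'
  · rw [k1 _ (tb.mul_right (.refl t)), k2]; exact commutator_mem_commutator ha' hb'

/-- If `τ g ∈ {1, z, w, w z}` with `τ w = z` and `w² = 1`, then `τ g ∈ {1, z}`. -/
theorem z2_of_z4 {w g : G} (hw : tau t w = d.z) (h2 : w * w = 1) (hz : w * d.z = d.z * w) (h : Z4 d.z w (tau t g)) :
    Z2 d.z (tau t g) := by
  have e : tau t g * t * (tau t g * t) = 1 := by rw [← tau_conj_t c.t_sq, conj_mul, c.t_sq]; group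
  have e1 : w * t * (w * t) = d.z := by rw [← hw, tau_def, inv_eq_of_sq h2]; group
  rcases h with h | h | h | h
  exacts [.inl h, .inr h, absurd (e1.symm.trans (h ▸ e)) c.z_ne, absurd (by
    have tz := c.t_cen _ c.toOk.z_A
    rw [h] at e
    have k : Commute d.z (w * t) := Commute.mul_right hz.symm tz
    rw [show w * d.z * t = d.z * (w * t) by rw [hz, mul_assoc], ← pow_two, k.mul_pow, pow_two, pow_two, c.toOk.z_sq,
      one_mul] at e
    exact e1.symm.trans e) c.z_ne]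

end Cor

/-! ### The doubling -/

namespace Dbl

variable {W : Subgroup G} (b : Dbl d t W) (c : Cor d t)
include b c

theorem tau_mul {x y : G} (hx : x ∈ W) (hy : y ∈ W) : tau t (x * y) = tau t x * tau t y := by
  rw [SJ.tau_mul c.t_sq, b.comm x hx _ (b.le (b.mem y hy)), mul_inv_cancel_right,
    c.toOk.V_comm (b.mem x hx) (b.mem y hy)]

theorem tau_mulOn : MulOn W (tau t) := fun _ hx _ hy => b.tau_mul c hx hy

theorem tau_inv {x : G} (hx : x ∈ W) : tau t x⁻¹ = tau t x := by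
  rw [(b.tau_mulOn c).inv hx, inv_eq_of_sq (c.V_sq _ (b.mem x hx))]

theorem t_conj {x : G} (hx : x ∈ W) : t * x * t⁻¹ = tau t x * x := by
  rw [t_conj_eq c.t_sq, inv_eq_of_sq (c.V_sq _ (b.mem x hx))]

theorem t_norm [Finite G] : t ∈ 𝒩(W) :=
  mem_norm_of fun x hx => by rw [b.t_conj c hx]; exact mul_mem (b.le (b.mem x hx)) hx

theorem mem_V {x : G} (hx : x ∈ W) (h : x * t = t * x) : x ∈ d.V := b.ker x hx ((tau_eq_one c.t_sq).2 h)

theorem inf_A {x : G} (hx : x ∈ W) (h : x ∈ d.A) : x ∈ d.V := b.mem_V c hx (c.t_cen x h)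

theorem t_not : t ∉ W := fun h => c.t_not (c.toOk.V_A (b.mem_V c h rfl))

theorem mem_V_of_eq {x y : G} (hx : x ∈ W) (hy : y ∈ W) (h : tau t x = tau t y) : x⁻¹ * y ∈ d.V :=
  b.mem_V c (mul_mem (inv_mem hx) hy) (tau_eq_iff.1 h)

theorem card [Finite G] : Nat.card W = 2 ^ 22 := by
  have h := (b.tau_mulOn c).card_img le_rfl
  have h1 : (b.tau_mulOn c).img W = d.V := le_antisymm ((b.tau_mulOn c).img_le fun x _ hx => b.mem x hx) fun v hv => by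
    obtain ⟨w, hw, rfl⟩ := b.surj v hv
    exact (b.tau_mulOn c).mem_img_of hw hw
  have h2 : W ⊓ (b.tau_mulOn c).pre ⊥ = d.V := le_antisymm
    (fun x hx => b.ker x hx.1 (mem_bot.1 ((b.tau_mulOn c).mem_pre.1 hx.2).2))
    fun v hv => ⟨b.le hv, (b.tau_mulOn c).mem_pre.2 ⟨b.le hv, mem_bot.2 (c.tau_A (c.toOk.V_A hv))⟩⟩
  rw [h1, h2, c.card_V] at h
  omega

/-- The involutions of the coset `W t` are conjugate to `t` under `W`. -/
theorem inv_coset (h2 : ∀ x ∈ W, x * x = 1) {x : G} (hx : x ∈ W) (h : x * t * (x * t) = 1) :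
    ∃ w ∈ W, x * t = w * t * w⁻¹ := by
  obtain ⟨w, hw, e⟩ := b.surj x (b.ker x hx (by rw [← h, tau_def, inv_eq_of_sq (h2 x hx)]; group))
  exact ⟨w, hw, by rw [tau_conj_t c.t_sq, e]⟩

end Dbl

namespace Zst

variable {W : Subgroup G} {w : G} (s : Zst d t W w) (b : Dbl d t W) (c : Cor d t)
include s b c

omit c in
theorem z_comm : w * d.z = d.z * w := b.comm _ s.mem _ (b.le (s.tau ▸ b.mem w s.mem))

theorem not_A : w ∉ d.A := fun h => c.z_ne (s.tau.symm.trans (c.tau_A h))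

/-- `H` normalises `{w, w z}`. -/
theorem H_conj {h : G} (hh : h ∈ d.H) : h * w * h⁻¹ = w ∨ h * w * h⁻¹ = w * d.z := by
  have o := c.toOk
  obtain ⟨j, hj, x, hx, rfl⟩ := c.H_dec h hh
  have h1 : x * w * x⁻¹ ∈ W := conj_mem (b.norm (c.T_M hx)) s.mem
  have h2 := b.mem_V_of_eq c s.mem h1 (by
    rw [tau_conj (c.t_cen x (o.T_A hx)), s.tau, o.H_z (c.T_H hx), mul_inv_cancel_right])
  have h3 : ∀ k ∈ d.J, k * (x * w * x⁻¹) = x * w * x⁻¹ * k := fun k hk => by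
    calc k * (x * w * x⁻¹) = x * (x⁻¹ * k * x * w) * x⁻¹ := by group
      _ = _ := by rw [s.cen _ (conj_mem' (o.J_norm (c.T_H hx)) hk)]; group
  have h4 := o.cenJ (o.V_A h2) fun k hk =>
    ((show Commute k w from s.cen k hk).inv_right.mul_right (h3 k hk)).eq
  rw [show j * x * w * (j * x)⁻¹ = j * (x * w * x⁻¹) * j⁻¹ by group, h3 j hj, mul_inv_cancel_right]
  exact h4.imp (fun e => (inv_mul_eq_one.1 e).symm) fun e => by rw [← e, mul_inv_cancel_left]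

/-- The conjugates over the same conjugate `x` of `z` differ by an element of `⟨x⟩`. -/
theorem conj_cases {a a' : G} (ha : a ∈ d.A) (ha' : a' ∈ d.A) (h : a * d.z * a⁻¹ = a' * d.z * a'⁻¹) :
    a * w * a⁻¹ = a' * w * a'⁻¹ ∨ a * w * a⁻¹ = a' * w * a'⁻¹ * (a' * d.z * a'⁻¹) := by
  rw [show a * w * a⁻¹ = a' * (a'⁻¹ * a * w * (a'⁻¹ * a)⁻¹) * a'⁻¹ by group]
  rcases s.H_conj b c (c.toOk.stab ha ha' h) with e | e <;> rw [e]
  · exact .inl rfl
  · exact .inr (by group)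

theorem conj_mem {a k : G} (ha : a ∈ d.A) (hk : k ∈ d.A) (h : a * d.z * a⁻¹ ∈ cj k d.V) : a * w * a⁻¹ ∈ cj k W := by
  have o := c.toOk
  obtain ⟨m, hm, e⟩ := o.fuse (mem_cj.1 h) ⟨k⁻¹ * a, mul_mem (inv_mem hk) ha, by group⟩
  have h1 : k * m * w * (k * m)⁻¹ ∈ cj k W := mem_cj.2 (by
    simpa [mul_assoc] using CL.Even.conj_mem (b.norm hm) s.mem)
  have h2 : a * d.z * a⁻¹ = k * m * d.z * (k * m)⁻¹ := by
    calc _ = k * (k⁻¹ * (a * d.z * a⁻¹) * k) * k⁻¹ := by group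
      _ = _ := by rw [e]; group
  rcases s.conj_cases b c ha (mul_mem hk (o.M_A hm)) h2 with e | e <;> rw [e]
  exacts [h1, mul_mem h1 (cj_mono k b.le (h2 ▸ h))]

end Zst

/-! ### Diagonals -/

namespace Dg

variable {K P R : Subgroup G} (w : Dg t K P)
include w

theorem mem_lo {x : G} : x ∈ w.lo R ↔ x ∈ K ∧ dg t x ∈ R := Iff.rfl
theorem lo_le : w.lo R ≤ K := fun _ h => h.1
theorem lo_mono {S : Subgroup G} (h : R ≤ S) : w.lo R ≤ w.lo S := fun _ hx => ⟨hx.1, h hx.2⟩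
theorem mulOn : MulOn K (dg t) := fun _ hx _ hy => w.cm.mul hx hy
theorem eq_of {x y : G} (hx : x ∈ K) (hy : y ∈ K) (h : dg t x = dg t y) : x = y :=
  inv_mul_eq_one.1 (w.inj _ (mul_mem (inv_mem hx) hy) ((w.mulOn.eq_iff hx hy).1 h))
theorem comm_of {x y : G} (hx : x ∈ K) (hy : y ∈ K) (h : dg t x * dg t y = dg t y * dg t x) : x * y = y * x :=
  w.eq_of (mul_mem hx hy) (mul_mem hy hx) (by rw [w.cm.mul hx hy, w.cm.mul hy hx, h])
theorem sq_of {x : G} (hx : x ∈ K) (h : dg t x * dg t x = 1) : x * x = 1 :=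
  w.inj _ (mul_mem hx hx) (by rw [w.cm.mul hx hx, h])
theorem le_cent : cj t K ≤ 𝒞(K) := by
  rintro _ ⟨y, hy, rfl⟩
  exact mem_cent.2 fun x hx => w.cm x hx y hy
theorem conj_K {a x : G} (ha : a ∈ P) (hx : x ∈ K) : a * x * a⁻¹ ∈ K := by
  obtain ⟨y, hy, rfl⟩ := w.surj a ha
  rw [w.cm.conj hy hx]
  exact mul_mem (mul_mem hy hx) (inv_mem hy)
theorem exists_lo (h : R ≤ P) {a : G} (ha : a ∈ R) : ∃ x ∈ w.lo R, dg t x = a := by
  obtain ⟨x, hx, rfl⟩ := w.surj a (h ha)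
  exact ⟨x, ⟨hx, ha⟩, rfl⟩
theorem disj (hZ : ∀ a ∈ P, a ∈ 𝒞(P) → a = 1) {x : G} (hx : x ∈ K) (h : x ∈ cj t K) : x = 1 :=
  w.inj x hx (hZ _ (w.mem x hx) (mem_cent.2 fun a ha => by
    obtain ⟨y, hy, rfl⟩ := w.surj a ha
    exact w.mulOn.mul_comm hy hx (comm_of_mem (w.le_cent h) hy)))
theorem mem_dub {x : G} : x ∈ w.dub R ↔ ∃ a ∈ w.lo R, ∃ b ∈ w.lo R, x = a * (t * b * t⁻¹) := by
  rw [dub, mem_sup_nl (((cj_mono t w.lo_le).trans w.le_cent).trans ((cent_mono w.lo_le).trans (cent_le_norm _)))]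
  exact ⟨fun ⟨a, ha, _, ⟨b, hb, e'⟩, e⟩ => ⟨a, ha, b, hb, by rw [← e, ← e']; rfl⟩,
    fun ⟨a, ha, b, hb, e⟩ => ⟨a, ha, _, conj_mem_cj t hb, e.symm⟩⟩
theorem dub_mono {S : Subgroup G} (h : R ≤ S) : w.dub R ≤ w.dub S :=
  sup_le_sup (w.lo_mono h) (cj_mono t (w.lo_mono h))
theorem le_dub (h : R ≤ P) : R ≤ w.dub R := fun _ ha => by
  obtain ⟨x, hx, rfl⟩ := w.exists_lo h ha
  exact w.mem_dub.2 ⟨x, hx, x, hx, rfl⟩
theorem t_norm_dub (ht : t * t = 1) : t ∈ 𝒩(w.dub R) :=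
  cj_eq_iff_mem.1 (by rw [dub, cj_sup, ← cj_mul, ht, cj_one, sup_comm])

variable [Finite G]

theorem norm_K : P ≤ 𝒩(K) := fun _ ha => mem_norm_of fun _ hx => w.conj_K ha hx

theorem card_lo (h : R ≤ P) : Nat.card (w.lo R) = Nat.card R := by
  rw [← w.mulOn.card_img_of_inj w.lo_le fun x hx => w.inj x hx.1]
  congr 2
  refine le_antisymm (w.mulOn.img_le fun x hx _ => hx.2) fun a ha => ?_
  obtain ⟨x, hx, rfl⟩ := w.exists_lo h ha
  exact w.mulOn.mem_img_of hx hx.1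

theorem card_dub (hZ : ∀ a ∈ P, a ∈ 𝒞(P) → a = 1) (h : R ≤ P) : Nat.card (w.dub R) = Nat.card R * Nat.card R := by
  rw [← w.card_lo h, ← Nat.card_prod]
  refine (Nat.card_congr (Equiv.ofBijective (fun x : w.lo R × w.lo R =>
    (⟨x.1 * (t * x.2 * t⁻¹), w.mem_dub.2 ⟨_, x.1.2, _, x.2.2, rfl⟩⟩ : w.dub R)) ⟨fun x y e => ?_, fun x => ?_⟩)).symm
  · have e : (x.1 : G) * (t * x.2 * t⁻¹) = y.1 * (t * y.2 * t⁻¹) := congrArg Subtype.val e
    have e1 : (y.1 : G)⁻¹ * x.1 = t * (y.2 * (x.2 : G)⁻¹) * t⁻¹ := by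
      calc (y.1 : G)⁻¹ * x.1 = (y.1 : G)⁻¹ * (x.1 * (t * x.2 * t⁻¹)) * (t * x.2 * t⁻¹)⁻¹ := by group
        _ = _ := by rw [e]; group
    have e2 := w.disj hZ (mul_mem (inv_mem y.1.2.1) x.1.2.1)
      (e1 ▸ conj_mem_cj t (mul_mem y.2.2.1 (inv_mem x.2.2.1)))
    exact Prod.ext (Subtype.ext (inv_mul_eq_one.1 e2).symm)
      (Subtype.ext (mul_inv_eq_one.1 (conj_eq_one_iff.1 (e1.symm.trans e2))).symm)
  · obtain ⟨a, ha, b, hb, e⟩ := w.mem_dub.1 x.2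
    exact ⟨(⟨a, ha⟩, ⟨b, hb⟩), Subtype.ext e.symm⟩

end Dg

end CL.SJ
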