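/-
Project SJ4, jobs B1 and B2: the tight embedding of `C(A)` and the local configuration.
-/
import Cfsg.Agent.SJ4.Basic
import Cfsg.Agent.Wr.P0d

set_option autoImplicit false
set_option linter.unusedSectionVars false
open Cfsg Subgroup CL.Even CL.Grp CL.Wr CL.Wr.P5a CL.Wr.P0dAux
open scoped commutatorElement

namespace CL.SJ

universe u

namespace B12

variable {G : Type u} [Group G] [Finite G] {d e : Dat G} {g l : G}

theorem cen1 {L : Subgroup G} (s : IsStandardSubgroup L) {r : G} (hr : r ∈ 𝒞(cj g L)) (h2 : r * r = 1) (h1 : r ≠ 1) :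
    centralizer {r} ≤ 𝒩(cj g L) := fun c hc => by
  rw [← cj_cent, mem_cj] at hr
  rw [← cj_norm, mem_cj]
  refine P0dAux.cen_le s hr ?_ (fun h => h1 ?_) (mem_cent1.2 ?_)
  · rw [show g⁻¹ * r * g * (g⁻¹ * r * g) = g⁻¹ * (r * r) * g by group, h2]; group
  · rw [show r = g * (g⁻¹ * r * g) * g⁻¹ by group, h]; group
  · rw [show g⁻¹ * c * g * (g⁻¹ * r * g) = g⁻¹ * (c * r) * g by group, mem_cent1.1 hc]; group

theorem te1 {L : Subgroup G} (s : IsStandardSubgroup L) (hg : g ∉ 𝒩(L)) {y : G} (hy : y ∈ 𝒞(L)) (h2 : Two y)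
    (h : y ∈ 𝒞(cj g L)) : y = 1 := te s hy h2 hg (mem_cj.1 (cj_cent g L ▸ h))

theorem big (o : Ok d) (s : IsStandardSubgroup d.A) (hg : g ∉ 𝒩(d.A))
    (h : ∀ m ∈ d.M, m * d.z * m⁻¹ ∈ d.Q → m * d.z * m⁻¹ ∈ 𝒞(cj g d.A)) : False := by
  obtain ⟨m, hm, k, hk, e1, -, -, e3⟩ := o.gen
  have hz : d.z ∈ 𝒞(cj g d.A) := by simpa using h 1 (one_mem _) (by simpa using o.z_Q)
  have c1 : d.H ≤ 𝒩(cj g d.A) := fun x hx => cen1 s hz o.z_sq o.z_ne (mem_cent1.2 (o.H_z hx))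
  have hcl : d.cl (m * d.z * m⁻¹) := d.cl_z.conj (o.M_A hm)
  have c2 := cen1 s (h m hm e1) (o.cl_sq hcl) (o.cl_ne hcl)
  have c3 : d.A ≤ 𝒩(cj g d.A) := e3.trans (sup_le (sup_le (inf_le_right.trans (o.J_H.trans c1)) (by
    rintro _ ⟨q, hq, rfl⟩
    refine c2 (mem_cent1.2 ?_)
    show m * q * m⁻¹ * _ = _ * (m * q * m⁻¹)
    rw [conj_mul, conj_mul, o.H_z (o.Q_H hq)])) ((cj_le_of_mem o.V_H hk).trans c1))
  have c4 := (o.A_normal (N := d.A ⊓ 𝒞(cj g d.A)) inf_le_left (le_norm_inf le_normalizer (le_norm_cent c3))).resolve_left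
    fun e => o.z_ne (mem_bot.1 (e.le ⟨o.z_A, hz⟩))
  refine s.2.2.1 g (fun e => hg (cj_eq_iff_mem.1 e)) ?_
  rw [commutator_comm]
  exact commutator_eq_bot_iff'.2 (c4.ge.trans inf_le_right)

theorem ker (o : Ok d) (s : IsStandardSubgroup d.A) (hg : g ∉ 𝒩(d.A)) (hl : l ∈ d.A) (l2 : l * l = 1) (l1 : l ≠ 1)
    (hN : d.A ⊓ centralizer {l} ≤ 𝒩(cj g d.A)) {x : G} (hx : x ∈ d.A ⊓ centralizer {l}) (h : x ∈ 𝒞(cj g d.A)) :
    Z2 l x := by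
  have base : ∀ g, g ∉ 𝒩(d.A) → ∀ l, l = d.z ∨ l = d.f → d.A ⊓ centralizer {l} ≤ 𝒩(cj g d.A) →
      ∀ x ∈ d.A ⊓ centralizer {l} ⊓ 𝒞(cj g d.A), Z2 l x := fun g hg l hl hN => by
    have h1 := le_norm_inf le_normalizer (le_norm_cent hN)
    rcases hl with rfl | rfl
    · rw [← o.H_eq] at h1 ⊢
      exact (o.nz _ inf_le_left h1).resolve_right fun e => big o s hg fun m _ hm => (e hm).2
    · exact (o.nf _ inf_le_left h1).resolve_right fun e => big o s hg fun m hm _ => (e (o.conj_V hm o.z_V)).2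
  obtain ⟨a, ha, e⟩ := o.two l hl l2 l1
  obtain ⟨l₀, h0, rfl⟩ : ∃ l₀, (l₀ = d.z ∨ l₀ = d.f) ∧ l = a * l₀ * a⁻¹ :=
    e.elim (fun e => ⟨_, .inl rfl, e⟩) fun e => ⟨_, .inr rfl, e⟩
  have k : ∀ y, y ∈ d.A ⊓ centralizer {l₀} ↔ a * y * a⁻¹ ∈ d.A ⊓ centralizer {a * l₀ * a⁻¹} := fun y => by
    rw [mem_inf, mem_inf, mem_cent1, mem_cent1, conj_mul, conj_mul, mul_left_inj, mul_right_inj,
      mul_mem_cancel_right (inv_mem ha), mul_mem_cancel_left ha]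
  have h1 := base (a⁻¹ * g) (fun e => hg ((mul_mem_cancel_left (inv_mem (le_normalizer ha))).1 e)) l₀ h0
    (fun y hy => by rw [cj_mul, ← cj_norm, mem_cj, inv_inv]; exact hN ((k y).1 hy)) (a⁻¹ * x * a)
    ⟨(k _).2 (by simpa [mul_assoc] using hx), by rw [cj_mul, ← cj_cent]; simpa using conj_mem_cj a⁻¹ h⟩
  exact h1.imp (fun e => by simpa using (conj_eq_one_iff (a := a⁻¹)).1 (by simpa using e)) fun e => by rw [← e]; group

theorem cenJc (o : Ok d) (hl : l ∈ d.A) (l2 : l * l = 1) (l1 : l ≠ 1) {x : G} (hx : x ∈ d.A) (h : x ∈ 𝒞(d.Jc l)) :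
    Z2 l x := by
  have k : ∀ a l₀ : G, Z2 l₀ (a⁻¹ * x * a) → Z2 (a * l₀ * a⁻¹) x := fun a l₀ h1 =>
    h1.imp (fun e => by simpa using (conj_eq_one_iff (a := a⁻¹)).1 (by simpa using e)) fun e => by rw [← e]; group
  obtain ⟨a, ha, rfl | rfl⟩ := o.two l hl l2 l1 <;> rw [Dat.Jc_conj ha, ← cj_cent, mem_cj] at h <;> refine k _ _ ?_
  · rw [o.Jc_z] at h
    exact o.cenJ (mul_mem (mul_mem (inv_mem ha) hx) ha) (mem_cent.1 h)
  · exact o.cenJf _ (mul_mem (mul_mem (inv_mem ha) hx) ha) h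

theorem app (h0 : B0.{u}) (o : Ok d) (o' : Ok e) (eA : e.A = cj g d.A) (s : IsStandardSubgroup d.A)
    (dec : ∀ n ∈ 𝒩(d.A), ∃ a ∈ d.A, a⁻¹ * n ∈ 𝒞(d.A)) (hg : g ∉ 𝒩(d.A)) (hl : l ∈ d.A) (l2 : l * l = 1) (l1 : l ≠ 1)
    (hN : d.A ⊓ centralizer {l} ≤ 𝒩(cj g d.A)) {κ : G} (hκ : κ ∈ 𝒞(d.A)) (k2 : κ * κ = 1) (k1 : κ ≠ 1)
    (kN : κ ∈ 𝒩(cj g d.A)) :
    l ∉ 𝒞(cj g d.A) ∧ ∀ y ∈ 𝒞(d.A), y ∈ 𝒩(cj g d.A) → y ∈ 𝒞(cj g d.A) ∨ y * κ ∈ 𝒞(cj g d.A) := by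
  obtain ⟨ρ, r1, r2, -, -, r5⟩ := exists_proj (A := cj g d.A) (eA ▸ fun a ha h => o'.cenA ha h) fun n hn => by
    rw [← cj_norm, mem_cj] at hn
    obtain ⟨a, ha, h⟩ := dec _ hn
    refine ⟨_, conj_mem_cj g ha, ?_⟩
    rw [← cj_cent, mem_cj]
    simpa [mul_assoc] using h
  have a1 : ρ κ ∈ e.A := eA ▸ r2 κ kN
  have a2 := r1.sq kN k2
  have a3 : ρ κ ≠ 1 := fun h => k1 (te1 s hg hκ (.of_sq k2) ((r5 κ kN).1 h))
  obtain ⟨b1, b2⟩ := h0 d e l (ρ κ) ρ o o' hl l2 l1 a1 a2 a3 (r1.mono hN)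
    (fun x hx => ⟨eA ▸ r2 x (hN hx), mem_cent1.2 (r1.mul_comm (hN hx) kN (comm_of_mem hκ hx.1))⟩)
    fun x hx h => ker o s hg hl l2 l1 hN (d.Jc_le l hx) ((r5 x (hN (d.Jc_le l hx))).1 h)
  refine ⟨fun h => b1 ((r5 l (cent_le_norm _ h)).2 h), fun y hy hy' => ?_⟩
  refine (cenJc o' a1 a2 a3 (eA ▸ r2 y hy') (mem_cent.2 fun w hw => ?_)).imp (r5 y hy').1 fun h =>
    (r5 _ (mul_mem hy' kN)).1 (by rw [r1 y hy' κ kN, h, a2])
  obtain ⟨x, hx, rfl⟩ := b2 w hw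
  exact r1.mul_comm (hN (d.Jc_le l hx)) hy' (comm_of_mem hy (d.Jc_le l hx).1)

theorem four {K : Subgroup G} {t : G} (ht : t ∈ K) (t2 : t * t = 1) (t1 : t ≠ 1)
    (h : ∀ y ∈ K, Two y → y * t = t * y → y = 1 ∨ y * t = 1) : ¬ 4 ∣ Nat.card K := by
  classical
  intro h4
  have := Fact.mk Nat.prime_two
  have hz : IsPGroup 2 (zpowers t) := isPGroup_zpowers (k := 1) (by rw [pow_one, sq, t2])
  have ho : orderOf t = 2 := orderOf_eq_prime (by rw [sq, t2]) t1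
  obtain ⟨R, hR, htR⟩ := exists_isSylowIn_ge hz (zpowers_le.2 ht)
  have hlt : zpowers t < R := lt_of_le_of_ne htR fun h => by
    have h1 := hR.card_eq_pow
    rw [← h, Nat.card_zpowers, ho] at h1
    have h2 := pow_dvd_pow 2 ((Nat.prime_two.pow_dvd_iff_le_factorization Nat.card_pos.ne').1 (show 2 ^ 2 ∣ _ from h4))
    rw [← h1] at h2
    exact absurd h2 (by norm_num)
  obtain ⟨x, ⟨hxR, hxN⟩, hx⟩ := SetLike.exists_of_lt (lt_inf_normalizer_of_isPGroup hR.isPGroup hlt)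
  have cx : x * t = t * x := by
    have h1 := conj_mem hxN (mem_zpowers t)
    rw [mem_zpowers_iff_mem_range_orderOf, ho] at h1
    simp only [Finset.mem_image, Finset.mem_range] at h1
    obtain ⟨n, hn, e⟩ := h1
    interval_cases n
    · exact absurd (by simpa using e.symm) t1
    · rw [pow_one] at e; rw [← mul_inv_eq_iff_eq_mul, ← e]
  rcases h x (hR.le hxR) (.of_mem hR.isPGroup hxR) cx with e | e
  · exact hx (e ▸ one_mem _)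
  · exact hx (eq_inv_of_mul_eq_one_left e ▸ inv_mem (mem_zpowers t))

end B12

open B12

theorem b1 (h : B0.{u}) : B1.{u} := by
  intro G _ _ d o he s dec l hl l2 l1 g hm
  rw [cj_cent] at hm
  by_cases hg : g ∈ 𝒩(d.A)
  · exact l1 (o.cenA hl (cj_eq hg ▸ hm))
  obtain ⟨e, o', eA⟩ := he g
  have := Fact.mk Nat.prime_two
  obtain ⟨t, ht⟩ := exists_prime_orderOf_dvd_card' (G := 𝒞(d.A)) 2 s.2.1.1.two_dvd
  have c := cen1 s hm l2 l1
  refine (app h o o' eA s dec hg hl l2 l1 (inf_le_right.trans c) t.2 ?_ (fun e => ?_)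
    (c (mem_cent1.2 (comm_of_mem t.2 hl).symm))).1 hm
  · rw [← pow_two, ← ht]; exact congrArg Subtype.val (pow_orderOf_eq_one t)
  · rw [show t = 1 from Subtype.ext e, orderOf_one] at ht
    omega

theorem b2 (h : B0.{u}) : B2.{u} := by
  intro G _ _ d o iso he s dec hA ⟨g, r, hg, hr, rN, r2, r1⟩
  obtain ⟨e, o', eA⟩ := he g
  obtain ⟨l, hl, hκ⟩ := dec r rN
  obtain ⟨κ, rfl⟩ : ∃ κ, r = l * κ := ⟨l⁻¹ * r, (mul_inv_cancel_left l r).symm⟩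
  rw [inv_mul_cancel_left] at hκ
  have hr' : l * κ ∈ 𝒞(cj g d.A) := cj_cent g d.A ▸ hr
  have c : Commute l κ := comm_of_mem hκ hl
  have q : l * l * (κ * κ) = 1 := by rw [← pow_two, ← pow_two, ← c.mul_pow, pow_two, r2]
  have l2 : l * l = 1 := o.cenA (mul_mem hl hl) (eq_inv_of_mul_eq_one_left q ▸ inv_mem (mul_mem hκ hκ))
  have k2 : κ * κ = 1 := by rwa [l2, one_mul] at q
  have l1 : l ≠ 1 := fun e => r1 (te1 s hg (by rwa [e, one_mul]) (.of_sq r2) hr')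
  have k1 : κ ≠ 1 := fun e => hA l hl l2 l1 g (by rwa [e, mul_one] at hr)
  have cr : ∀ y, Commute y l → Commute y κ → y ∈ 𝒩(cj g d.A) := fun y h1 h2 =>
    cen1 s hr' r2 r1 (mem_cent1.2 (h1.mul_right h2))
  have key := (app h o o' eA s dec hg hl l2 l1 (fun x hx => cr x (mem_cent1.1 hx.2) (comm_of_mem hκ hx.1)) hκ k2 k1
    (cr κ c.symm (.refl κ))).2
  have h4 := four hκ k2 k1 fun y hy y2 cy => (key y hy (cr y (comm_of_mem hy hl).symm cy)).imp (te1 s hg hy y2)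
    (te1 s hg (mul_mem hy hκ) (y2.mul (.of_sq k2) cy))
  refine ⟨κ, o, iso, k2, k1, hκ, P0dAux.cen_le s hκ k2 k1, dec, h4, fun a ha => ?_, l, hl, l1, l2, ?_⟩
  · exact hA _ ha (by rw [conj_mul, k2]; group) (by simpa using k1) a (conj_mem_cj a hκ)
  · refine (conj_of_not_four h4 hκ (mem_cj.1 hr) k2 ?_ k1 fun h => r1 ?_).trans (isConj_iff.2 ⟨g, ?_⟩)
    · rw [show g⁻¹ * (l * κ) * g * (g⁻¹ * (l * κ) * g) = g⁻¹ * (l * κ * (l * κ)) * g by group, r2]; group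
    · rw [show l * κ = g * (g⁻¹ * (l * κ) * g) * g⁻¹ by group, h]; group
    · rw [← c.eq]; group

end CL.SJ
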