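/-
Project SJ4: common tools for the jobs H3 and H4.
-/
import Cfsg.Agent.SJ4.Basic

set_option autoImplicit false
set_option linter.unusedSectionVars false
open Cfsg Subgroup CL.Even CL.Grp CL.Wr CL.Wr.P5a
open scoped commutatorElement

namespace CL.SJ.H0

variable {G : Type*} [Group G] [Finite G] {d : Dat G} {t w a b x y : G} {L X R H : Subgroup G}

/-- the `2`-part of a dihedral group -/
theorem dih (ha : a * a = 1) (hb : b * b = 1) :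
    ∃ j : ℕ, Two ((a * b) ^ (2 * j + 1)) ∧ a * (a * b) ^ (2 * j + 1) = ((a * b) ^ j)⁻¹ * b * (a * b) ^ j := by
  obtain ⟨k, m, ⟨j, rfl⟩, e⟩ := Nat.exists_eq_two_pow_mul_odd (orderOf_pos (a * b)).ne'
  refine ⟨j, ⟨k, by rw [← pow_mul, mul_comm, ← e, pow_orderOf_eq_one]⟩, ?_⟩
  have h1 : b * (a * b) * b⁻¹ = (a * b)⁻¹ := by rw [mul_inv_rev, inv_eq_of_sq ha, inv_eq_of_sq hb, mul_assoc, mul_assoc, hb,
    mul_one]
  rw [← inv_pow, ← h1, conj_pow, pow_succ', ← mul_assoc, ← mul_assoc, ha, one_mul, two_mul, pow_add]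
  group

/-- two involutions whose product is a `2`-element -/
theorem conj_pair (hS : IsSylowIn 2 R H) (ha : a * a = 1) (hb : b * b = 1) (h : Two (a * b)) (aH : a ∈ H) (bH : b ∈ H) :
    ∃ c ∈ H, c * a * c⁻¹ ∈ R ∧ c * b * c⁻¹ ∈ R := by
  have n : a ∈ 𝒩(zpowers (a * b)) := mem_norm_of fun x ⟨k, e⟩ => by
    rw [← e, ← conj_zpow, show a * (a * b) * a⁻¹ = (a * b)⁻¹ by
      rw [← mul_assoc, ha, one_mul, mul_inv_rev, inv_eq_of_sq hb]]
    exact zpow_mem (inv_mem (mem_zpowers _)) k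
  obtain ⟨c, hc, e⟩ := syl_conj_le hS (isPGroup_sup (isPGroup_zpowers (Two.of_sq ha).choose_spec)
    (isPGroup_zpowers h.choose_spec) (zpowers_le.2 n)) (sup_le (zpowers_le.2 aH) (zpowers_le.2 (mul_mem aH bH)))
  have h1 := e (conj_mem_cj c (mem_sup_left (mem_zpowers a)))
  have h2 := e (conj_mem_cj c (mem_sup_right (mem_zpowers (a * b))))
  exact ⟨c, hc, h1, (mul_mem_cancel_left h1).1 (by rwa [conj_mul])⟩

variable (g : Glb d t L X w)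
include g

theorem ok : Ok d := g.toLoc.toOk
theorem t_inv : t⁻¹ = t := inv_eq_of_sq g.t_sq
theorem tt (x : G) : t * (t * x * t⁻¹) * t⁻¹ = x := by rw [← mul_assoc, ← mul_assoc, g.t_sq, t_inv g, one_mul, mul_assoc,
  g.t_sq, mul_one]
theorem tA (ha : a ∈ d.A) : a * t = t * a := comm_of_mem g.t_mem ha
theorem tX (hx : x ∈ X) : t * x * t⁻¹ ∈ X := g.normal.conj_mem x hx t
theorem cm (ha : a ∈ L) (hb : b ∈ L) : a * (t * b * t⁻¹) = t * b * t⁻¹ * a := (g.cm a ha b hb).eq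

theorem disj (ha : a ∈ L) (h : t * a * t⁻¹ ∈ L) : a = 1 :=
  conj_eq_one_iff.1 (g.toDg.disj (fun _ => (ok g).cenA) h (conj_mem_cj t ha))

theorem pair_one (ha : a ∈ L) (hb : b ∈ L) (h : a * (t * b * t⁻¹) = 1) : a = 1 ∧ b = 1 := by
  have e := disj g hb (by rw [eq_inv_of_mul_eq_one_right h]; exact inv_mem ha)
  exact ⟨by simpa [e] using h, e⟩

theorem pair_mul {a' b' : G} (hb : b ∈ L) (ha' : a' ∈ L) :
    a * (t * b * t⁻¹) * (a' * (t * b' * t⁻¹)) = a * a' * (t * (b * b') * t⁻¹) := by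
  rw [mul_assoc a, ← mul_assoc _ a', ← cm g ha' hb]; group

theorem pair_eq {a' b' : G} (ha : a ∈ L) (hb : b ∈ L) (ha' : a' ∈ L) (hb' : b' ∈ L)
    (h : a * (t * b * t⁻¹) = a' * (t * b' * t⁻¹)) : a = a' ∧ b = b' := by
  have := pair_one g (mul_mem (inv_mem ha') ha) (mul_mem hb (inv_mem hb')) (by
    calc _ = a'⁻¹ * (a * (t * b * t⁻¹)) * (t * b' * t⁻¹)⁻¹ := by group
      _ = 1 := by rw [h]; group)
  exact ⟨(inv_mul_eq_one.1 this.1).symm, mul_inv_eq_one.1 this.2⟩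

theorem t_pair (ha : a ∈ L) (hb : b ∈ L) : t * (a * (t * b * t⁻¹)) * t⁻¹ = b * (t * a * t⁻¹) := by
  rw [cm g hb ha, ← conj_mul, tt g]

theorem dub_X : g.toDg.dub R ≤ X := fun x hx => by
  obtain ⟨a, ha, b, hb, rfl⟩ := g.toDg.mem_dub.1 hx
  exact mul_mem (g.L_le ha.1) (tX g (g.L_le hb.1))

theorem lo_dub (ha : a ∈ g.toDg.lo R) : a ∈ g.toDg.dub R := mem_sup_left ha
theorem t_dub (hx : x ∈ g.toDg.dub R) : t * x * t⁻¹ ∈ g.toDg.dub R := conj_mem (g.toDg.t_norm_dub g.t_sq) hx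

theorem lo_of_dub (hx : x ∈ g.toDg.dub R) (h : x ∈ L) : x ∈ g.toDg.lo R := by
  obtain ⟨a, ha, b, hb, rfl⟩ := g.toDg.mem_dub.1 hx
  rwa [disj g hb.1 ((mul_mem_cancel_left ha.1).1 h), mul_one, mul_inv_cancel, mul_one]

theorem w_lo : w ∈ g.toDg.lo d.V := ⟨g.w_mem, g.w_dg ▸ g.z_V⟩
theorem w_sq : w * w = 1 := g.toDg.sq_of g.w_mem (by rw [g.w_dg, (ok g).z_sq])
theorem w_ne : w ≠ 1 := fun e => g.z_ne (by rw [← g.w_dg, e, dg_one])
theorem z_eq : d.z = w * (t * w * t⁻¹) := g.w_dg.symm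

theorem dg_cj (ha : a ∈ L) (hx : x ∈ L) : dg t (a * x * a⁻¹) = dg t a * dg t x * (dg t a)⁻¹ := g.toDg.mulOn.conj ha hx

theorem W_sq (hx : x ∈ g.toDg.dub d.V) : x * x = 1 := by
  obtain ⟨a, ha, b, hb, rfl⟩ := g.toDg.mem_dub.1 hx
  rw [pair_mul g hb.1 ha.1, g.toDg.sq_of ha.1 (g.V_sq _ ha.2), g.toDg.sq_of hb.1 (g.V_sq _ hb.2)]; group

end CL.SJ.H0
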