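/-
Project SJ4, job B0: homomorphisms between involution centralisers.
-/
import Cfsg.Agent.SJ4.Basic

set_option autoImplicit false
set_option linter.unusedSectionVars false
open Cfsg Subgroup CL.Even CL.Grp CL.Wr CL.Wr.P5a
open scoped commutatorElement

namespace CL.SJ

universe u

namespace B0

variable {G : Type*} [Group G] [Finite G]

/-- A perfect group has no proper subgroup of index at most three. -/
theorem lemS {K Y : Subgroup G} (hK : K ≤ ⁅K, K⁆) (hY : Y ≤ K) (hc : Nat.card K ≤ 3 * Nat.card Y) : K ≤ Y := by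
  classical
  have h1 : Nat.card (K ⧸ Y.subgroupOf K) ≤ 3 := by
    have := (Y.subgroupOf K).card_mul_index
    rw [Nat.card_congr (subgroupOfEquivOfLe hY).toEquiv] at this
    rw [← this, mul_comm 3] at hc
    exact Nat.le_of_mul_le_mul_left hc Nat.card_pos
  let _ := Fintype.ofFinite (K ⧸ Y.subgroupOf K)
  obtain ⟨ι⟩ : Nonempty (K ⧸ Y.subgroupOf K ↪ Fin 3) :=
    Function.Embedding.nonempty_of_card_le (by rwa [Fintype.card_fin, ← Nat.card_eq_fintype_card])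
  let ψ : K →* Equiv.Perm (Fin 3) := (Equiv.Perm.viaEmbeddingHom ι).comp (MulAction.toPermHom K (K ⧸ Y.subgroupOf K))
  have hT : (⊤ : Subgroup K) ≤ ⁅(⊤ : Subgroup K), (⊤ : Subgroup K)⁆ := by
    rw [← map_le_map_iff_of_injective K.subtype_injective, map_commutator, ← MonoidHom.range_eq_map, range_subtype]
    exact hK
  have h2 : ψ.range ≤ ⁅ψ.range, ψ.range⁆ := by
    rw [MonoidHom.range_eq_map, ← map_commutator]; exact map_mono hT
  have h3 : ψ.range ≤ alternatingGroup _ := h2.trans (commutator_le.2 fun a _ b _ =>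
    (by decide : ∀ a b : Equiv.Perm (Fin 3), Equiv.Perm.sign (a * b * a⁻¹ * b⁻¹) = 1) a b)
  have h4 : ψ.range ≤ ⊥ := h2.trans (commutator_le.2 fun a ha b hb => mem_bot.2
    ((by decide : ∀ a b : Equiv.Perm (Fin 3), Equiv.Perm.sign a = 1 → Equiv.Perm.sign b = 1 → a * b * a⁻¹ * b⁻¹ = 1)
      a b (h3 ha) (h3 hb)))
  intro x hx
  have h5 : MulAction.toPermHom K (K ⧸ Y.subgroupOf K) ⟨x, hx⟩⁻¹ = 1 :=
    Equiv.Perm.viaEmbeddingHom_injective ι ((mem_bot.1 (h4 ⟨_, rfl⟩)).trans (map_one _).symm)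
  have h6 : (((⟨x, hx⟩⁻¹ * 1 : K)) : K ⧸ Y.subgroupOf K) = (1 : K) := Equiv.congr_fun h5 ((1 : K) : K ⧸ Y.subgroupOf K)
  simpa [mem_subgroupOf] using QuotientGroup.eq.1 h6

/-- The two types of derived groups of involution centralisers. -/
structure Ty (K : Subgroup G) (l : G) : Prop where
  perf : K ≤ ⁅K, K⁆
  mem : l ∈ K
  typ : (Nat.card K = 10899947520 ∧ ∃ Q, Q ≤ K ∧ K ≤ 𝒩(Q) ∧ IsPGroup 2 Q ∧ Nat.card Q = 8192) ∨
    (Nat.card K = 908328960 ∧ ∀ P, P ≤ K → IsPGroup 2 P → K ≤ 𝒩(P) → Nat.card P ≤ 2048)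

theorem Ty.conj {K : Subgroup G} {l : G} (h : Ty K l) (a : G) : Ty (cj a K) (a * l * a⁻¹) := by
  refine ⟨by rw [← cj_commutator]; exact cj_mono a h.perf, conj_mem_cj a h.mem, h.typ.imp ?_ ?_⟩
  · rintro ⟨h1, Q, h2, h3, h4, h5⟩
    exact ⟨(card_cj a K).trans h1, cj a Q, cj_mono a h2, by rw [← cj_norm]; exact cj_mono a h3, isPGroup_cj h4 a,
      (card_cj a Q).trans h5⟩
  · rintro ⟨h1, h2⟩
    refine ⟨(card_cj a K).trans h1, fun P h3 h4 h5 => ?_⟩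
    rw [← card_cj a⁻¹]
    exact h2 _ (le_cj_iff.1 h3) (isPGroup_cj h4 _) (by rw [← cj_norm]; exact cj_le_iff.1 h5)

theorem ty {d : Dat G} (o : Ok d) {l : G} (hl : l ∈ d.A) (h2 : l * l = 1) (h1 : l ≠ 1) : Ty (d.Jc l) l := by
  obtain ⟨a, ha, rfl | rfl⟩ := o.two l hl h2 h1 <;> rw [Dat.Jc_conj ha] <;> refine Ty.conj ?_ a
  · rw [o.Jc_z]
    exact ⟨o.J_perf, o.Q_J o.z_Q, .inl ⟨o.card_J, d.Q, o.Q_J, o.J_H.trans o.Q_norm, o.isP_Q, o.card_Q⟩⟩
  · exact ⟨o.Jf_perf, o.V_Jf o.f_V, .inr ⟨o.card_Jf, fun P h3 h4 h5 =>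
      (card_le_of_le (o.O2f P h3 h4 h5)).trans o.card_V.le⟩⟩

end B0

theorem b0 : B0.{u} := by
  intro G _ _ d e l k ρ o o' hl l2 l1 hk k2 k1 h hρ hker
  have t := B0.ty o hl l2 l1
  have t' := B0.ty o' hk k2 k1
  have hN := d.Jc_le l
  have hY : h.img (d.Jc l) ≤ e.Jc k :=
    (h.img_comm le_rfl le_rfl).le.trans
      (commutator_mono (h.img_le fun x _ hx => hρ x hx) (h.img_le fun x _ hx => hρ x hx))
  have hc := h.card_img hN
  have hκ : Nat.card (d.Jc l ⊓ h.pre ⊥ : Subgroup G) ≤ 2 := by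
    have := Fact.mk Nat.prime_two
    rw [← orderOf_eq_prime ((pow_two l).trans l2) l1, ← Nat.card_zpowers]
    exact card_le_of_le fun x hx => (hker x hx.1 (h.mem_pre.1 hx.2).2).mem (mem_zpowers l)
  have hκ' : Nat.card (d.Jc l) ≤ Nat.card (h.img (d.Jc l)) * 2 := hc ▸ Nat.mul_le_mul_left _ hκ
  have fin : Nat.card (d.Jc l) = Nat.card (e.Jc k) → ρ l ≠ 1 ∧ ∀ y ∈ e.Jc k, ∃ x ∈ d.Jc l, ρ x = y := fun hh => by
    have h1 := B0.lemS t'.perf hY (by omega)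
    refine ⟨fun h2 => ?_, fun y hy => ?_⟩
    · have h3 := two_mul_card_le (H := ⊥) (K := d.Jc l ⊓ h.pre ⊥) bot_le ⟨t.mem, h.mem_pre.2 ⟨hN t.mem, h2⟩⟩ l1
      rw [card_bot] at h3
      rw [le_antisymm hY h1, ← hh] at hc
      have h4 := Nat.mul_le_mul_left (Nat.card (d.Jc l)) h3
      have h5 : 0 < Nat.card (d.Jc l) := Nat.card_pos
      omega
    · obtain ⟨x, hx, -, e⟩ := h.mem_img.1 (h1 hy)
      exact ⟨x, hx, e⟩
  rcases t.typ with ⟨c, -⟩ | ⟨c, hP⟩ <;> rcases t'.typ with ⟨c', Q, q1, q2, q3, q4⟩ | ⟨c', -⟩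
  · exact fin (c.trans c'.symm)
  · have := card_le_of_le hY
    omega
  swap
  · exact fin (c.trans c'.symm)
  exfalso
  have h1 : Nat.card (d.Jc l ⊓ h.pre Q : Subgroup G) ≤ 2048 := by
    refine hP _ inf_le_left (isP_of_two fun x hx => ?_) fun g hg => mem_norm_of fun x hx => ?_
    · obtain ⟨n, hn⟩ := Two.of_mem q3 (h.mem_pre.1 hx.2).2
      exact ⟨n + 1, by
        rw [pow_succ, pow_mul, pow_two]
        exact (hker _ (pow_mem hx.1 _) ((h.pow (hN hx.1) _).trans hn)).sq l2⟩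
    · have h2 := mul_mem (mul_mem hg hx.1) (inv_mem hg)
      exact ⟨h2, h.mem_pre.2 ⟨hN h2, by
        rw [h.conj (hN hg) (hN hx.1)]
        exact conj_mem (q2 (hY (h.mem_img_of hg (hN hg)))) (h.mem_pre.1 hx.2).2⟩⟩
  have h2 := h.card_img (H := d.Jc l ⊓ h.pre Q) (inf_le_left.trans hN)
  have h3 : h.img (d.Jc l ⊓ h.pre Q) = h.img (d.Jc l) ⊓ Q :=
    le_antisymm (le_inf (h.img_mono inf_le_left) (h.img_le fun x hx _ => (h.mem_pre.1 hx.2).2)) fun y hy => by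
      obtain ⟨x, hx, hx', rfl⟩ := h.mem_img.1 hy.1
      exact h.mem_img_of ⟨hx, h.mem_pre.2 ⟨hx', hy.2⟩⟩ hx'
  have h4 : d.Jc l ⊓ h.pre Q ⊓ h.pre ⊥ = d.Jc l ⊓ h.pre ⊥ := by
    rw [inf_assoc, inf_eq_right.2 (show h.pre ⊥ ≤ h.pre Q from map_mono (comap_mono bot_le))]
  rw [h3, h4] at h2
  have h5 := card_sup_mul_card_inf (hY.trans q2)
  have h6 : Nat.card (h.img (d.Jc l) ⊔ Q : Subgroup G) * Nat.card (d.Jc l ⊓ h.pre Q : Subgroup G) =
      908328960 * 8192 := by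
    rw [h2, ← mul_assoc, h5, q4, mul_right_comm, ← hc, c]
  have h7 := Nat.mul_le_mul_left (Nat.card (h.img (d.Jc l) ⊔ Q : Subgroup G)) h1
  have h8 := B0.lemS t'.perf (sup_le hY q1) (by omega)
  rw [le_antisymm (sup_le hY q1) h8, c'] at h6
  omega

end CL.SJ
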