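/-
Project SJ4, step C: the quotient by the odd part of `C(A) ⊓ C(t)`.
-/
import Cfsg.Agent.SJ4.Basic
import Cfsg.Agent.Wr.P6c
import Cfsg.Agent.Wr.P6d

set_option autoImplicit false
set_option linter.unusedSectionVars false
open Cfsg Subgroup CL.Even CL.Grp CL.Wr CL.Wr.P5a
open scoped commutatorElement

namespace CL.SJ

universe u

namespace SC

variable {G : Type*} [Group G] [Finite G] {d : Dat G} {t : G} {O : Subgroup G} (l : Loc d t)
include l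

theorem fusV : ∃ x ∈ d.V, x ≠ 1 ∧ IsConj t (t * x) := by
  obtain ⟨x, hx, h1, h2, h3⟩ := l.fus
  obtain ⟨g, hg, h4⟩ := l.toOk.conj_into_V hx h2
  refine ⟨g * x * g⁻¹, h4, by rwa [Ne, conj_eq_one_iff], h3.trans (isConj_iff.2 ⟨g, ?_⟩)⟩
  rw [← conj_mul, comm_of_mem l.t_mem hg, mul_inv_cancel_right]

theorem norm_O (hO : ∀ y, y ∈ O ↔ y ∈ 𝒞(d.A) ⊓ centralizer {t} ∧ Odd (orderOf y)) {x y : G} (hy : y ∈ d.V)
    (e : x * (t * y) * x⁻¹ = t) : x ∈ 𝒩(O) := by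
  have o := l.toOk
  obtain ⟨ρ, mul, mem, -, -, ker⟩ := exists_proj (fun a ha h => o.cenA ha h) l.dec
  have QL : d.V ≤ d.A := o.V_A
  have tN : t ∈ 𝒩(d.V) := cent_le_norm d.V (cent_mono QL l.t_mem)
  have F1 : ∀ u ∈ d.V ⊔ zpowers t, ∃ v ∈ d.V, u = v ∨ u = v * t := fun u hu =>
    ((mem_sup_inv l.t_sq tN).1 hu).elim (fun a => ⟨u, a, .inl rfl⟩)
      fun a => ⟨_, a, .inr (by rw [mul_assoc, l.t_sq, mul_one])⟩
  have F2 : ∀ u ∈ d.V ⊔ zpowers t, u * u = 1 := fun u hu => by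
    obtain ⟨v, hv, rfl | rfl⟩ := F1 u hu
    · exact o.V_sq _ hv
    · rw [mul_assoc, ← mul_assoc t, ← comm_of_mem l.t_mem (QL hv), mul_assoc, l.t_sq, mul_one, o.V_sq v hv]
  have F3 : t * y ∈ d.V ⊔ zpowers t := mul_mem (mem_sup_right (mem_zpowers t)) (mem_sup_left hy)
  have cm : ∀ {a b : G}, Commute a b → Commute (x * a * x⁻¹) (x * b * x⁻¹) := fun h => h.map (MulAut.conj x)
  have cE : ∀ u ∈ cj x (d.V ⊔ zpowers t), ∃ v ∈ d.V ⊔ zpowers t, u = x * v * x⁻¹ := fun u hu =>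
    ⟨_, mem_cj.1 hu, by group⟩
  have EN : cj x (d.V ⊔ zpowers t) ≤ 𝒩(d.A) := fun u hu => by
    obtain ⟨v, hv, rfl⟩ := cE u hu
    exact l.cen_le (mem_cent1.2 (e ▸ cm (comm_of_sq F2 hv F3)))
  have E2 : ∀ u ∈ cj x (d.V ⊔ zpowers t), u * u = 1 := fun u hu => by
    obtain ⟨v, hv, rfl⟩ := cE u hu
    rw [conj_mul, F2 v hv, mul_one, mul_inv_cancel]
  have h3 := mul.card_img EN
  rw [card_cj, card_sup_inv l.t_sq tN fun a => l.noL 1 (by simpa using QL a), o.card_V] at h3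
  have h4 : Nat.card ↥(cj x (d.V ⊔ zpowers t) ⊓ mul.pre ⊥) ≤ 2 := by
    have := Fact.mk Nat.prime_two
    obtain ⟨k, hk⟩ := (isP_of_sq (P := cj x (d.V ⊔ zpowers t) ⊓ mul.pre ⊥) fun u hu => E2 u hu.1).exists_card_eq
    have := card_dvd_of_le (K := 𝒞(d.A)) fun u (hu : u ∈ cj x (d.V ⊔ zpowers t) ⊓ mul.pre ⊥) =>
      (ker u (EN hu.1)).1 (mul.mem_pre.1 hu.2).2
    rw [hk] at this ⊢
    exact Nat.pow_le_pow_right (n := 2) (by norm_num)
      (Nat.lt_succ_iff.1 (not_le.1 fun a => l.four ((pow_dvd_pow 2 a).trans this)) : k ≤ 1)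
  refine mem_norm_of fun c ho => ?_
  obtain ⟨⟨o1, o2⟩, o3⟩ := (hO c).1 ho
  have o4 : ∀ v ∈ d.V ⊔ zpowers t, Commute v c := fun v hv' => by
    obtain ⟨v, hv, rfl | rfl⟩ := F1 v hv'
    exacts [comm_of_mem o1 (QL hv), Commute.mul_left (comm_of_mem o1 (QL hv)) (mem_cent1.1 o2).symm]
  have o5 : x * c * x⁻¹ ∈ centralizer {t} := mem_cent1.2 (e ▸ (cm (o4 _ F3)).symm)
  have o6 : Odd (orderOf (x * c * x⁻¹)) := (MulAut.conj x).orderOf_eq c ▸ o3
  have o7 := l.cen_le o5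
  have E3 : ∀ α ∈ mul.img (cj x (d.V ⊔ zpowers t)), α * α = 1 := fun α a => by
    obtain ⟨u, hu, b, rfl⟩ := mul.mem_img.1 a
    exact mul.sq b (E2 u hu)
  have h5 := E3 _ (o.self_cen (mul.img_le fun u _ => mem u) E3 (by nlinarith) (mem _ o7) (mem_cent.2 fun α a => by
    obtain ⟨u, hu, b, rfl⟩ := mul.mem_img.1 a
    obtain ⟨v, hv, rfl⟩ := cE u hu
    exact mul.mul_comm b o7 (cm (o4 v hv))))
  rw [← mul _ o7 _ o7, ker _ (mul_mem o7 o7), ← pow_two] at h5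
  exact (hO _).2 ⟨⟨mem_of_pow_mem_of_coprime (Nat.coprime_two_right.2 o6) h5, o5⟩, o6⟩

omit l [Finite G] in
theorem iso_map {H : Type*} [Group H] {N A : Subgroup G} (h : A ≤ N) (f : N →* H)
    (hf : ∀ a : N, (a : G) ∈ A → f a = 1 → a = 1) : Nonempty (((A.subgroupOf N).map f) ≃* A) := by
  let g : A.subgroupOf N →* (A.subgroupOf N).map f := f.subgroupMap _
  have hg : Function.Bijective g := ⟨(injective_iff_map_eq_one g).2 fun a ha =>
    Subtype.ext (hf a a.2 (congrArg Subtype.val ha)), f.subgroupMap_surjective _⟩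
  exact ⟨(MulEquiv.ofBijective g hg).symm.trans (subgroupOfEquivOfLe h)⟩

end SC

open Q6 SC in
theorem cThm (h1 : MT.{u}) (h2 : CoreThm.{u}) : CThm.{u} := by
  intro G _ _ d t l
  have ok := l.toOk
  obtain ⟨O, hO, hO'⟩ := odd_compl (K := 𝒞(d.A) ⊓ centralizer {t}) ⟨l.t_mem, mem_cent1.2 rfl⟩ l.t_ne l.t_sq
    (fun y hy => mem_cent1.1 hy.2) fun e => l.four (e.trans (card_dvd_of_le inf_le_left))
  have OK : O ≤ 𝒞(d.A) := fun o ho => ((hO o).1 ho).1.1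
  have Ot : ∀ o ∈ O, o * t = t * o := fun o ho => mem_cent1.1 ((hO o).1 ho).1.2
  have cN : ∀ c, c * t = t * c → c ∈ 𝒩(O) := fun c hc => mem_norm_of fun o ho =>
    (hO _).2 ⟨⟨conj_mem (norm_le_norm_cent d.A (l.cen_le (mem_cent1.2 hc))) (OK ho),
      (centralizer {t}).mul_mem (mul_mem (mem_cent1.2 hc) ((hO o).1 ho).1.2) (inv_mem (mem_cent1.2 hc))⟩,
      (MulAut.conj c).orderOf_eq o ▸ ((hO o).1 ho).2⟩
  have LN : d.A ≤ 𝒩(O) := fun x hx => cN x (comm_of_mem l.t_mem hx)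
  obtain ⟨y, hy, y2, y4⟩ := fusV l
  have yA := ok.V_A hy
  obtain ⟨x, hx⟩ := isConj_iff.1 y4.symm
  have xN := norm_O l hO hy hx
  let f := QuotientGroup.mk' (O.subgroupOf 𝒩(O))
  let t' : 𝒩(O) := ⟨t, cN t rfl⟩
  have hf : Function.Surjective f := QuotientGroup.mk'_surjective _
  have fe : ∀ {a b : 𝒩(O)}, f a = f b ↔ (a : G)⁻¹ * b ∈ O := QuotientGroup.eq
  have tt : t' * t' = 1 := Subtype.ext l.t_sq
  have lift : ∀ c, c * f t' = f t' * c → ∃ n : 𝒩(O), f n = c ∧ (n : G) * t = t * n := fun c hc => by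
    obtain ⟨n, rfl⟩ := hf c
    have o := fe.1 (show f t' = f (n * t' * n⁻¹) by
      rw [map_mul, map_mul, hc, map_inv, mul_inv_cancel_right])
    have := Two.eq_of_mul (a := t) (by simpa [t'] using (Two.of_sq l.t_sq).conj n) (.of_sq l.t_sq) (Ot _ o).symm
      ((hO _).1 o).2
    exact ⟨n, rfl, mul_inv_eq_iff_eq_mul.1 (inv_mul_eq_one.1 this).symm⟩
  have inj : ∀ a : 𝒩(O), (a : G) ∈ d.A → f a = 1 → a = 1 := fun a ha e =>
    Subtype.ext (ok.cenA ha (OK (by simpa using fe.1 (show f 1 = f a from e.symm))))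
  obtain ⟨e1⟩ := iso_map LN f inj
  obtain ⟨e2⟩ := l.iso
  obtain ⟨d', ok', hA⟩ := h1 ((d.A.subgroupOf 𝒩(O)).map f) ⟨e1.trans e2⟩
  obtain ⟨K, w⟩ := h2 d' (f t') { ok' with
    t_sq := by rw [← map_mul, tt, map_one]
    t_cen := by
      rw [hA]
      rintro _ ⟨a, ha, rfl⟩
      exact Commute.map (Subtype.ext (comm_of_mem l.t_mem ha) : Commute a t') f
    cen := fun c hc => by
      obtain ⟨n, rfl, hn⟩ := lift c hc
      obtain ⟨a, ha, hk⟩ := l.dec n (l.cen_le (mem_cent1.2 hn))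
      rw [hA]
      refine (hO' _ ⟨hk, (centralizer {t}).mul_mem (inv_mem (mem_cent1.2 (comm_of_mem l.t_mem ha))) (mem_cent1.2 hn)⟩).imp
        (fun b => ⟨⟨a, LN ha⟩, ha, fe.2 b⟩) fun b => ⟨⟨a, LN ha⟩, ha, ?_⟩
      rw [← map_mul]
      exact fe.2 (by rwa [mul_assoc] at b)
    noL := fun g => by
      rw [hA]
      rintro ⟨a, ha, e⟩
      obtain ⟨n, rfl⟩ := hf g
      have o := fe.1 (show f a = f (n * t' * n⁻¹) by rw [e, map_mul, map_mul, map_inv])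
      have := Two.mem_of_mul (a := (a : G)) (by simpa using (Two.of_sq l.t_sq).conj n) (comm_of_mem (OK o) ha)
        ((hO _).1 o).2 ha
      exact l.noL n (by simpa using this)
    fus := ⟨f ⟨y, LN yA⟩, hA ▸ ⟨_, yA, rfl⟩, fun e => y2 (congrArg Subtype.val (inj _ yA e)),
      by rw [← map_mul]; exact (congrArg f (Subtype.ext (ok.V_sq y hy))).trans (map_one f),
      (isConj_iff.2 ⟨f ⟨x, xN⟩, by
        rw [← map_mul, ← map_mul, ← map_inv, ← map_mul]; exact congrArg f (Subtype.ext hx)⟩).symm⟩ }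
  rw [hA] at w
  have hk : ∀ a : 𝒩(O), (∀ o ∈ O, o * a = a * o) → a ∈ 𝒞(f.ker) := fun a ha => mem_cent.2 fun o ho =>
    Subtype.ext (ha o (by rwa [QuotientGroup.ker_mk'] at ho))
  obtain ⟨L₁, w₁⟩ := p6d f t' (d.A.subgroupOf 𝒩(O)) K hf tt (hk t' Ot)
    (fun a ha => hk a fun o ho => (comm_of_mem (OK ho) ha).symm)
    (by
      rw [← map_le_map_iff_of_injective (subtype_injective _), map_commutator, map_subgroupOf_eq_of_le LN]
      exact ok.A_perf) w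
  exact ⟨_, push LN cN w₁⟩

end CL.SJ
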