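/-
Project SJ4, step D1: the first translation.
-/
import Cfsg.Agent.SJ4.Basic
import Cfsg.Agent.Wr.P1a

set_option autoImplicit false
set_option linter.unusedSectionVars false
open Cfsg Subgroup CL.Even CL.Grp CL.Wr CL.Wr.P5a
open scoped commutatorElement

namespace CL.SJ

universe u

namespace D1

variable {G : Type u} [Group G] [Finite G] {d : Dat G} {t : G} (c : Cor d t)
include c

theorem tN {K : Subgroup G} (h : K ≤ d.A) : t ∈ 𝒩(K) :=
  cent_le_norm _ (mem_cent.2 fun x hx => c.t_cen x (h hx))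

theorem mem_K {K : Subgroup G} (h : K ≤ d.A) {x : G} : x ∈ K ⊔ zpowers t ↔ x ∈ K ∨ x * t ∈ K :=
  mem_sup_inv c.t_sq (tN c h)

theorem card_K {K : Subgroup G} (h : K ≤ d.A) : Nat.card (K ⊔ zpowers t : Subgroup G) = 2 * Nat.card K :=
  card_sup_inv c.t_sq (tN c h) fun e => c.t_not (h e)

theorem inf_A {K : Subgroup G} (h : K ≤ d.A) {x : G} (hx : x ∈ K ⊔ zpowers t) (hA : x ∈ d.A) : x ∈ K :=
  ((mem_K c h).1 hx).resolve_right fun e => c.t_not ((mul_mem_cancel_left hA).1 (h e))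

theorem K_cen {K : Subgroup G} (h : K ≤ d.A) : K ⊔ zpowers t ≤ centralizer {t} :=
  sup_le (fun x hx => mem_cent1.2 (c.t_cen x (h hx))) (zpowers_le.2 (mem_cent1.2 rfl))

theorem tt {x y : G} (hy : y * t = t * y) : x * t * (y * t) = x * y := by
  rw [hy, mul_assoc, ← mul_assoc t, c.t_sq, one_mul]

theorem F_sq : ∀ x ∈ d.V ⊔ zpowers t, x * x = 1 := fun x hx => by
  rcases (mem_K c c.toOk.V_A).1 hx with h | h
  · exact c.V_sq x h
  · rw [← tt c (mem_cent1.1 (K_cen c c.toOk.V_A hx)), c.V_sq _ h]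

theorem card_F : Nat.card (d.V ⊔ zpowers t : Subgroup G) = 2 ^ 12 := by rw [card_K c c.toOk.V_A, c.card_V]; rfl

theorem M_F : d.M ≤ 𝒩(d.V ⊔ zpowers t) :=
  le_norm_sup c.toOk.M_norm (le_trans (fun m hm => mem_cent.2 fun _ hx =>
    (mem_cent1.1 (zpowers_le.2 (mem_cent1.2 (c.t_cen m (c.toOk.M_A hm)).symm) hx))) (cent_le_norm _))

theorem half {E : Subgroup G} (h : E ≤ centralizer {t}) : Nat.card E ≤ 2 * Nat.card (E ⊓ d.A : Subgroup G) :=
  card_le_two_mul fun x hx y hy hx' hy' => by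
    rw [← tt c (mem_cent1.1 (h hy))]
    exact mul_mem ((c.cen x (mem_cent1.1 (h hx))).resolve_left hx') ((c.cen y (mem_cent1.1 (h hy))).resolve_left hy')

theorem S_isP : IsPGroup 2 (d.T ⊔ zpowers t : Subgroup G) :=
  isPGroup_sup' c.syl.isPGroup (isPGroup_zpowers (k := 1) (by rw [pow_one, pow_two, c.t_sq]))
    (zpowers_le.2 (tN c c.toOk.T_A))

theorem S_syl : IsSylowIn 2 (d.T ⊔ zpowers t) (centralizer {t}) := by
  have := Fact.mk Nat.prime_two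
  obtain ⟨P, hP⟩ := exists_isSylowIn 2 (centralizer {t} : Subgroup G)
  refine hP.of_card_le (S_isP c) (K_cen c c.toOk.T_A) ?_
  have h1 := half c hP.le
  have h2 := c.syl.card_le (hP.isPGroup.to_inf_left (K := d.A)) inf_le_right
  rw [card_K c c.toOk.T_A]
  omega

/-- Uniqueness of the large elementary abelian subgroup. -/
theorem uniq {E : Subgroup G} (h : E ≤ d.T ⊔ zpowers t) (h2 : ∀ x ∈ E, x * x = 1) (hc : 2 ^ 12 ≤ Nat.card E) :
    E = d.V ⊔ zpowers t := by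
  have o := c.toOk
  have h1 := h.trans (K_cen c o.T_A)
  have h3 := half c h1
  have h4 : E ⊓ d.A = d.V :=
    c.uniqM _ (fun x hx => c.T_M (inf_A c o.T_A (h hx.1) hx.2)) (fun x hx => h2 x hx.1) (by omega)
  refine eq_of_le_of_card_ge (fun x hx => (mem_K c o.V_A).2 ((c.cen x (mem_cent1.1 (h1 hx))).imp
    (fun e => h4.le ⟨hx, e⟩) fun e => o.cenV e (mem_cent.2 fun v hv => ?_))) (by rwa [card_F c])
  rw [← mul_assoc, comm_of_sq h2 (h4.ge hv).1 hx, mul_assoc, c.t_cen v (o.V_A hv), mul_assoc]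

theorem exists_mv : ∃ h ∈ 𝒩(d.V ⊔ zpowers t), tau t h ≠ 1 := by
  have := Fact.mk Nat.prime_two
  have o := c.toOk
  obtain ⟨l, hl, h1, h2, h3⟩ := c.fus
  obtain ⟨g, hg⟩ := isConj_iff.1 h3
  obtain ⟨a, ha, hv⟩ := o.conj_into_V hl h2
  have e : a * g * t * (a * g)⁻¹ = t * (a * l * a⁻¹) := by
    calc a * g * t * (a * g)⁻¹ = a * (g * t * g⁻¹) * a⁻¹ := by group
      _ = a * t * l * a⁻¹ := by rw [hg]; group
      _ = _ := by rw [c.t_cen a ha]; group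
  generalize a * g = k at e
  have hs : k * t * k⁻¹ ∈ d.V ⊔ zpowers t := e ▸ mul_mem (mem_sup_right (mem_zpowers t)) (mem_sup_left hv)
  have sq : ∀ g : G, ∀ x ∈ cj g (d.V ⊔ zpowers t), x * x = 1 := by
    rintro g _ ⟨x, hx, rfl⟩
    rw [← map_mul, F_sq c x hx, map_one]
  obtain ⟨b, hb, e1⟩ := syl_conj_le (S_syl c) (isP_of_sq (sq k⁻¹)) fun x hx => mem_cent1.2 (by
    have := comm_of_sq (F_sq c) (mem_cj.1 hx) hs
    calc x * t = k⁻¹ * (k⁻¹⁻¹ * x * k⁻¹ * (k * t * k⁻¹)) * k := by group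
      _ = _ := by rw [this]; group)
  rw [← cj_mul] at e1
  have e2 := cj_eq_iff_mem.1 (uniq c e1 (sq _) (by rw [card_cj, card_F c]))
  refine ⟨_, inv_mem e2, fun e3 => h1 ?_⟩
  rw [mul_inv_rev, inv_inv, tau_mul_cen (mem_cent1.1 (inv_mem hb)), tau_eq_one c.t_sq] at e3
  rw [e3, mul_inv_cancel_right, left_eq_mul] at e
  exact conj_eq_one_iff.1 e

section Orb

variable {N : Subgroup G} (hN : N ≤ 𝒩(d.V ⊔ zpowers t)) (hM : d.M ≤ N)
include hN hM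

theorem tau_V {g : G} (hg : g ∈ N) : tau t g ∈ d.V :=
  ((mem_K c c.toOk.V_A).1 (conj_mem (hN hg) (mem_sup_right (mem_zpowers t)))).resolve_left
    fun e => c.noL g (c.toOk.V_A e)

theorem O_conj {m u : G} (hm : m ∈ d.M) : (∃ g ∈ N, tau t g = m * u * m⁻¹) ↔ ∃ g ∈ N, tau t g = u := by
  have key : ∀ m ∈ d.M, ∀ u, (∃ g ∈ N, tau t g = u) → ∃ g ∈ N, tau t g = m * u * m⁻¹ := fun m hm u ⟨g, hg, e⟩ =>
    ⟨m * g * m⁻¹, mul_mem (mul_mem (hM hm) hg) (inv_mem (hM hm)), by rw [tau_conj (c.t_cen m (c.toOk.M_A hm)), e]⟩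
  exact ⟨fun h => by simpa [mul_assoc] using key _ (inv_mem hm) _ h, key m hm u⟩

theorem mem_O {u : G} : (∃ g ∈ N, tau t g = u) ↔ u = 1 ∨ ((∃ g ∈ N, tau t g = d.z) ∧ u ∈ d.V ∧ d.cl u) ∨
    ((∃ g ∈ N, tau t g = d.f) ∧ u ∈ d.V ∧ u ≠ 1 ∧ ¬ d.cl u) := by
  have o := c.toOk
  refine ⟨fun h => ?_, ?_⟩
  · have hu : u ∈ d.V := by
      obtain ⟨g, hg, rfl⟩ := h
      exact tau_V c hN hM hg
    by_cases h1 : u = 1
    · exact .inl h1
    by_cases h2 : d.cl u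
    · obtain ⟨m, hm, e⟩ := o.fuse hu h2
      exact .inr (.inl ⟨(O_conj c hN hM hm).1 (e ▸ h), hu, h2⟩)
    · obtain ⟨m, hm, e⟩ := o.fuse' hu h1 h2
      exact .inr (.inr ⟨(O_conj c hN hM hm).1 (e ▸ h), hu, h1, h2⟩)
  · rintro (rfl | ⟨h, hu, h2⟩ | ⟨h, hu, h1, h2⟩)
    · exact ⟨1, one_mem _, c.tau_A (one_mem _)⟩
    · obtain ⟨m, hm, rfl⟩ := o.fuse hu h2
      exact (O_conj c hN hM hm).2 h
    · obtain ⟨m, hm, rfl⟩ := o.fuse' hu h1 h2
      exact (O_conj c hN hM hm).2 h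

open Classical in
theorem orb_card : (centralizer {t}).relIndex N =
    1 + (if ∃ g ∈ N, tau t g = d.z then 1771 else 0) + (if ∃ g ∈ N, tau t g = d.f then 276 else 0) := by
  have o := c.toOk
  have h1 : (fun x => x * t) '' Tra.orb N t = {1} ∪ {u | (∃ g ∈ N, tau t g = d.z) ∧ u ∈ d.V ∧ d.cl u} ∪
      {u | (∃ g ∈ N, tau t g = d.f) ∧ u ∈ d.V ∧ u ≠ 1 ∧ ¬ d.cl u} := Set.ext fun u => by
    rw [Set.union_assoc]
    refine Iff.trans ⟨?_, ?_⟩ (mem_O c hN hM)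
    · rintro ⟨_, ⟨g, hg, rfl⟩, rfl⟩
      exact ⟨g, hg, rfl⟩
    · rintro ⟨g, hg, rfl⟩
      exact ⟨_, ⟨g, hg, rfl⟩, rfl⟩
  rw [← Tra.ncard_orb, ← Set.ncard_image_of_injective _ (mul_left_injective t), h1, Set.ncard_union_eq,
    Set.ncard_union_eq, Set.ncard_singleton]
  · congr 2
    · split_ifs with h
      · simp only [h, true_and]; exact c.card_cl
      · simp [h]
    · split_ifs with h
      · simp only [h, true_and]; exact c.card_ncl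
      · simp [h]
  · exact Set.disjoint_left.2 fun u h h' => o.cl_ne h'.2.2 h
  · exact Set.disjoint_left.2 fun u h h' => h.elim h'.2.2.1 fun e => h'.2.2.2 e.2.2

end Orb

theorem S_le : d.T ⊔ zpowers t ≤ 𝒩(d.V ⊔ zpowers t) :=
  sup_le (c.T_M.trans (M_F c)) (le_norm_of_le le_sup_right)

theorem not_syl : ¬ IsSylowIn 2 (d.T ⊔ zpowers t) 𝒩(d.V ⊔ zpowers t) := fun h => by
  have h1 := h.not_dvd_relIndex_of_le (le_inf (K_cen c c.toOk.T_A) (S_le c)) inf_le_right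
  rw [inf_relIndex_right] at h1
  have h2 := orb_card c le_rfl (M_F c)
  obtain ⟨g, hg, e⟩ := exists_mv c
  have h3 := ((mem_O c le_rfl (M_F c)).1 ⟨g, hg, rfl⟩).resolve_left e
  have h4 : (centralizer {t}).relIndex 𝒩(d.V ⊔ zpowers t) = 277 := by
    split_ifs at h2 with k1 k2 k2
    · omega
    · omega
    · omega
    · exact absurd h3 (not_or.2 ⟨fun e => k1 e.1, fun e => k2 e.1⟩)
  exact absurd (prime_orbit le_rfl (card_F c) (mem_sup_right (mem_zpowers t)) (r := 277) (by norm_num)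
    (by rw [h4])) (by decide)

theorem exists_w : ∃ w ∈ 𝒩(d.V ⊔ zpowers t), tau t w = d.z ∧ w * d.z = d.z * w := by
  have := Fact.mk Nat.prime_two
  have o := c.toOk
  obtain ⟨P, hP, hle⟩ := exists_isSylowIn_ge (S_isP c) (S_le c)
  obtain ⟨w, ⟨hw, hn⟩, hw'⟩ := SetLike.exists_of_lt (lt_inf_normalizer_of_isPGroup hP.isPGroup
    (lt_of_le_of_ne hle fun e => not_syl c (e ▸ hP)))
  have h1 : tau t w ≠ 1 := fun e => hw' (((S_syl c).eq_of_le (hP.isPGroup.to_inf_left (K := centralizer {t}))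
    (le_inf hle (K_cen c o.T_A)) inf_le_right).le ⟨hw, mem_cent1.2 ((tau_eq_one c.t_sq).1 e)⟩)
  have key : ∀ x ∈ d.T ⊔ zpowers t, x ∈ 𝒞(d.T ⊔ zpowers t) →
      w * x * w⁻¹ ∈ d.A ∧ Z2 d.z (w * x * w⁻¹) ∨ Z2 d.z (w * x * w⁻¹ * t) := fun x hx hx' => by
    have k1 := conj_mem (norm_le_norm_cent _ hn) hx'
    have k2 : ∀ q ∈ d.Q, w * x * w⁻¹ * q = q * (w * x * w⁻¹) := fun q hq =>
      (comm_of_mem k1 (mem_sup_left (c.Q_T hq))).symm
    refine ((mem_K c o.T_A).1 (conj_mem hn hx)).imp (fun e => ⟨o.T_A e, c.cenQ _ (o.T_A e) k2⟩)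
      fun e => c.cenQ _ (o.T_A e) fun q hq => ?_
    rw [mul_assoc _ t, ← c.t_cen q (o.Q_A hq), ← mul_assoc, k2 q hq, mul_assoc q]
  have h2 : tau t w = d.z := (((key t (mem_sup_right (mem_zpowers t))
    (mem_cent.2 fun x hx => mem_cent1.1 (K_cen c o.T_A hx))).resolve_left fun e => c.noL w e.1).resolve_left h1)
  refine ⟨w, hP.le hw, h2, ?_⟩
  rcases key d.z (mem_sup_left (c.V_T c.z_V)) (mem_cent.2 fun x hx => mem_cent1.1
    (sup_le (fun y hy => mem_cent1.2 (o.H_z (c.T_H hy))) (zpowers_le.2 (mem_cent1.2 (c.t_cen _ o.z_A).symm)) hx))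
    with ⟨-, e | e⟩ | e | e
  · exact absurd (conj_eq_one_iff.1 e) c.z_ne
  · exact mul_inv_eq_iff_eq_mul.1 e
  · refine absurd ?_ (c.noL w⁻¹)
    rw [← c.t_inv, ← eq_inv_of_mul_eq_one_left e]
    simpa [mul_assoc] using o.z_A
  · have k : w * d.z * w⁻¹ * t = w * t * w⁻¹ * t := e.trans h2.symm
    simp only [mul_left_inj, mul_right_inj] at k
    exact absurd (k ▸ o.z_A) c.t_not

theorem pres {w : G} (hw : w ∈ 𝒩(d.V ⊔ zpowers t)) (hV : w ∈ 𝒩(d.V)) (h : tau t w = d.z) {u : G} (hu : u ∈ d.V)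
    (h1 : ¬ d.cl u) : ¬ d.cl (w * u * w⁻¹) := fun h2 => by
  have o := c.toOk
  obtain ⟨N, hN⟩ : ∃ N, N = 𝒩(d.V ⊔ zpowers t) ⊓ 𝒩(d.V) := ⟨_, rfl⟩
  have hM : d.M ≤ N := hN ▸ le_inf (M_F c) o.M_norm
  have hwN : w ∈ N := hN ▸ ⟨hw, hV⟩
  have hNV : N ≤ 𝒩(d.V) := hN ▸ inf_le_right
  have k1 := orb_card c (hN ▸ inf_le_left) hM
  rw [if_pos ⟨w, hwN, h⟩] at k1
  have k2 : Nat.card (centralizer {t} ⊓ N : Subgroup G) ∣ 2 * 501397585920 := by
    rw [← c.card_M, ← card_K c o.M_A]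
    exact card_dvd_of_le fun x hx => (mem_K c o.M_A).2 ((c.cen x (mem_cent1.1 hx.1)).imp
      (fun e => (c.mem_M _).2 ⟨e, hNV hx.2⟩) fun e => (c.mem_M _).2 ⟨e, mul_mem (hNV hx.2) (tN c o.V_A)⟩)
  have k3 := relIndex_mul_relIndex ⊥ (centralizer {t} ⊓ N) N bot_le inf_le_right
  rw [relIndex_bot_left, relIndex_bot_left, inf_relIndex_right] at k3
  obtain ⟨m, hm, e⟩ := o.fuse' hu (fun e => o.cl_ne h2 (by simp [e])) h1
  obtain ⟨m', hm', e'⟩ := o.fuse (conj_mem hV hu) h2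
  have k4 : Tra.orb N d.z = (d.V : Set G) \ {1} := Set.ext fun v => ⟨by
    rintro ⟨g, hg, rfl⟩
    exact ⟨conj_mem (hNV hg) c.z_V, fun e => c.z_ne (conj_eq_one_iff.1 e)⟩, fun ⟨hv, hv1⟩ => by
    by_cases hc : d.cl v
    · obtain ⟨n, hn, rfl⟩ := o.fuse hv hc
      exact ⟨n, hM hn, rfl⟩
    · obtain ⟨n, hn, rfl⟩ := o.fuse' hv hv1 hc
      refine ⟨n * m⁻¹ * w⁻¹ * m', mul_mem (mul_mem (mul_mem (hM hn) (inv_mem (hM hm))) (inv_mem hwN)) (hM hm'), ?_⟩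
      calc _ = n * m⁻¹ * w⁻¹ * (m' * d.z * m'⁻¹) * w * m * n⁻¹ := by group
        _ = _ := by rw [← e', e]; group⟩
  have k5 : (centralizer {d.z}).relIndex N = 2047 := by
    rw [← Tra.ncard_orb, k4, Set.ncard_sdiff_singleton_of_mem (one_mem d.V), ← Nat.card_coe_set_eq]
    exact congrArg (· - 1) c.card_V
  have k6 : 89 ∣ Nat.card N := (show 89 ∣ 2047 by norm_num).trans (k5 ▸ relIndex_dvd_card _ _)
  rw [← k3] at k6
  rcases (Nat.Prime.dvd_mul (by norm_num)).1 k6 with k7 | k7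
  · exact absurd (k7.trans k2) (by norm_num)
  · split_ifs at k1 <;> omega

end D1

open D1 in
theorem d1 : D1.{u} := fun d t c => by
  have o := c.toOk
  obtain ⟨w, hw, h1, h2⟩ := exists_w c
  have hJ := c.norm_J h2 (.inr h1)
  have hV : w ∈ 𝒩(d.V) := mem_norm_of fun v hv =>
    inf_A c o.V_A (conj_mem hw (mem_sup_left hv)) (o.J_A (conj_mem hJ (c.V_J hv)))
  obtain ⟨m, hm, e⟩ := c.aut (fun u => w * u * w⁻¹) (fun u hu => conj_mem hV hu) (fun x _ y _ => by group)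
    (fun u _ h => conj_eq_one_iff.1 h) fun u hu => pres c hw hV h1 hu
  refine ⟨m⁻¹ * w, mem_cent.2 fun x hx => ?_, ?_⟩
  · calc x * (m⁻¹ * w) = m⁻¹ * (m * x * m⁻¹) * w := by group
      _ = _ := by rw [← e x hx]; group
  · have e1 := e _ c.z_V
    rw [h2, mul_inv_cancel_right] at e1
    rw [tau_mul c.t_sq, c.tau_A (inv_mem (o.M_A hm)), h1, mul_one]
    nth_rw 1 [e1]
    group

end CL.SJ
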