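/-
Project SJ4, job D2: the doubling of `V`.
-/
import Cfsg.Agent.SJ4.Basic

set_option autoImplicit false
set_option linter.unusedSectionVars false
open Cfsg Subgroup CL.Even CL.Grp CL.Wr CL.Wr.P5a
open scoped commutatorElement

namespace CL.SJ

universe u

namespace D2

variable {G : Type*} [Group G] [Finite G] {d : Dat G} {t : G} (c : Cor d t) {a b x m v : G}
include c

theorem tmul (ha : a ∈ 𝒞(d.V)) (ha' : tau t a ∈ d.V) (hb : tau t b ∈ d.V) : tau t (a * b) = tau t a * tau t b := by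
  rw [tau_mul c.t_sq, conj_eq_of_mem ha hb, c.toOk.V_comm hb ha']

/-- The elements centralising `V` with translation in `V`. -/
def U : Subgroup G where
  carrier := {g | g ∈ 𝒞(d.V) ∧ tau t g ∈ d.V}
  one_mem' := ⟨one_mem _, by rw [c.tau_A (one_mem _)]; exact one_mem _⟩
  mul_mem' ha hb := ⟨mul_mem ha.1 hb.1, by rw [tmul c ha.1 ha.2 hb.2]; exact mul_mem ha.2 hb.2⟩
  inv_mem' {a} ha := ⟨inv_mem ha.1, by
    have h := tau_mul c.t_sq a⁻¹ a
    rw [inv_mul_cancel, c.tau_A (one_mem _), conj_eq_of_mem (inv_mem ha.1) ha.2] at h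
    rw [eq_inv_of_mul_eq_one_right h.symm]
    exact inv_mem ha.2⟩

theorem mulOn : MulOn (U c) (tau t) := fun _ ha _ hb => tmul c ha.1 ha.2 hb.2
theorem tauV (hv : v ∈ d.V) : tau t v = 1 := c.tau_A (c.toOk.V_A hv)
theorem V_le (hv : v ∈ d.V) : v ∈ U c :=
  ⟨mem_cent.2 fun _ hu => c.toOk.V_comm hu hv, by rw [tauV c hv]; exact one_mem _⟩
theorem tau_t : tau t t = 1 := (tau_eq_one c.t_sq).2 rfl
theorem t_mem : t ∈ U c := ⟨mem_cent.2 fun u hu => c.t_cen u (c.toOk.V_A hu), by rw [tau_t c]; exact one_mem _⟩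
theorem cm (ha : a ∈ U c) (hv : v ∈ d.V) : Commute v a := comm_of_mem ha.1 hv
theorem tsq (ha : a ∈ U c) : tau t a * tau t a = 1 := c.V_sq _ ha.2
theorem tau_mt (a : G) : tau t (a * t) = tau t a := tau_mul_cen rfl a
theorem tconj (hm : m ∈ d.M) (a : G) : tau t (m * a * m⁻¹) = m * tau t a * m⁻¹ :=
  tau_conj (c.t_cen m (c.toOk.M_A hm)) a
theorem conj_U (hm : m ∈ d.M) (ha : a ∈ U c) : m * a * m⁻¹ ∈ U c :=
  ⟨conj_mem (norm_le_norm_cent _ (c.toOk.M_norm hm)) ha.1, by rw [tconj c hm]; exact c.toOk.conj_V hm ha.2⟩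

theorem ker (ha : a ∈ U c) (h : tau t a = 1) : a ∈ d.V ∨ a * t ∈ d.V :=
  (c.cen a ((tau_eq_one c.t_sq).1 h)).imp (fun e => c.toOk.cenV e ha.1) fun e =>
    c.toOk.cenV e (mul_mem ha (t_mem c)).1

theorem t_mul (ha : a ∈ U c) : t * a = tau t a * a * t := by
  rw [← mul_inv_eq_iff_eq_mul, t_conj_eq c.t_sq, inv_eq_of_sq (tsq c ha)]

theorem sq_t (ha : a ∈ U c) : a * t * (a * t) = a * a * tau t a := by
  calc a * t * (a * t) = a * (t * a) * t := by group
    _ = a * (tau t a * a) * (t * t) := by rw [t_mul c ha]; group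
    _ = _ := by rw [c.t_sq, (cm c ha ha.2).eq]; group

theorem sq_V (ha : a ∈ U c) (hv : v ∈ d.V) : a * v * (a * v) = a * a := by
  calc a * v * (a * v) = a * (v * a) * v := by group
    _ = a * a * (v * v) := by rw [(cm c ha hv).eq]; group
    _ = _ := by rw [c.V_sq v hv, mul_one]

theorem sq_eq (ha : a ∈ U c) (hb : b ∈ U c) (h : tau t a = tau t b) :
    (a⁻¹ * b ∈ d.V ∧ b * b = a * a) ∨ b * b = a * a * tau t a := by
  rcases ker c (mul_mem (inv_mem ha) hb) (((mulOn c).eq_iff ha hb).1 h) with e | e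
  · exact .inl ⟨e, by rw [← sq_V c ha e, mul_inv_cancel_left]⟩
  · refine .inr ?_
    have e' : b = a * (a⁻¹ * b * t) * t := by rw [mul_assoc, mul_assoc _ t t, c.t_sq]; group
    rw [e', sq_t c (mul_mem ha (V_le c e)), sq_V c ha e, mulOn c _ ha _ (V_le c e), tauV c e, mul_one]

theorem same (ha : a ∈ U c) (hb : b ∈ U c) (h : tau t a = tau t b) (h1 : tau t a ≠ 1) (h2 : b * b = a * a) :
    a⁻¹ * b ∈ d.V := (sq_eq c ha hb h).elim (·.1) fun e => absurd (left_eq_mul.1 (h2.symm.trans e)) h1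

theorem comm_of (hx : x ∈ U c) (h : a⁻¹ * b ∈ d.V) (e : Commute x a) : Commute x b := by
  rw [← mul_inv_cancel_left a b]
  exact e.mul_right (cm c hx h).symm

theorem sq_ker (ha : a ∈ U c) (h : tau t a = 1) : a * a = 1 := by
  have h1 := tau_t c
  rcases sq_eq c (t_mem c) ha (h1.trans h.symm) with e | e
  · rw [e.2, c.t_sq]
  · rw [e, h1, c.t_sq, mul_one]

theorem sq_mem (ha : a ∈ U c) : a * a ∈ d.V := by
  refine (ker c (mul_mem ha ha) (by rw [mulOn c a ha a ha, tsq c ha])).elim id fun e => ?_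
  have h1 : Commute a t := by
    have := ((Commute.refl a).mul_left (.refl a)).inv_left.mul_left (cm c ha e)
    rw [inv_mul_cancel_left] at this
    exact this.symm
  rw [sq_ker c ha ((tau_eq_one c.t_sq).2 h1)]
  exact one_mem _

theorem sq (ha : a ∈ U c) : Z2 (tau t a) (a * a) := by
  by_cases h1 : tau t a = 1
  · exact .inl (sq_ker c ha h1)
  have key : ∀ b ∈ U c, ∀ m ∈ d.M, m * tau t b = tau t b * m → Z2 (tau t b) (m * (b * b) * m⁻¹ * (b * b)) :=
    fun b hb m hm e => by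
      have h2 := c.V_sq _ (sq_mem c hb)
      rw [← conj_mul]
      rcases sq_eq c hb (conj_U c hm hb) (by rw [tconj c hm, e, mul_inv_cancel_right]) with e' | e'
      · exact .inl (by rw [e'.2, h2])
      · exact .inr (by rw [e', ← c.toOk.V_comm hb.2 (sq_mem c hb), mul_assoc, h2, mul_one])
  obtain ⟨m, hm, e⟩ := c.orbV _ ha.2 h1
  have hb := conj_U c (inv_mem hm) ha
  have h3 : Z2 (tau t (m⁻¹ * a * m⁻¹⁻¹)) (m⁻¹ * a * m⁻¹⁻¹ * (m⁻¹ * a * m⁻¹⁻¹)) := by
    have h4 := key _ hb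
    rcases e with e | e
    · have e' : tau t (m⁻¹ * a * m⁻¹⁻¹) = d.z := by rw [tconj c (inv_mem hm), e]; group
      rw [e'] at h4 ⊢
      exact c.fixz _ (sq_mem c hb) h4
    · have e' : tau t (m⁻¹ * a * m⁻¹⁻¹) = d.f := by rw [tconj c (inv_mem hm), e]; group
      rw [e'] at h4 ⊢
      exact c.fixf _ (sq_mem c hb) h4
  rw [tconj c (inv_mem hm), conj_mul] at h3
  exact h3.imp conj_eq_one_iff.1 fun e => by simpa using e

theorem comm_mem (ha : a ∈ U c) (hb : b ∈ U c) : ⁅a, b⁆ ∈ d.V := by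
  have h := conj_eq_of_mem (inv_mem hb).1 (inv_mem (sq_mem c ha))
  rw [show ⁅a, b⁆ = a * b * (a * b) * (b⁻¹ * (a * a)⁻¹ * b⁻¹⁻¹) * (b * b)⁻¹ by rw [commutatorElement_def]; group, h]
  exact mul_mem (mul_mem (sq_mem c (mul_mem ha hb)) (inv_mem (sq_mem c ha))) (inv_mem (sq_mem c hb))

theorem comm_mul (ha : a ∈ U c) (hb : b ∈ U c) (hx : x ∈ U c) : ⁅a * b, x⁆ = ⁅b, x⁆ * ⁅a, x⁆ := by
  rw [← conj_eq_of_mem ha.1 (comm_mem c hb hx), commutatorElement_def, commutatorElement_def, commutatorElement_def]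
  group

/-- The involutions with non-trivial translation. -/
structure I (a : G) : Prop where
  mem : a ∈ U c
  sq : a * a = 1
  ne : tau t a ≠ 1

theorem I.comm (ha : I c a) (hb : I c b) : Z2 (tau t a * tau t b) ⁅a, b⁆ := by
  have := D2.sq c (mul_mem ha.mem hb.mem)
  rw [mulOn c a ha.mem b hb.mem] at this
  rwa [commutatorElement_def, inv_eq_of_sq ha.sq, inv_eq_of_sq hb.sq, mul_assoc]

theorem I.same (ha : I c a) (hb : I c b) (h : tau t a = tau t b) : a⁻¹ * b ∈ d.V :=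
  D2.same c ha.mem hb.mem h ha.ne (hb.sq.trans ha.sq.symm)

theorem tri (ha : I c a) (hb : I c b) (hne : tau t a ≠ tau t b) (h : Commute a b) (hx : I c x) : Commute a x := by
  have n : ∀ {u w : G}, u ∈ U c → tau t u ≠ tau t w → 1 ≠ tau t u * tau t w := fun hu h e =>
    h (mul_left_cancel ((tsq c hu).trans e))
  have hab : I c (a * b) := ⟨mul_mem ha.mem hb.mem, by rw [← pow_two, h.mul_pow, pow_two, pow_two, ha.sq, hb.sq, mul_one],
    by rw [mulOn c a ha.mem b hb.mem]; exact (n ha.mem hne).symm⟩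
  by_cases e1 : tau t a = tau t x
  · exact comm_of c ha.mem (ha.same c hx e1) (.refl a)
  have h1 := hab.comm c hx
  rw [comm_mul c ha.mem hb.mem hx.mem, mulOn c a ha.mem b hb.mem] at h1
  by_cases e2 : tau t b = tau t x
  · exact comm_of c ha.mem (hb.same c hx e2) h
  refine commutatorElement_eq_one_iff_commute.1 ((ha.comm c hx).resolve_right fun e3 => ?_)
  have p := c.toOk.V_comm ha.mem.2 hb.mem.2
  rw [e3] at h1
  rcases hb.comm c hx with e4 | e4 <;> rw [e4] at h1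
  · rcases h1 with e | e
    · exact n ha.mem e1 (by rw [← e, one_mul])
    · rw [one_mul, mul_left_inj, left_eq_mul] at e
      exact hb.ne e
  · have e5 : tau t b * tau t x * (tau t a * tau t x) = tau t a * tau t b := by
      rw [c.toOk.V_comm ha.mem.2 hx.mem.2, mul_assoc, ← mul_assoc (tau t x), tsq c hx.mem, one_mul, p]
    rw [e5] at h1
    exact h1.elim (fun e => n ha.mem hne e.symm) fun e => hx.ne (left_eq_mul.1 e)

/-- The elements with `a² = (τ a)ⁿ`. -/
def S (n : ℕ) (a : G) : Prop := a ∈ U c ∧ a * a = tau t a ^ n ∧ (tau t a = 1 → a ∈ d.V)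

theorem mk (hz : ∃ u ∈ 𝒞(d.V), tau t u = d.z) {n : ℕ} (hn : n = 0 ∨ n = 1)
    (h : ∀ a b, S c n a → S c n b → tau t a ≠ 1 → tau t b ≠ 1 → tau t a ≠ tau t b → Commute a b) : ∃ W, Dbl d t W := by
  have sm : ∀ a b, S c n a → S c n b → tau t a = tau t b → a⁻¹ * b ∈ d.V := fun a b ha hb e => by
    by_cases h1 : tau t a = 1
    · exact mul_mem (inv_mem (ha.2.2 h1)) (hb.2.2 (e ▸ h1))
    · exact same c ha.1 hb.1 e h1 (by rw [ha.2.1, hb.2.1, e])
  have cc : ∀ a b, S c n a → S c n b → Commute a b := fun a b ha hb => by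
    by_cases h1 : tau t a = 1
    · exact cm c hb.1 (ha.2.2 h1)
    by_cases h2 : tau t b = 1
    · exact (cm c ha.1 (hb.2.2 h2)).symm
    by_cases h3 : tau t a = tau t b
    · exact comm_of c ha.1 (sm a b ha hb h3) (.refl a)
    · exact h a b ha hb h1 h2 h3
  have hV : ∀ v ∈ d.V, S c n v := fun v hv => ⟨V_le c hv, by rw [c.V_sq v hv, tauV c hv, one_pow], fun _ => hv⟩
  let W : Subgroup G :=
    { carrier := {a | S c n a}
      one_mem' := hV 1 (one_mem _)
      mul_mem' := fun {a b} ha hb => ⟨mul_mem ha.1 hb.1, by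
        rw [← pow_two, (cc a b ha hb).mul_pow, pow_two, pow_two, ha.2.1, hb.2.1, mulOn c a ha.1 b hb.1,
          Commute.mul_pow (c.toOk.V_comm ha.1.2 hb.1.2)], fun e => by
        rw [mulOn c a ha.1 b hb.1] at e
        rw [show a * b = a * a * (a⁻¹ * b) by group]
        exact mul_mem (sq_mem c ha.1) (sm a b ha hb (mul_left_cancel ((tsq c ha.1).trans e.symm)))⟩
      inv_mem' := fun {a} ha => ⟨inv_mem ha.1, by rw [(mulOn c).inv ha.1, ← mul_inv_rev, ha.2.1, inv_pow], fun e => by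
        rw [(mulOn c).inv ha.1, inv_eq_one] at e
        exact inv_mem (ha.2.2 e)⟩ }
  obtain ⟨u, hu, eu⟩ := hz
  have hu' : u ∈ U c := ⟨hu, eu ▸ c.z_V⟩
  have sj : (mulOn c).img (U c) = d.V := by
    refine (c.irr _ ((mulOn c).img_le fun a _ ha => ha.2) fun m hm => mem_norm_of fun y hy => ?_).resolve_left fun e =>
      c.z_ne (mem_bot.1 (e.le (eu ▸ (mulOn c).mem_img_of hu' hu')))
    obtain ⟨a, ha, -, rfl⟩ := (mulOn c).mem_img.1 hy
    rw [← tconj c hm]
    exact (mulOn c).mem_img_of (conj_U c hm ha) (conj_U c hm ha)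
  refine ⟨W, hV, fun a ha b hb => cc a b ha hb, fun w hw => hw.1.2, fun v hv => ?_, fun w hw => hw.2.2, fun m hm => mem_norm_of fun a ha => ?_,
    hn.imp (fun e w hw => by rw [hw.2.1, e, pow_zero]) fun e w hw => by rw [hw.2.1, e, pow_one]⟩
  · by_cases h1 : v = 1
    · exact ⟨1, one_mem _, by rw [h1, tauV c (one_mem _)]⟩
    obtain ⟨a, ha, -, rfl⟩ := (mulOn c).mem_img.1 (sj.ge hv)
    by_cases h2 : a * a = tau t a ^ n
    · exact ⟨a, ⟨ha, h2, fun e => absurd e h1⟩, rfl⟩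
    refine ⟨a * t, ⟨mul_mem ha (t_mem c), ?_, fun e => absurd ((tau_mt c a).symm.trans e) h1⟩, tau_mt c a⟩
    rw [sq_t c ha, tau_mt c]
    rcases hn with rfl | rfl
    · rw [(sq c ha).resolve_left (by rwa [pow_zero] at h2), tsq c ha, pow_zero]
    · rw [(sq c ha).resolve_right (by rwa [pow_one] at h2), one_mul, pow_one]
  · refine ⟨conj_U c hm ha.1, by rw [conj_mul, ha.2.1, tconj c hm, conj_pow], fun e => ?_⟩
    rw [tconj c hm, conj_eq_one_iff] at e
    exact c.toOk.conj_V hm (ha.2.2 e)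

end D2

open D2 in
theorem d2 : D2.{u} := by
  intro G _ _ d t c hz
  by_cases h : ∃ a b, I c a ∧ I c b ∧ tau t a ≠ tau t b ∧ Commute a b
  · obtain ⟨a, b, ha, hb, hne, e⟩ := h
    refine mk c hz (.inl rfl) fun x y hx hy x1 y1 _ => ?_
    have ix : I c x := ⟨hx.1, hx.2.1.trans (pow_zero _), x1⟩
    have iy : I c y := ⟨hy.1, hy.2.1.trans (pow_zero _), y1⟩
    by_cases e1 : tau t x = tau t a
    · exact tri c ix hb (e1 ▸ hne) (tri c hb ha hne.symm e.symm ix).symm iy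
    · exact tri c ix ha e1 (tri c ha hb hne e ix).symm iy
  · refine mk c hz (.inr rfl) fun x y hx hy x1 y1 hne => ?_
    have k : ∀ x, S c 1 x → tau t x ≠ 1 → I c (x * t) := fun x hx x1 => ⟨mul_mem hx.1 (t_mem c), by
      rw [sq_t c hx.1, hx.2.1, pow_one, tsq c hx.1], by rwa [tau_mt c]⟩
    have e := ((k x hx x1).comm c (k y hy y1)).resolve_left fun e => h ⟨_, _, k x hx x1, k y hy y1,
      by rwa [tau_mt c, tau_mt c], commutatorElement_eq_one_iff_commute.1 e⟩
    have p : ∀ x ∈ U c, ∀ y ∈ U c, x * t * (y * t) = tau t y * (x * y) := fun x hx y hy => by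
      calc x * t * (y * t) = x * (t * y) * t := by group
        _ = x * tau t y * y * (t * t) := by rw [t_mul c hy]; group
        _ = _ := by rw [c.t_sq, ← (cm c hx hy.2).eq]; group
    rw [tau_mt c, tau_mt c, commutatorElement_def, mul_assoc, ← mul_inv_rev, mul_inv_eq_iff_eq_mul, p x hx.1 y hy.1,
      p y hy.1 x hx.1, c.toOk.V_comm hx.1.2 hy.1.2, mul_assoc, ← mul_assoc (tau t x), tsq c hx.1, one_mul] at e
    exact mul_left_cancel e

end CL.SJ
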