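/-
Project SJ4, step D3: an element of `W` over `z` which centralises `J`.
-/
import Cfsg.Agent.SJ4.Basic

set_option autoImplicit false
set_option linter.unusedSectionVars false
open Cfsg Subgroup CL.Even CL.Grp CL.Wr CL.Wr.P5a
open scoped commutatorElement

namespace CL.SJ

universe u

theorem d3 : D3.{u} := fun {G} _ _ d t W c b => by
  have o := c.toOk
  obtain ⟨h, hh, h1, h2, h3⟩ := c.delta
  obtain ⟨u, hu, eu⟩ := b.surj _ c.z_V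
  have zW := b.le c.z_V
  have nJ : ∀ x ∈ W, tau t x = d.z → x ∈ 𝒩(d.J) := fun x hx e => c.norm_J (b.comm x hx _ zW) (.inr e)
  have hF : cj h d.V ≤ d.J := cj_le_of_le c.V_J (o.J_norm hh)
  obtain ⟨k, hk, e⟩ := c.uniqH (cj u (cj h d.V)) ((cj_le_of_le hF (nJ u hu eu)).trans o.J_H) (by
    rintro _ ⟨_, ⟨x, hx, rfl⟩, rfl⟩
    rw [← map_mul, ← map_mul, c.V_sq x hx, map_one, map_one]) (by rw [card_cj, card_cj, c.card_V])
  obtain ⟨v, hv, e'⟩ := h3 k hk fun v hv hv' => h1 v hv (by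
    rw [← e, mem_cj, mul_assoc, b.comm v (b.le hv) u hu, inv_mul_cancel_left] at hv'
    exact hv')
  have n1 : v⁻¹ * u ∈ 𝒩(cj h d.V) := cj_eq_iff_mem.1 (by rw [cj_mul, e, e', cj_mul, cj_inv_cj])
  have m1 : v⁻¹ * u ∈ W := mul_mem (inv_mem (b.le hv)) hu
  have t1 : tau t (v⁻¹ * u) = d.z := by
    rw [b.tau_mul c (inv_mem (b.le hv)) hu, c.tau_A (inv_mem (o.V_A hv)), one_mul, eu]
  generalize v⁻¹ * u = x at n1 m1 t1
  have pF : d.p ∈ 𝒩(cj h d.V) := by rw [← cj_norm]; exact mem_cj.2 (o.M_norm (c.p_conj h hh))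
  have pt := c.t_cen _ (o.M_A c.p_M)
  have pz := o.H_z o.p_H
  have m2 := conj_mem (b.norm c.p_M) m1
  have m3 := conj_mem' (b.norm c.p_M) m1
  obtain ⟨w, hw, tw, nw, pw⟩ : ∃ w ∈ W, tau t w = d.z ∧ w ∈ 𝒩(cj h d.V) ∧ d.p * w * d.p⁻¹ = w := by
    refine ⟨x * (d.p * x * d.p⁻¹) * (d.p⁻¹ * x * d.p), mul_mem (mul_mem m1 m2) m3, ?_,
      mul_mem (mul_mem n1 (mul_mem (mul_mem pF n1) (inv_mem pF))) (mul_mem (mul_mem (inv_mem pF) n1) pF), ?_⟩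
    · have := tau_conj (t := t) (show Commute d.p t from pt).inv_left.eq x
      rw [inv_inv] at this
      rw [b.tau_mul c (mul_mem m1 m2) m3, b.tau_mul c m1 m2, tau_conj pt, this, t1, pz, mul_inv_cancel_right, o.z_sq,
        one_mul, mul_assoc, ← pz, inv_mul_cancel_left]
    · calc _ = d.p * x * d.p⁻¹ * (d.p * d.p * x * (d.p * d.p)⁻¹) * x := by group
        _ = _ := by rw [← o.p_inv, inv_inv, ← b.comm x m1 _ (mul_mem m2 m3), mul_assoc x]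
  have wz := b.comm w hw _ zW
  have k1 : ∀ q ∈ d.Q, ⁅w, q⁆ ∈ d.V := fun q hq => by
    have := b.mem_V_of_eq c (inv_mem hw) (conj_mem (b.norm (o.Q_M hq)) (inv_mem hw)) (by
      rw [tau_conj (c.t_cen q (o.Q_A hq)), b.tau_inv c hw, tw, o.H_z (o.Q_H hq), mul_inv_cancel_right])
    rwa [show w⁻¹⁻¹ * (q * w⁻¹ * q⁻¹) = ⁅w, q⁆ by rw [commutatorElement_def]; group] at this
  have k2 : ∀ q ∈ d.Q, Z2 d.z ⁅w, q⁆ := fun q hq => by
    obtain ⟨a, ha, -, r, hr, hr', rfl⟩ := h2 q hq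
    have := h1 _ (k1 r hr') (mul_mem (conj_mem nw hr) (inv_mem hr))
    rwa [show ⁅w, a * r⁆ = ⁅w, r⁆ by
      calc ⁅w, a * r⁆ = (w * a) * r * w⁻¹ * r⁻¹ * a⁻¹ := by rw [commutatorElement_def]; group
        _ = a * ⁅w, r⁆ * a⁻¹ := by rw [b.comm w hw a (b.le ha), commutatorElement_def]; group
        _ = _ := by rw [o.V_comm ha (k1 r hr'), mul_inv_cancel_right]]
  have k3 : ∀ q ∈ d.Q, ∀ r ∈ d.Q, ⁅w, q * r⁆ = ⁅w, q⁆ * ⁅w, r⁆ := fun q hq r hr => by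
    calc ⁅w, q * r⁆ = ⁅w, q⁆ * (q * ⁅w, r⁆) * q⁻¹ := by simp only [commutatorElement_def]; group
      _ = _ := by rw [(k2 r hr).comm (o.H_z (o.Q_H hq))]; group
  have k4 : ∀ q ∈ d.Q, ⁅w, d.p * q * d.p⁻¹⁆ = ⁅w, q⁆ := fun q hq => by
    rw [← pw, ← conjugate_commutatorElement, pw, (k2 q hq).comm pz, mul_inv_cancel_right]
  refine ⟨w, hw, tw, o.cen_J (nJ w hw tw) fun q hq => commutatorElement_eq_one_iff_mul_comm.1 ?_⟩
  have q2 := o.conj_Q o.p_H hq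
  have q3 := conj_mem' (c.Q_norm o.p_H) hq
  have k5 := k4 _ q3
  rw [show d.p * (d.p⁻¹ * q * d.p) * d.p⁻¹ = q by group] at k5
  have k6 := commutatorElement_eq_one_iff_mul_comm.2 ((c.p_fpf q hq).comm wz)
  rwa [k3 _ (mul_mem hq q2) _ q3, k3 _ hq _ q2, k4 q hq, ← k5, (k2 q hq).sq o.z_sq, one_mul] at k6

end CL.SJ
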