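/-
Project SJ4, step E: the fusion of `t` in `N(W) / W`.
-/
import Cfsg.Agent.SJ4.Basic

set_option autoImplicit false
set_option linter.unusedSectionVars false
open Cfsg Subgroup CL.Even CL.Grp CL.Wr CL.Wr.P5a
open scoped commutatorElement

namespace CL.SJ

universe u

namespace E

variable {G : Type u} [Group G] [Finite G] {d : Dat G} {t w : G} {W : Subgroup G}

/-- The quotient map as a partial homomorphism. -/
theorem exists_quot {N Z : Subgroup G} (h : N ≤ 𝒩(Z)) (hZ : Z ≤ N) :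
    ∃ (Γ : Type u) (_ : Group Γ) (f : G → Γ), MulOn N f ∧ ∀ x ∈ N, f x = 1 ↔ x ∈ Z := by
  classical
  have : (Z.subgroupOf N).Normal := (normal_subgroupOf_iff_le_normalizer hZ).2 h
  refine ⟨N ⧸ Z.subgroupOf N, inferInstance, fun x => if hx : x ∈ N then QuotientGroup.mk ⟨x, hx⟩ else 1,
    fun x hx y hy => ?_, fun x hx => ?_⟩
  · simp only [dif_pos hx, dif_pos hy, dif_pos (mul_mem hx hy)]
    rfl
  · simp only [dif_pos hx, QuotientGroup.eq_one_iff, mem_subgroupOf]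

/-- The hypotheses. -/
structure Hy (d : Dat G) (t : G) (W : Subgroup G) (w : G) : Prop where
  c : Cor d t
  b : Dbl d t W
  s : Zst d t W w
  e : Elm d W w

namespace Hy

variable (h : Hy d t W w)
include h

theorem o : Ok d := h.c.toOk
theorem w_sq : w * w = 1 := h.e.sq w h.s.mem
theorem wz : w * d.z = d.z * w := h.s.z_comm h.b
theorem tw : tau t w ≠ 1 := h.s.tau ▸ h.c.z_ne

/-- The four-group `⟨z, w⟩`. -/
def Z : Subgroup G where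
  carrier := {x | Z4 d.z w x}
  one_mem' := .inl rfl
  mul_mem' := by
    have h1 := h.o.z_sq
    have h2 := h.w_sq
    have h3 := h.wz
    have h4 : ∀ x, d.z * (w * x) = w * (d.z * x) := fun x => by rw [← mul_assoc, ← h3, mul_assoc]
    have h5 : ∀ x, w * (w * x) = x := fun x => by rw [← mul_assoc, h2, one_mul]
    rintro _ _ (rfl | rfl | rfl | rfl) (e | e | e | e) <;> simp [Z4, e, mul_assoc, h1, h2, h4, h5, ← h3]
  inv_mem' := by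
    intro x hx
    rwa [Set.mem_ofPred_eq, inv_eq_of_sq (h.e.sq x (Z4.mem hx (h.b.le h.c.z_V) h.s.mem))]

theorem mem_Z {x : G} : x ∈ h.Z ↔ Z4 d.z w x := Iff.rfl
theorem Z_le {K : Subgroup G} (h1 : d.z ∈ K) (h2 : w ∈ K) : h.Z ≤ K := fun _ hx => Z4.mem hx h1 h2
theorem Z_W : h.Z ≤ W := h.Z_le (h.b.le h.c.z_V) h.s.mem
theorem cenZ {g : G} (h1 : g * d.z = d.z * g) (h2 : g * w = w * g) : g ∈ 𝒞(h.Z) :=
  mem_cent.2 fun _ hx => mem_cent1.1 (h.Z_le (mem_cent1.2 h1.symm) (mem_cent1.2 h2.symm) hx)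
theorem J_cen : d.J ≤ 𝒞(h.Z) := fun j hj => h.cenZ (h.o.H_z (h.o.J_H hj)) (h.s.cen j hj)
theorem W_cen : W ≤ 𝒞(h.Z) := fun x hx => mem_cent.2 fun y hy => h.b.comm y (h.Z_W hy) x hx
theorem Z_A {x : G} (hx : x ∈ h.Z) (hA : x ∈ d.A) : Z2 d.z x := by
  rcases hx with e | e | e | e
  exacts [.inl e, .inr e, absurd (e ▸ hA) (h.s.not_A h.b h.c),
    absurd ((mul_mem_cancel_right h.o.z_A).1 (e ▸ hA)) (h.s.not_A h.b h.c)]

theorem mem_R {x : G} : x ∈ d.Q ⊔ h.Z ↔ ∃ q ∈ d.Q, ∃ ζ ∈ h.Z, q * ζ = x :=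
  mem_sup_nr ((h.c.Q_J.trans h.J_cen).trans (cent_le_norm _))

theorem R_A {x : G} (hx : x ∈ d.Q ⊔ h.Z) (hA : x ∈ d.A) : x ∈ d.Q := by
  obtain ⟨q, hq, ζ, hζ, rfl⟩ := h.mem_R.1 hx
  exact mul_mem hq ((h.Z_A hζ ((mul_mem_cancel_left (h.o.Q_A hq)).1 hA)).mem h.c.z_Q)

theorem R_cen : d.Q ⊔ h.Z ≤ 𝒞(h.Z) := sup_le (h.c.Q_J.trans h.J_cen) (h.Z_W.trans h.W_cen)

theorem comm_R {g r : G} (hg : g ∈ 𝒞(h.Z) ⊓ cmod d.Q h.Z) (hr : r ∈ d.Q ⊔ h.Z) : ⁅r, g⁆ ∈ h.Z := by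
  obtain ⟨q, hq, ζ, hζ, rfl⟩ := h.mem_R.1 hr
  have : ⁅q * ζ, g⁆ = ⁅q, g⁆ := by
    calc ⁅q * ζ, g⁆ = q * (ζ * g) * ζ⁻¹ * q⁻¹ * g⁻¹ := by rw [commutatorElement_def]; group
      _ = _ := by rw [comm_of_mem hg.1 hζ, commutatorElement_def]; group
  exact this ▸ hg.2.2 q hq

theorem conj_R {g r : G} (hg : g ∈ 𝒞(h.Z) ⊓ cmod d.Q h.Z) (hr : r ∈ d.Q ⊔ h.Z) : g * r * g⁻¹ ∈ d.Q ⊔ h.Z := by
  rw [show g * r * g⁻¹ = ⁅r, g⁆⁻¹ * r by rw [commutatorElement_def]; group]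
  exact mul_mem (inv_mem (mem_sup_right (h.comm_R hg hr))) hr

/-- The group `Y`. -/
def Y : Subgroup G where
  carrier := {g | g ∈ 𝒞(h.Z) ⊓ cmod d.Q h.Z ∧ tau t g ∈ d.Q ⊔ h.Z}
  one_mem' := ⟨one_mem _, by rw [h.c.tau_A (one_mem _)]; exact one_mem _⟩
  mul_mem' := fun {x y} hx hy => ⟨mul_mem hx.1 hy.1, by
    rw [tau_mul h.c.t_sq]; exact mul_mem (h.conj_R hx.1 hy.2) hx.2⟩
  inv_mem' := fun {x} hx => ⟨inv_mem hx.1, by
    have : tau t x⁻¹ = x⁻¹ * (tau t x)⁻¹ * x⁻¹⁻¹ := by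
      rw [tau_def, tau_def]; nth_rw 1 2 [← h.c.t_inv]; group
    exact this ▸ h.conj_R (inv_mem hx.1) (inv_mem hx.2)⟩

theorem mem_Y {g : G} (h1 : g ∈ 𝒞(h.Z)) (h2 : ∀ q ∈ d.Q, ⁅q, g⁆ ∈ h.Z) (h3 : tau t g ∈ d.Q ⊔ h.Z) : g ∈ h.Y :=
  ⟨⟨h1, cent_le_norm _ h1, h2⟩, h3⟩

theorem Y_cen : h.Y ≤ 𝒞(h.Z) := fun _ hx => hx.1.1

theorem tau_s {a : G} (ha : a ∈ d.A) : tau t (a * w * a⁻¹) = a * d.z * a⁻¹ := by
  rw [tau_conj (h.c.t_cen a ha), h.s.tau]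

theorem s_Y {a : G} (ha : a ∈ d.A) (hq : a * d.z * a⁻¹ ∈ d.Q) : a * w * a⁻¹ ∈ h.Y := by
  refine h.mem_Y ?_ (h.e.act a ha hq) (h.tau_s ha ▸ mem_sup_left hq)
  obtain ⟨k, hk, e⟩ := h.o.covQ hq ⟨a, ha, rfl⟩
  have h1 : h.Z ≤ cj k W := h.Z_le (mem_cj.2 (by
    rw [mul_assoc, ← h.o.H_z hk, inv_mul_cancel_left]; exact h.b.le h.c.z_V)) (mem_cj.2 (by
      have := h.s.H_conj h.b h.c (inv_mem hk)
      rw [inv_inv] at this
      rcases this with e | e <;> rw [e]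
      exacts [h.s.mem, mul_mem h.s.mem (h.b.le h.c.z_V)]))
  refine cent_mono h1 ?_
  rw [← cj_cent]
  exact cj_mono k (fun x hx => mem_cent.2 fun y hy => h.b.comm y hy x hx) (h.s.conj_mem h.b h.c ha (h.o.H_A hk) e)

theorem w_Y : w ∈ h.Y := by simpa using h.s_Y (one_mem _) (by simpa using h.c.z_Q)

theorem Q_Y : d.Q ≤ h.Y := fun x hx => h.mem_Y (h.J_cen (h.c.Q_J hx)) (fun q hq => (h.c.Q_comm q hq x hx).z4)
  (by rw [h.c.tau_A (h.o.Q_A hx)]; exact one_mem _)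

theorem R_Y : d.Q ⊔ h.Z ≤ h.Y := sup_le h.Q_Y (h.Z_le (h.Q_Y h.c.z_Q) h.w_Y)

theorem mem_Q {g : G} (hg : g ∈ h.Y) (ht : g * t = t * g) : g ∈ d.Q := by
  have hz := comm_of_mem hg.1.1 (x := d.z) (.inr (.inl rfl))
  have key : ∀ x ∈ d.H, (∀ q ∈ d.Q, ⁅q, x⁆ = ⁅q, g⁆) → x ∈ d.Q := fun x hx e => h.c.cQ x hx fun q hq =>
    h.Z_A (by rw [← commutatorElement_inv, e q hq]; exact inv_mem (hg.1.2.2 q hq))
      (by rw [commutatorElement_def]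
          exact mul_mem (mul_mem (mul_mem (h.o.H_A hx) (h.o.Q_A hq)) (inv_mem (h.o.H_A hx))) (inv_mem (h.o.Q_A hq)))
  refine key g ((h.c.mem_H g).2 ⟨h.c.mem_A ht h.tw (comm_of_mem hg.1.1 (.inr (.inr (.inl rfl)))).symm fun e =>
    h.s.cen _ (h.c.Q_J (key _ ((h.c.mem_H _).2 ⟨e, ?_⟩) fun q hq => ?_)), hz.symm⟩) fun _ _ => rfl
  · rw [mul_assoc, ← h.c.t_cen _ h.o.z_A, ← mul_assoc, ← hz, mul_assoc]
  · calc ⁅q, g * t⁆ = q * g * (t * q⁻¹ * t⁻¹) * g⁻¹ := by rw [commutatorElement_def]; group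
      _ = _ := by rw [h.c.t_conj (inv_mem (h.o.Q_A hq)), commutatorElement_def]

/-- Step (a). -/
theorem mem_R_of {g : G} (hg : g ∈ h.Y) (ht : tau t g ∈ h.Z) : g ∈ d.Q ⊔ h.Z := by
  rcases h.c.z2_of_z4 h.s.tau h.w_sq h.wz ht with e | e
  · exact mem_sup_left (h.mem_Q hg ((tau_eq_one h.c.t_sq).1 e))
  · exact (mul_mem_cancel_left (inv_mem (mem_sup_right (show w ∈ h.Z from .inr (.inr (.inl rfl)))))).1
      (mem_sup_left (h.mem_Q (mul_mem (inv_mem h.w_Y) hg) (tau_eq_iff.1 (h.s.tau.trans e.symm))))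

theorem U_Y : d.V ⊓ d.Q ≤ W ⊓ h.Y := inf_le_inf h.b.le h.Q_Y

theorem tau_Y {x : G} (hx : x ∈ W ⊓ h.Y) : tau t x ∈ d.V ⊓ d.Q :=
  ⟨h.b.mem x hx.1, h.R_A hx.2.2 (h.o.V_A (h.b.mem x hx.1))⟩

theorem surj_Y {u : G} (hu : u ∈ d.V ⊓ d.Q) : ∃ x ∈ W ⊓ h.Y, tau t x = u := by
  obtain ⟨x, hx, -, e⟩ := (h.b.tau_mulOn h.c).mem_img.1 (h.c.genU.trans ((closure_le ((h.b.tau_mulOn h.c).img
    (W ⊓ h.Y))).2 fun x hx => by
      obtain ⟨m, hm, rfl⟩ := h.o.fuse hx.1 hx.2.2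
      have := conj_mem (h.b.norm hm) h.s.mem
      exact h.tau_s (h.o.M_A hm) ▸ (h.b.tau_mulOn h.c).mem_img_of ⟨this, h.s_Y (h.o.M_A hm) hx.2.1⟩ this) hu)
  exact ⟨x, hx, e⟩

/-- Step (b). -/
theorem s_norm {a : G} (ha : a ∈ d.A) (hq : a * d.z * a⁻¹ ∈ d.Q) : a * w * a⁻¹ ∈ 𝒩(W ⊓ h.Y) := by
  obtain ⟨Γ, _, f, hf, kf⟩ := exists_quot (cent_le_norm h.Z) (h.Z_W.trans h.W_cen)
  have cen : ∀ g ∈ h.Y, ∀ r ∈ d.Q ⊔ h.Z, Commute (f r) (f g) := fun g hg r hr => by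
    rw [← commutatorElement_eq_one_iff_commute, ← hf.comm (h.R_cen hr) (h.Y_cen hg)]
    exact (kf _ (h.W_cen (h.Z_W (h.comm_R hg.1 hr)))).2 (h.comm_R hg.1 hr)
  have hφ : MulOn h.Y fun g => f (tau t g) := fun x hx y hy => by
    have h1 := h.R_cen hx.2
    have h2 := h.R_cen hy.2
    have h3 := h.Y_cen hx
    simp only
    rw [tau_mul h.c.t_sq, hf _ (mul_mem (mul_mem h3 h2) (inv_mem h3)) _ h1, hf.conj h3 h2, ← (cen x hx _ hy.2).eq,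
      mul_inv_cancel_right, (cen _ (h.R_Y hx.2) _ hy.2).eq]
  have ker : ∀ g ∈ h.Y, f (tau t g) = 1 → g ∈ d.Q ⊔ h.Z := fun g hg e => h.mem_R_of hg ((kf _ (h.R_cen hg.2)).1 e)
  have hσ := h.s_Y ha hq
  refine mem_norm_of fun x hx => ?_
  generalize e : a * w * a⁻¹ = σ at hσ
  have hk : ⁅x, σ⁆ ∈ h.Y := by
    rw [commutatorElement_def]; exact mul_mem (mul_mem (mul_mem hx.2 hσ) (inv_mem hx.2)) (inv_mem hσ)
  obtain ⟨q, hq', ζ, hζ, e'⟩ := h.mem_R.1 (ker _ hk (by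
    rw [hφ.comm hx.2 hσ]; exact commutatorElement_eq_one_iff_commute.2 (cen _ (h.R_Y hσ.2) _ hx.2.2)))
  have hV : q ∈ d.V := h.c.cVQ q hq' fun v hv => by
    have vA := h.o.V_A hv
    have vZ := h.J_cen (h.c.V_J hv)
    have h1 : v * a * d.z * (v * a)⁻¹ = v * (a * d.z * a⁻¹) * v⁻¹ := by group
    have h2 : v * σ * v⁻¹ ∈ h.Y := by
      have := h.s_Y (mul_mem vA ha) (h1 ▸ h.o.conj_Q (h.o.V_H hv) hq)
      rwa [show v * a * w * (v * a)⁻¹ = v * σ * v⁻¹ by rw [← e]; group] at this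
    have h3 : tau t σ = a * d.z * a⁻¹ := e ▸ h.tau_s ha
    obtain ⟨x', hx', e1⟩ := h.surj_Y (u := (tau t σ)⁻¹ * (v * tau t σ * v⁻¹)) (mem_inf.2 ⟨by
      rw [show (tau t σ)⁻¹ * (v * tau t σ * v⁻¹) = (tau t σ)⁻¹ * v * tau t σ * v⁻¹ by group, h3]
      exact mul_mem (conj_mem' (h.o.M_norm (h.o.Q_M hq)) hv) (inv_mem hv),
      by rw [h3]; exact mul_mem (inv_mem hq) (h.o.conj_Q (h.o.V_H hv) hq)⟩)
    have h4 := mul_mem (inv_mem hσ) h2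
    have h5 := ker _ (mul_mem (inv_mem hx'.2) h4) (by
      refine (hφ.eq_iff hx'.2 h4).1 (Eq.trans ?_ (hφ _ (inv_mem hσ) _ h2).symm)
      simp only
      rw [hφ.inv hσ, e1, tau_conj (h.c.t_cen v vA), hf _ (inv_mem (h.R_cen hσ.2)) _
        (mul_mem (mul_mem vZ (h.R_cen hσ.2)) (inv_mem vZ)), hf.inv (h.R_cen hσ.2)])
    have h6 : Commute (f x) (f (σ⁻¹ * (v * σ * v⁻¹))) := by
      rw [← mul_inv_cancel_left x' (σ⁻¹ * _), hf _ (h.Y_cen hx'.2) _ (h.R_cen h5)]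
      exact Commute.mul_right (hf.mul_comm (h.Y_cen hx.2) (h.Y_cen hx'.2) (h.b.comm x hx.1 x' hx'.1))
        (cen x hx.2 _ h5).symm
    have h7 : f (v * ⁅x, σ⁆ * v⁻¹) = f ⁅x, σ⁆ := by
      rw [conjugate_commutatorElement, h.b.comm v (h.b.le hv) x hx.1, mul_inv_cancel_right,
        hf.comm (h.Y_cen hx.2) (h.Y_cen h2), hf.comm (h.Y_cen hx.2) (h.Y_cen hσ), ← mul_inv_cancel_left σ (v * σ * v⁻¹),
        hf _ (h.Y_cen hσ) _ (h.Y_cen h4)]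
      generalize f (σ⁻¹ * (v * σ * v⁻¹)) = g at h6
      calc ⁅f x, f σ * g⁆ = f x * f σ * (g * (f x)⁻¹) * g⁻¹ * (f σ)⁻¹ := by rw [commutatorElement_def]; group
        _ = _ := by rw [← h6.inv_left.eq, commutatorElement_def]; group
    have h8 : ⁅v, ⁅x, σ⁆⁆ = ⁅v, q⁆ := by
      calc ⁅v, ⁅x, σ⁆⁆ = v * q * (ζ * v⁻¹) * ζ⁻¹ * q⁻¹ := by rw [← e', commutatorElement_def]; group
        _ = _ := by rw [comm_of_mem (inv_mem vZ) hζ, commutatorElement_def]; group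
    have h9 := mul_mem (mul_mem vZ (h.Y_cen hk)) (inv_mem vZ)
    refine h.Z_A (h8 ▸ (kf _ (mul_mem h9 (inv_mem (h.Y_cen hk)))).1 (by
      rw [hf _ h9 _ (inv_mem (h.Y_cen hk)), h7, hf.inv (h.Y_cen hk), mul_inv_cancel])) ?_
    rw [commutatorElement_def]
    exact mul_mem (mul_mem (mul_mem vA (h.o.Q_A hq')) (inv_mem vA)) (inv_mem (h.o.Q_A hq'))
  rw [show σ * x * σ⁻¹ = ⁅x, σ⁆⁻¹ * x by rw [commutatorElement_def]; group]
  exact mul_mem (inv_mem ⟨e' ▸ mul_mem (h.b.le hV) (h.Z_W hζ), hk⟩) hx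

theorem t_norm : t ∈ 𝒩(W ⊓ h.Y) := mem_norm_of fun x hx => by
  rw [h.b.t_conj h.c hx.1]; exact mul_mem (h.U_Y (h.tau_Y hx)) hx

theorem Q_norm : d.Q ≤ 𝒩(W ⊓ h.Y) := le_norm_inf (h.o.Q_M.trans h.b.norm) (le_norm_of_le h.Q_Y)

theorem W_C : W ≤ 𝒞(W ⊓ h.Y) := fun x hx => mem_cent.2 fun y hy => h.b.comm y hy.1 x hx

theorem t_C {y : G} (hy : y ∈ d.Q) : y * t ∉ 𝒞(W ⊓ h.Y) := fun e => h.tw ((tau_eq_one h.c.t_sq).2 (mul_left_cancel (a := y)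
  (by rw [← mul_assoc, h.s.cen y (h.c.Q_J hy), mul_assoc, comm_of_mem e ⟨h.s.mem, h.w_Y⟩, mul_assoc])))

theorem C_V {g : G} (hg : g ∈ 𝒞(W ⊓ h.Y)) (ht : g * t = t * g) : g ∈ d.V :=
  h.c.cenU g (h.c.mem_A ht h.tw (comm_of_mem hg ⟨h.s.mem, h.w_Y⟩).symm fun e =>
    h.b.comm _ (h.b.le (h.c.cenU _ e fun u h1 h2 => by
      rw [mul_assoc, ← h.c.t_cen u (h.o.V_A h1), ← mul_assoc, ← comm_of_mem hg (h.U_Y ⟨h1, h2⟩), mul_assoc])) _ h.s.mem)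
    fun u h1 h2 => (comm_of_mem hg (h.U_Y ⟨h1, h2⟩)).symm

/-- Step (c): the Sylow subgroup. -/
theorem syl : IsSylowIn 2 (W ⊔ zpowers t) (𝒞(W ⊓ h.Y) ⊔ zpowers t) := by
  have := Fact.mk Nat.prime_two
  have tW := h.b.t_norm h.c
  have tC := norm_le_norm_cent _ h.t_norm
  refine isSylowIn_of_maximal (sup_le_sup_right h.W_C _) (isPGroup_sup' (isP_of_sq h.e.sq)
    (isPGroup_zpowers (k := 1) (by rw [pow_one, pow_two, h.c.t_sq])) (zpowers_le.2 tW)) fun U hU h1 h2 => ?_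
  by_contra hne
  obtain ⟨n, hn, hn'⟩ := SetLike.exists_of_lt (lt_inf_normalizer_of_isPGroup hU (lt_of_le_of_ne h1 (Ne.symm hne)))
  have key : ∀ n ∈ 𝒞(W ⊓ h.Y), n ∈ 𝒩(W ⊔ zpowers t) → n ∈ W := fun n hC hN => by
    have h3 := ((mem_sup_inv h.c.t_sq tW).1 (conj_mem hN (mem_sup_right (mem_zpowers t)))).resolve_left fun e =>
      h.t_C (one_mem _) (by
        rw [one_mul, ← mul_mem_cancel_left hC, ← mul_mem_cancel_right (inv_mem hC)]; exact h.W_C e)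
    obtain ⟨x, hx, e⟩ := h.b.inv_coset h.c h.e.sq h3 (by
      rw [← tau_def, ← tau_conj_t h.c.t_sq, conj_mul, h.c.t_sq]; group)
    rw [← tau_def, ← tau_conj_t h.c.t_sq] at e
    exact (mul_mem_cancel_left (inv_mem hx)).1 (h.b.le (h.C_V (mul_mem (inv_mem (h.W_C hx)) hC) (by
      calc x⁻¹ * n * t = x⁻¹ * (n * t * n⁻¹) * n := by group
        _ = _ := by rw [e]; group)))
  refine hn' ((mem_sup_inv h.c.t_sq tW).2 (((mem_sup_inv h.c.t_sq tC).1 (h2 hn.1)).imp (fun e => key n e hn.2) fun e =>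
    key _ e (mul_mem hn.2 (le_normalizer (mem_sup_right (mem_zpowers t))))))

theorem fus : Fus d t W := by
  have := Fact.mk Nat.prime_two
  obtain ⟨y, hy, hcl, hV⟩ := h.o.exists_y
  have y2 := h.o.cl_sq hcl
  obtain ⟨a, ha, e⟩ := hcl
  have yt := h.c.t_cen y (h.o.Q_A hy)
  have t2 : y * t * (y * t) = 1 := by
    rw [← pow_two, (show Commute y t from yt).mul_pow, pow_two, pow_two, y2, h.c.t_sq, one_mul]
  have hσ := norm_le_norm_cent _ (h.s_norm ha (e ▸ hy))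
  have e1 : a * w * a⁻¹ * t * (a * w * a⁻¹)⁻¹ = y * t := by rw [tau_conj_t h.c.t_sq, h.tau_s ha, e]
  generalize a * w * a⁻¹ = σ at hσ e1
  have tW : y * t ∈ 𝒩(W) := mul_mem (h.b.norm (h.o.Q_M hy)) (h.b.t_norm h.c)
  have tC : y * t ∈ 𝒩(𝒞(W ⊓ h.Y)) := norm_le_norm_cent _ (mul_mem (h.Q_norm hy) h.t_norm)
  have h1 := syl_cj h.syl σ
  rw [cj_sup σ 𝒞(W ⊓ h.Y), cj_eq hσ, MonoidHom.map_zpowers] at h1
  change IsSylowIn 2 _ (_ ⊔ zpowers (σ * t * σ⁻¹)) at h1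
  rw [e1] at h1
  obtain ⟨k, hk, e2⟩ := syl_conj h1 (h1.of_card_le (U := W ⊔ zpowers (y * t)) (isPGroup_sup' (isP_of_sq h.e.sq)
    (isPGroup_zpowers (k := 1) (by rw [pow_one, pow_two, t2])) (zpowers_le.2 tW)) (sup_le_sup_right h.W_C _) (by
      rw [card_cj, card_sup_inv h.c.t_sq (h.b.t_norm h.c) (h.b.t_not h.c), card_sup_inv t2 tW fun e => h.t_C hy (h.W_C e)]))
  rw [← cj_mul] at e2
  have sC : k * σ ∈ 𝒩(𝒞(W ⊓ h.Y)) := mul_mem (sup_le le_normalizer (zpowers_le.2 tC) hk) hσ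
  have sW : k * σ ∈ 𝒩(W) := mem_norm_of fun x hx =>
    ((mem_sup_inv t2 tW).1 (e2.le (conj_mem_cj _ (mem_sup_left hx)))).resolve_right fun e =>
      h.t_C hy ((mul_mem_cancel_left (conj_mem sC (h.W_C hx))).1 (h.W_C e))
  have h3 := ((mem_sup_inv t2 tW).1 (e2.le (conj_mem_cj _ (mem_sup_right (mem_zpowers t))))).resolve_left fun e =>
    h.b.t_not h.c (by simpa [mul_assoc] using conj_mem' sW e)
  refine ⟨_, sW, y, hy, y2, hV, _, conj_mem' tW h3, ?_⟩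
  rw [← yt]
  generalize y * t = r at t2
  calc _ = k * σ * t * (k * σ)⁻¹ * (r * r) := by rw [t2, mul_one]
    _ = _ := by group

end Hy

end E

theorem eThm : EThm.{u} := fun _ _ _ _ c b s e => E.Hy.fus ⟨c, b, s, e⟩

end CL.SJ
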