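/-
Project SJ4, step D4: `W` is elementary abelian, and the conjugates of `w` act trivially on `Q` modulo `⟨z, w⟩`.
-/
import Cfsg.Agent.SJ4.E

set_option autoImplicit false
set_option linter.unusedSectionVars false
open Cfsg Subgroup CL.Even CL.Grp CL.Wr CL.Wr.P5a
open scoped commutatorElement

namespace CL.SJ

universe u

namespace D4

variable {G : Type u} [Group G] [Finite G] {d : Dat G} {t w q u x : G} {W Z : Subgroup G} {Γ : Type u} [Group Γ]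
  {f : G → Γ}

theorem exists_Z (c : Cor d t) (b : Dbl d t W) (s : Zst d t W w) : ∃ Z : Subgroup G, ∀ x, x ∈ Z ↔ Z4 d.z w x := by
  have h1 := c.toOk.z_sq
  have h3 := s.z_comm b
  have h4 : ∀ x, d.z * (w * x) = w * (d.z * x) := fun x => by rw [← mul_assoc, ← h3, mul_assoc]
  have h6 : ∀ x, d.z * (d.z * x) = x := fun x => by rw [← mul_assoc, h1, one_mul]
  have key : ∀ x y, Z4 d.z w x → Z4 d.z w y → Z4 d.z w (x * y) := by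
    rcases b.sq.imp (fun e => e w s.mem) fun e => (e w s.mem).trans s.tau with h2 | h2
    · have h5 : ∀ x, w * (w * x) = x := fun x => by rw [← mul_assoc, h2, one_mul]
      rintro _ _ (rfl | rfl | rfl | rfl) (e | e | e | e) <;> simp [Z4, e, mul_assoc, h1, h2, h4, h5, ← h3]
    · have h5 : ∀ x, w * (w * x) = d.z * x := fun x => by rw [← mul_assoc, h2]
      rintro _ _ (rfl | rfl | rfl | rfl) (e | e | e | e) <;> simp [Z4, e, mul_assoc, h1, h2, h4, h5, h6, ← h3]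
  let M : Submonoid G := { carrier := {x | Z4 d.z w x}, one_mem' := .inl rfl, mul_mem' := key _ _ }
  refine ⟨{ M with inv_mem' := fun {x} hx => ?_ }, fun _ => Iff.rfl⟩
  rw [show x⁻¹ = x ^ (orderOf x - 1) from inv_eq_of_mul_eq_one_left (by
    rw [← pow_succ, Nat.sub_add_cancel (orderOf_pos x), pow_orderOf_eq_one])]
  exact M.pow_mem hx _

theorem alg {A B K P : Γ} (h1 : A * B * K = 1) (h2 : A * A = 1) (h3 : B * B = 1) (h4 : Commute A B)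
    (h5 : Commute A (P⁻¹ * B * P)) (h6 : A * (P * A * P⁻¹) * (P⁻¹ * A * P) = 1) :
    P * A * P⁻¹ * (P⁻¹ * K * P) = P⁻¹ * (B * (P * A * P⁻¹)) * P := by
  have e : K = A * B := by
    rw [← inv_eq_of_mul_eq_one_right h1, mul_inv_rev, inv_eq_of_sq h2, inv_eq_of_sq h3, h4.eq]
  calc _ = A⁻¹ * (A * (P * A * P⁻¹) * (P⁻¹ * A * P)) * (P⁻¹ * B * P) := by rw [e]; group
    _ = _ := by rw [h6, mul_one, inv_eq_of_sq h2, h5.eq]; group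

/-- The obstruction to linearity over the field with four elements. -/
def DD (p q u : G) : G := ⁅p * q * p⁻¹, u⁆ * (p * ⁅q, u⁆ * p⁻¹)

/-- The hypotheses. -/
structure Hy (d : Dat G) (t : G) (W : Subgroup G) (w : G) (Z : Subgroup G) (f : G → Γ) : Prop where
  c : Cor d t
  b : Dbl d t W
  s : Zst d t W w
  z : ∀ x, x ∈ Z ↔ Z4 d.z w x
  hf : MulOn 𝒞(Z) f
  kf : ∀ x ∈ 𝒞(Z), f x = 1 ↔ x ∈ Z

section

variable (c : Cor d t) (b : Dbl d t W) (s : Zst d t W w) (hz : ∀ x, x ∈ Z ↔ Z4 d.z w x)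
include c b s hz

theorem Z_W : Z ≤ W := fun x hx => ((hz x).1 hx).mem (b.le c.z_V) s.mem
theorem W_cen : W ≤ 𝒞(Z) := fun x hx => mem_cent.2 fun y hy => b.comm y (Z_W c b s hz hy) x hx

end

namespace Hy

variable (h : Hy d t W w Z f)
include h

theorem o : Ok d := h.c.toOk
theorem ZW : Z ≤ W := Z_W h.c h.b h.s h.z
theorem WN : W ≤ 𝒞(Z) := W_cen h.c h.b h.s h.z
theorem JN : d.J ≤ 𝒞(Z) := fun j hj => mem_cent.2 fun x hx => mem_cent1.1 (((h.z x).1 hx).mem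
  (mem_cent1.2 (h.o.H_z (h.o.J_H hj)).symm) (mem_cent1.2 (h.s.cen j hj).symm))
theorem QN : d.Q ≤ 𝒞(Z) := h.c.Q_J.trans h.JN
theorem pN : d.p ∈ 𝒞(Z) := h.JN h.c.p_J
theorem Z_A (hx : x ∈ Z) (hA : x ∈ d.A) : Z2 d.z x := by
  rcases (h.z x).1 hx with e | e | e | e
  exacts [.inl e, .inr e, absurd (e ▸ hA) (h.s.not_A h.b h.c),
    absurd ((mul_mem_cancel_right h.o.z_A).1 (e ▸ hA)) (h.s.not_A h.b h.c)]
theorem f_z2 (hx : Z2 d.z x) : f x = 1 := (h.kf x (h.QN (hx.mem h.c.z_Q))).2 ((h.z x).2 hx.z4)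
theorem pQ (hq : q ∈ d.Q) : d.p * q * d.p⁻¹ ∈ d.Q := h.o.conj_Q h.o.p_H hq
theorem pQ' (hq : q ∈ d.Q) : d.p⁻¹ * q * d.p ∈ d.Q := conj_mem' (h.c.Q_norm h.o.p_H) hq
theorem pW (hu : u ∈ W) : d.p * u * d.p⁻¹ ∈ W := conj_mem (h.b.norm h.c.p_M) hu
theorem pW' (hu : u ∈ W) : d.p⁻¹ * u * d.p ∈ W := conj_mem' (h.b.norm h.c.p_M) hu
theorem cW (hq : q ∈ d.Q) (hu : u ∈ W) : ⁅q, u⁆ ∈ W := mul_mem (conj_mem (h.b.norm (h.o.Q_M hq)) hu) (inv_mem hu)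

theorem c_mul (hq : q ∈ d.Q) (hu : u ∈ W) {v : G} (hv : v ∈ W) : ⁅q, u * v⁆ = ⁅q, u⁆ * ⁅q, v⁆ := by
  calc ⁅q, u * v⁆ = ⁅q, u⁆ * (u * ⁅q, v⁆) * u⁻¹ := by simp only [commutatorElement_def]; group
    _ = _ := by rw [h.b.comm u hu _ (h.cW hq hv)]; group

theorem tau_c (hq : q ∈ d.Q) (hu : u ∈ W) : tau t ⁅q, u⁆ = ⁅q, tau t u⁆ := by
  rw [commutatorElement_def, h.b.tau_mul h.c (conj_mem (h.b.norm (h.o.Q_M hq)) hu) (inv_mem hu), h.b.tau_inv h.c hu,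
    tau_conj (h.c.t_cen q (h.o.Q_A hq)), commutatorElement_def, inv_eq_of_sq (h.c.V_sq _ (h.b.mem u hu))]

theorem dec (hu : u ∈ W) (e : Z2 d.z (tau t u)) : ∃ ζ ∈ Z, ζ⁻¹ * u ∈ d.V := by
  rcases e with e | e
  · exact ⟨1, one_mem _, by simpa using h.b.ker u hu e⟩
  · exact ⟨w, (h.z w).2 (.inr (.inr (.inl rfl))), h.b.mem_V_of_eq h.c h.s.mem hu (h.s.tau.trans e.symm)⟩

theorem H_norm : d.H ≤ 𝒩(Z) := fun k hk => mem_norm_of fun x hx => by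
  have h1 : d.z ∈ Z := (h.z _).2 (.inr (.inl rfl))
  have h2 : w ∈ Z := (h.z _).2 (.inr (.inr (.inl rfl)))
  have : x ∈ cj k⁻¹ Z := ((h.z x).1 hx).mem (mem_cj.2 (by rwa [inv_inv, h.o.H_z hk, mul_inv_cancel_right]))
    (mem_cj.2 (by
      rw [inv_inv]
      rcases h.s.H_conj h.b h.c hk with e | e <;> rw [e]
      exacts [h2, mul_mem h2 h1]))
  simpa using mem_cj.1 this

theorem z_Om (x : G) : d.z ∈ d.Om x := Subgroup.subset_closure (by simp)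

theorem Om_Q (hx : x ∈ d.Q) : d.Om x ≤ d.Q := (closure_le _).2 (by
  rintro _ (rfl | rfl | rfl)
  exacts [hx, h.pQ hx, h.c.z_Q])

theorem p_Om (hx : x ∈ d.Q) {v : G} (hv : v ∈ d.Om x) : d.p * v * d.p⁻¹ ∈ d.Om x := by
  have h1 : x ∈ d.Om x := Subgroup.subset_closure (by simp)
  have h2 : d.p * x * d.p⁻¹ ∈ d.Om x := Subgroup.subset_closure (by simp)
  have : d.Om x ≤ cj d.p⁻¹ (d.Om x) := (closure_le _).2 (by
    rintro _ (rfl | rfl | rfl) <;> refine mem_cj.2 ?_ <;> rw [inv_inv]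
    · exact h2
    · rw [show d.p * (d.p * x * d.p⁻¹) * d.p⁻¹ = d.p * d.p * x * (d.p * d.p)⁻¹ by group, ← h.o.p_inv, inv_inv]
      exact (mul_mem_cancel_left (mul_mem h1 h2)).1 ((h.c.p_fpf x hx).mem (h.z_Om x))
    · rw [h.o.H_z h.o.p_H, mul_inv_cancel_right]; exact h.z_Om x)
  simpa using mem_cj.1 (this hv)

theorem lift (hx : x ∈ d.Q) {α γ : G} (hα : α ∈ d.Q) (hγ : γ ∈ d.Om x) (e : f γ = f α) : α ∈ d.Om x := by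
  have h1 := h.Om_Q hx hγ
  have h2 := mul_mem (inv_mem h1) hα
  exact (mul_mem_cancel_left (inv_mem hγ)).1 ((h.Z_A ((h.kf _ (h.QN h2)).1 ((h.hf.eq_iff (h.QN h1) (h.QN hα)).1 e))
    (h.o.Q_A h2)).mem (h.z_Om x))

/-- Step (K). -/
theorem exists_w (hV : x ∈ d.V) (hx : x ∈ d.Q) (hc : d.cl x ∧ x ≠ d.z) : ∃ m ∈ d.M, x = m * d.z * m⁻¹ ∧
    m * w * m⁻¹ ∈ W ∧ tau t (m * w * m⁻¹) = x ∧ ∀ q ∈ d.Q, ∃ v ∈ d.Om x, f ⁅q, m * w * m⁻¹⁆ = f v := by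
  obtain ⟨m, hm, e⟩ := h.o.fuse hV hc.1
  have h1 := conj_mem (h.b.norm hm) h.s.mem
  have h2 : tau t (m * w * m⁻¹) = x := by rw [tau_conj (h.c.t_cen m (h.o.M_A hm)), h.s.tau, e]
  refine ⟨m, hm, e, h1, h2, fun q hq => ?_⟩
  obtain ⟨ζ, hζ, hv⟩ := h.dec (h.cW hq h1) (by rw [h.tau_c hq h1, h2]; exact h.c.Q_comm q hq x hx)
  refine ⟨_, h.c.k1 x hx hc.1 hc.2 _ (h.o.V_A hv) fun k hk e' => mem_cj.2 (h.b.inf_A h.c (mem_cj.1 (mul_mem (inv_mem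
    (mem_cj.2 (h.ZW (conj_mem' (h.H_norm hk) hζ)))) ?_)) ?_), ?_⟩
  · have h3 := h.s.conj_mem h.b h.c (h.o.M_A hm) (h.o.H_A hk) (e ▸ e')
    exact mul_mem (conj_mem (by rw [← cj_norm]; exact mem_cj.2 (h.b.norm (h.o.Q_cjM hk hq))) h3) (inv_mem h3)
  · exact mul_mem (mul_mem (inv_mem (h.o.H_A hk)) (h.o.V_A hv)) (h.o.H_A hk)
  · rw [h.hf _ (inv_mem (h.WN (h.ZW hζ))) _ (h.WN (h.cW hq h1)), (h.kf _ (inv_mem (h.WN (h.ZW hζ)))).2 (inv_mem hζ),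
      one_mul]

theorem f_comm {a b : G} (ha : a ∈ d.Q) (hb : b ∈ d.Q) : Commute (f a) (f b) := by
  rw [← commutatorElement_eq_one_iff_commute, ← h.hf.comm (h.QN ha) (h.QN hb)]
  exact h.f_z2 (h.c.Q_comm a ha b hb)

theorem f_sq {a : G} (ha : a ∈ d.Q) : f a * f a = 1 := by
  rw [← h.hf _ (h.QN ha) _ (h.QN ha)]; exact h.f_z2 (h.c.Q_sq a ha)

theorem c_add (hu : u ∈ W) (g : ∀ q ∈ d.Q, ∃ r ∈ d.Q, f ⁅q, u⁆ = f r) (hq : q ∈ d.Q) {q' : G} (hq' : q' ∈ d.Q) :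
    f ⁅q * q', u⁆ = f ⁅q, u⁆ * f ⁅q', u⁆ := by
  obtain ⟨r, hr, e⟩ := g q hq
  obtain ⟨r', hr', e'⟩ := g q' hq'
  have h1 := h.WN (h.cW hq' hu)
  rw [show ⁅q * q', u⁆ = q * ⁅q', u⁆ * q⁻¹ * ⁅q, u⁆ by simp only [commutatorElement_def]; group,
    h.hf _ (mul_mem (mul_mem (h.QN hq) h1) (inv_mem (h.QN hq))) _ (h.WN (h.cW hq hu)), h.hf.conj (h.QN hq) h1, e, e',
    (h.f_comm hq hr').eq, mul_inv_cancel_right, (h.f_comm hr hr').eq]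

theorem DW (hq : q ∈ d.Q) (hu : u ∈ W) : DD d.p q u ∈ W := mul_mem (h.cW (h.pQ hq) hu) (h.pW (h.cW hq hu))

theorem D_mul (hq : q ∈ d.Q) (hu : u ∈ W) {v : G} (hv : v ∈ W) : DD d.p q (u * v) = DD d.p q u * DD d.p q v := by
  rw [DD, DD, DD, h.c_mul hq hu hv, h.c_mul (h.pQ hq) hu hv, ← conj_mul]
  exact (show Commute _ _ from h.b.comm _ (h.cW (h.pQ hq) hv) _ (h.pW (h.cW hq hu))).mul_mul_mul_comm _ _

theorem D_V (hq : q ∈ d.Q) {e : G} (he : e ∈ d.V) : f (DD d.p q e) = 1 := by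
  have h1 : ⁅d.p, e⁆ ∈ d.V := mul_mem (h.o.conj_V h.c.p_M he) (inv_mem he)
  have h2 : ⁅d.p * q * d.p⁻¹, e⁆ ∈ d.V := mul_mem (h.o.conj_V (h.o.Q_M (h.pQ hq)) he) (inv_mem he)
  rw [DD, conjugate_commutatorElement, show d.p * e * d.p⁻¹ = e * ⁅d.p, e⁆ by
    rw [h.o.V_comm he h1, commutatorElement_def]; group, h.c_mul (h.pQ hq) (h.b.le he) (h.b.le h1), ← mul_assoc,
    h.c.V_sq _ h2, one_mul]
  exact h.f_z2 (h.c.Q_comm _ (h.pQ hq) _ (h.c.p_V e he))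

theorem D_eq (hq : q ∈ d.Q) (hu : u ∈ W) {v : G} (hv : v ∈ W) (e : tau t u = tau t v) :
    f (DD d.p q u) = f (DD d.p q v) := by
  have h1 := h.b.mem_V_of_eq h.c hu hv e
  rw [← mul_inv_cancel_left u v, h.D_mul hq hu (h.b.le h1), h.hf _ (h.WN (h.DW hq hu)) _ (h.WN (h.DW hq (h.b.le h1))),
    h.D_V hq h1, mul_one]

theorem D_p (hu : u ∈ W) (g : ∀ q ∈ d.Q, ∃ r ∈ d.Q, f ⁅q, u⁆ = f r) (hq : q ∈ d.Q) :
    f (DD d.p q (d.p * u * d.p⁻¹)) = (f d.p)⁻¹ * f (DD d.p q u) * f d.p := by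
  have n1 := h.WN (h.cW hq hu)
  have n2 := h.WN (h.cW (h.pQ hq) hu)
  have n3 := h.WN (h.cW (h.pQ' hq) hu)
  have e1 : DD d.p q (d.p * u * d.p⁻¹) = d.p * ⁅q, u⁆ * d.p⁻¹ * (d.p⁻¹ * ⁅d.p⁻¹ * q * d.p, u⁆ * d.p) := by
    calc _ = d.p * ⁅q, u⁆ * d.p⁻¹ * (d.p * d.p * ⁅d.p⁻¹ * q * d.p, u⁆ * (d.p * d.p)⁻¹) := by
          simp only [DD, commutatorElement_def]; group
      _ = _ := by rw [← h.o.p_inv, inv_inv]
  have e2 := h.c_add hu g (mul_mem hq (h.pQ hq)) (h.pQ' hq)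
  rw [h.c_add hu g hq (h.pQ hq), commutatorElement_eq_one_iff_mul_comm.2
    ((h.c.p_fpf q hq).comm (h.b.comm u hu _ (h.b.le h.c.z_V))).symm, h.hf.one] at e2
  rw [e1, DD, h.hf _ (h.WN (h.pW (h.cW hq hu))) _ (h.WN (h.pW' (h.cW (h.pQ' hq) hu))),
    h.hf _ n2 _ (h.WN (h.pW (h.cW hq hu))), h.hf.conj h.pN n1, h.hf.conj' h.pN n3]
  obtain ⟨a, ha, ea⟩ := g q hq
  obtain ⟨b, hb, eb⟩ := g _ (h.pQ hq)
  rw [ea, eb] at e2 ⊢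
  refine alg e2.symm (h.f_sq ha) (h.f_sq hb) (h.f_comm ha hb) ?_ ?_
  · rw [← h.hf.conj' h.pN (h.QN hb)]; exact h.f_comm ha (h.pQ' hb)
  · rw [← h.hf.conj' h.pN (h.QN ha), ← h.hf.conj h.pN (h.QN ha), ← h.hf _ (h.QN ha) _ (h.QN (h.pQ ha)),
      ← h.hf _ (h.QN (mul_mem ha (h.pQ ha))) _ (h.QN (h.pQ' ha))]
    exact h.f_z2 (h.c.p_fpf a ha)

theorem D_Om (hx : x ∈ d.Q) (hu : u ∈ W) (g : ∀ q ∈ d.Q, ∃ v ∈ d.Om x, f ⁅q, u⁆ = f v) (hq : q ∈ d.Q) :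
    ∃ α ∈ d.Om x, f (DD d.p q u) = f α := by
  obtain ⟨a, ha, ea⟩ := g q hq
  obtain ⟨b, hb, eb⟩ := g _ (h.pQ hq)
  refine ⟨_, mul_mem hb (h.p_Om hx ha), ?_⟩
  rw [DD, h.hf _ (h.WN (h.cW (h.pQ hq) hu)) _ (h.WN (h.pW (h.cW hq hu))), h.hf.conj h.pN (h.WN (h.cW hq hu)), ea, eb,
    h.hf _ (h.QN (h.Om_Q hx hb)) _ (h.QN (h.pQ (h.Om_Q hx ha))), h.hf.conj h.pN (h.QN (h.Om_Q hx ha))]

theorem main : ∃ m ∈ d.M, d.x₀ = m * d.z * m⁻¹ ∧ m * w * m⁻¹ ∈ W ∧ tau t (m * w * m⁻¹) = d.x₀ ∧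
    ∀ q ∈ d.Q, ⁅q, m * w * m⁻¹⁆ ∈ Z := by
  have xQ := h.c.x_Q
  have yQ := h.c.y_Q
  have pt := h.c.t_cen _ (h.o.M_A h.c.p_M)
  obtain ⟨m, hm, em, hu, tu, gu⟩ := h.exists_w h.c.x_V xQ h.c.x_cl
  refine ⟨m, hm, em, hu, tu, ?_⟩
  generalize m * w * m⁻¹ = u at hu tu gu
  obtain ⟨_, -, -, hv, tv, gv⟩ := h.exists_w h.c.y_V yQ h.c.y_cl
  obtain ⟨_, -, -, h1, t1, g1⟩ := h.exists_w (mul_mem h.c.x_V h.c.y_V) (mul_mem xQ yQ) h.c.xy_cl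
  obtain ⟨_, -, -, h2, t2, g2⟩ := h.exists_w (mul_mem (h.o.conj_V h.c.p_M h.c.x_V) h.c.y_V) (mul_mem (h.pQ xQ) yQ)
    h.c.pxy_cl
  have gu' : ∀ q ∈ d.Q, ∃ r ∈ d.Q, f ⁅q, u⁆ = f r := fun q hq => (gu q hq).imp fun _ e => ⟨h.Om_Q xQ e.1, e.2⟩
  have k1 : ∀ q ∈ d.Q, f ⁅d.p * q * d.p⁻¹, u⁆ = f (d.p * ⁅q, u⁆ * d.p⁻¹) := fun q hq => by
    obtain ⟨α, hα, eα⟩ := h.D_Om xQ hu gu hq
    obtain ⟨β, hβ, eβ⟩ := h.D_Om yQ hv gv hq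
    obtain ⟨γ, hγ, eγ⟩ := h.D_Om (mul_mem xQ yQ) h1 g1 hq
    obtain ⟨δ, hδ, eδ⟩ := h.D_Om (mul_mem (h.pQ xQ) yQ) h2 g2 hq
    have a1 := h.Om_Q xQ hα
    have a2 := h.Om_Q yQ hβ
    have e := eα.trans (h.f_z2 (h.c.indep α hα β hβ (h.lift (mul_mem xQ yQ) (mul_mem a1 a2) hγ (by
      rw [← eγ, h.D_eq hq h1 (mul_mem hu hv) (by rw [t1, h.b.tau_mul h.c hu hv, tu, tv]), h.D_mul hq hu hv,
        h.hf _ (h.WN (h.DW hq hu)) _ (h.WN (h.DW hq hv)), eα, eβ, h.hf _ (h.QN a1) _ (h.QN a2)]))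
      (h.lift (mul_mem (h.pQ xQ) yQ) (mul_mem (h.pQ' a1) a2) hδ (by
        rw [← eδ, h.D_eq hq h2 (mul_mem (h.pW hu) hv) (by rw [t2, h.b.tau_mul h.c (h.pW hu) hv, tau_conj pt, tu, tv]),
          h.D_mul hq (h.pW hu) hv, h.hf _ (h.WN (h.DW hq (h.pW hu))) _ (h.WN (h.DW hq hv)), h.D_p hu gu' hq, eα, eβ,
          h.hf _ (h.QN (h.pQ' a1)) _ (h.QN a2), h.hf.conj' h.pN (h.QN a1)]))))
    obtain ⟨r, hr, er⟩ := gu' _ (h.pQ hq)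
    rw [DD, h.hf _ (h.WN (h.cW (h.pQ hq) hu)) _ (h.WN (h.pW (h.cW hq hu))), er] at e
    rw [er, ← inv_eq_of_mul_eq_one_right e, inv_eq_of_sq (h.f_sq hr)]
  have t3 := tau_conj (t := t) (show Commute d.p t from pt).inv_left.eq u
  rw [inv_inv] at t3
  have g3 := mul_mem (mul_mem hu (h.pW hu)) (h.pW' hu)
  obtain ⟨ζ, hζ, he⟩ := h.dec g3 (by
    rw [h.b.tau_mul h.c (mul_mem hu (h.pW hu)) (h.pW' hu), h.b.tau_mul h.c hu (h.pW hu), tau_conj pt, t3, tu]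
    exact h.c.p_fpf _ xQ)
  have k2 : ∀ q ∈ d.Q, f ⁅q, ζ⁻¹ * (u * (d.p * u * d.p⁻¹) * (d.p⁻¹ * u * d.p))⁆ = f ⁅q, u⁆ := fun q hq => by
    have e1 := k1 _ (h.pQ' hq)
    rw [conjugate_commutatorElement, show d.p * (d.p⁻¹ * q * d.p) * d.p⁻¹ = q by group] at e1
    have e2 : f ⁅q, d.p⁻¹ * u * d.p⁆ = f ⁅q, u⁆ := by
      rw [show ⁅q, d.p⁻¹ * u * d.p⁆ = d.p⁻¹ * ⁅d.p * q * d.p⁻¹, u⁆ * d.p by simp only [commutatorElement_def]; group,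
        h.hf.conj' h.pN (h.WN (h.cW (h.pQ hq) hu)), k1 q hq, h.hf.conj h.pN (h.WN (h.cW hq hu))]
      group
    obtain ⟨r, hr, er⟩ := gu' q hq
    rw [h.c_mul hq (inv_mem (h.ZW hζ)) g3, h.c_mul hq (mul_mem hu (h.pW hu)) (h.pW' hu), h.c_mul hq hu (h.pW hu),
      commutatorElement_eq_one_iff_mul_comm.2 (comm_of_mem (h.QN hq) (inv_mem hζ)).symm, one_mul,
      h.hf _ (h.WN (mul_mem (h.cW hq hu) (h.cW hq (h.pW hu)))) _ (h.WN (h.cW hq (h.pW' hu))),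
      h.hf _ (h.WN (h.cW hq hu)) _ (h.WN (h.cW hq (h.pW hu))), ← e1, e2, er, h.f_sq hr, one_mul]
  generalize ζ⁻¹ * (u * (d.p * u * d.p⁻¹) * (d.p⁻¹ * u * d.p)) = e at he k2
  have eQ := h.c.rank e he fun q hq => by
    obtain ⟨v, hv, ev⟩ := gu q hq
    refine h.lift xQ ?_ hv (ev.symm.trans (k2 q hq).symm)
    rw [show ⁅q, e⁆ = q * (e * q⁻¹ * e⁻¹) by rw [commutatorElement_def]; group]
    exact mul_mem hq (h.o.conj_Q (h.o.V_H he) (inv_mem hq))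
  exact fun q hq => (h.kf _ (h.WN (h.cW hq hu))).1 ((k2 q hq).symm.trans (h.f_z2 (h.c.Q_comm q hq e eQ)))

theorem elm : Elm d W w := by
  obtain ⟨m, hm, em, hu, tu, k⟩ := h.main
  refine ⟨h.b.sq.resolve_right fun e => ?_, fun a ha hy q hq => (h.z _).1 ?_⟩
  · obtain ⟨q, hq, e1⟩ := h.o.exists_Q h.c.x_Q fun e => e.elim (h.o.cl_ne h.c.x_cl.1) h.c.x_cl.2
    generalize m * w * m⁻¹ = u at hu tu k
    have h1 := e _ (h.cW hq hu)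
    rw [h.tau_c hq hu, tu, commutatorElement_def q d.x₀, e1, mul_inv_cancel_right] at h1
    refine h.c.z_ne (h1.symm.trans ?_)
    calc _ = q * ⁅q, u⁆ * q⁻¹ * ⁅q, u⁆ := by rw [conj_eq_of_mem (h.QN hq) (k q hq)]
      _ = ⁅q * q, u⁆ := by simp only [commutatorElement_def]; group
      _ = 1 := commutatorElement_eq_one_iff_mul_comm.2
          ((h.c.Q_sq q hq).comm (h.b.comm u hu _ (h.b.le h.c.z_V))).symm
  by_cases e : a * d.z * a⁻¹ = d.z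
  · have := conj_mem (h.H_norm ((h.c.mem_H a).2 ⟨ha, mul_inv_eq_iff_eq_mul.1 e⟩)) ((h.z w).2 (.inr (.inr (.inl rfl))))
    rw [commutatorElement_eq_one_iff_mul_comm.2 (comm_of_mem (h.QN hq) this).symm]
    exact one_mem _
  obtain ⟨k', hk, e'⟩ := h.c.orbQ _ hy ⟨a, ha, rfl⟩ e
  have e1 : a * d.z * a⁻¹ = k' * m * d.z * (k' * m)⁻¹ := by rw [e', em]; group
  have h1 : ⁅q, k' * m * w * (k' * m)⁻¹⁆ ∈ Z := by
    have := conj_mem (h.H_norm hk) (k _ (conj_mem' (h.c.Q_norm hk) hq))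
    rwa [show k' * ⁅k'⁻¹ * q * k', m * w * m⁻¹⁆ * k'⁻¹ = ⁅q, k' * m * w * (k' * m)⁻¹⁆ by
      simp only [commutatorElement_def]; group] at this
  rcases h.s.conj_cases h.b h.c ha (mul_mem (h.o.H_A hk) (h.o.M_A hm)) e1 with e2 | e2 <;> rw [e2]
  · exact h1
  have h2 : k' * m * w * (k' * m)⁻¹ * d.z = d.z * (k' * m * w * (k' * m)⁻¹) := by
    have := ((show Commute k' d.z from h.o.H_z hk).mul_left (h.b.comm _ hu _ (h.b.le h.c.z_V))).mul_left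
      (show Commute k' d.z from h.o.H_z hk).inv_left
    rw [show k' * m * w * (k' * m)⁻¹ = k' * (m * w * m⁻¹) * k'⁻¹ by group]
    exact this.eq
  rw [← e1]
  generalize k' * m * w * (k' * m)⁻¹ = σ at h1 h2
  have h3 := h.c.Q_comm q hq _ hy
  rw [show ⁅q, σ * (a * d.z * a⁻¹)⁆ = ⁅q, σ⁆ * (σ * ⁅q, a * d.z * a⁻¹⁆) * σ⁻¹ by
    simp only [commutatorElement_def]; group, h3.comm h2, ← mul_assoc, mul_inv_cancel_right]
  exact mul_mem h1 ((h.z _).2 h3.z4)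

end Hy

end D4

theorem d4 : D4.{u} := fun _ _ _ _ c b s => by
  obtain ⟨Z, hz⟩ := D4.exists_Z c b s
  obtain ⟨Γ, _, f, hf, kf⟩ := E.exists_quot (cent_le_norm Z) ((D4.Z_W c b s hz).trans (D4.W_cen c b s hz))
  exact D4.Hy.elm ⟨c, b, s, hz, hf, kf⟩

end CL.SJ
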