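/-
Project SJ4, job F2: the splitting of `W`.
-/
import Cfsg.Agent.SJ4.Basic
import Cfsg.Agent.Grp.Frob

set_option autoImplicit false
set_option linter.unusedSectionVars false
open Cfsg Subgroup CL.Even CL.Grp CL.Wr CL.Wr.P5a
open scoped commutatorElement

namespace CL.SJ

universe u

namespace F2a

section Aut

variable {W : Type*} [Group W] {α β γ δ ν τ : MulAut W} {x : W}

/-- The fixed points of an automorphism. -/
def Fx (γ : MulAut W) : Subgroup W := γ.toMonoidHom.eqLocus (MonoidHom.id W)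

theorem mem_Fx : x ∈ Fx γ ↔ γ x = x := Iff.rfl

theorem Fx_pow (h : γ x = x) (n : ℕ) : (γ ^ n) x = x := by
  induction n with
  | zero => rfl
  | succ n ih => rw [pow_succ, MulAut.mul_apply, h, ih]

theorem Fx_of_pow (h : γ ^ 23 = 1) {r : ℕ} (hr : ¬ 23 ∣ r) (hx : (γ ^ r) x = x) : γ x = x := by
  obtain ⟨m, e⟩ := exists_pow_eq_self_of_coprime (x := γ) (n := r)
    (Nat.Coprime.coprime_dvd_right (orderOf_dvd_of_pow_eq_one h)
      ((Nat.Prime.coprime_iff_not_dvd (by norm_num)).2 hr).symm)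
  rw [← e]
  exact Fx_pow hx m

theorem Fx_comm (h : Commute γ δ) (hx : x ∈ Fx γ) : δ x ∈ Fx γ := by
  rw [mem_Fx, ← MulAut.mul_apply, h.eq, MulAut.mul_apply, mem_Fx.1 hx]

theorem Fx_conj (hx : γ x = x) : (ν * γ * ν⁻¹) (ν x) = ν x := by
  rw [← MulAut.mul_apply, inv_mul_cancel_right, MulAut.mul_apply, hx]

theorem Fx_ne (h : Fx γ ≠ ⊥) : Fx (ν * γ * ν⁻¹) ≠ ⊥ := fun e => h (eq_bot_iff.2 fun _ hx =>
  mem_bot.2 (ν.map_eq_one_iff.1 (mem_bot.1 (e.le (Fx_conj (mem_Fx.1 hx))))))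

variable [Finite W]

theorem free (P : Subgroup (MulAut W)) (S : Subgroup W) (hS : ∀ γ ∈ P, ∀ x ∈ S, γ x ∈ S)
    (h : ∀ γ ∈ P, ∀ x ∈ S, x ≠ 1 → γ x = x → γ = 1) : Nat.card P ∣ Nat.card S - 1 := by
  have := card_dvd_card_of_free_on (A := P) ((S : Set W) \ {1})
    (fun a x hx => ⟨hS a a.2 x hx.1, fun e => hx.2 (a.1.map_eq_one_iff.1 e)⟩)
    fun a x hx e => Subtype.ext (h a a.2 x hx.1 hx.2 e)
  rwa [Nat.card_coe_set_eq, Set.ncard_sdiff_singleton_of_mem S.one_mem, ← Nat.card_coe_set_eq] at this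

theorem big (hW : Nat.card W = 2 ^ 22) (h : γ ^ 23 = 1) (fp : ∀ x, γ x = x → x = 1) {S : Subgroup W}
    (hS : ∀ x ∈ S, γ x ∈ S) (h1 : S ≠ ⊥) : 2 ^ 11 ≤ Nat.card S := by
  have := Fact.mk (by norm_num : Nat.Prime 23)
  obtain ⟨⟨y, hy⟩, y1⟩ := S.ne_bot_iff_exists_ne_one.1 h1
  have h2 := free (zpowers γ) S (fun δ hδ x hx => by
    obtain ⟨n, rfl⟩ := mem_powers_iff_mem_zpowers.2 hδ
    induction n with
    | zero => exact hx
    | succ n ih => simpa only [pow_succ', MulAut.mul_apply] using hS _ (ih (pow_mem (mem_zpowers γ) n))) fun δ hδ x _ x1 e => by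
    obtain ⟨n, rfl⟩ := mem_powers_iff_mem_zpowers.2 hδ
    by_contra c
    exact x1 (fp x (Fx_of_pow h (fun ⟨k, hk⟩ => c (by simp only [hk, pow_mul, h, one_pow])) e))
  rw [Nat.card_zpowers, orderOf_eq_prime h fun e => y1 (Subtype.ext (fp y (by rw [e]; rfl)))] at h2
  obtain ⟨k, hk, e⟩ := (Nat.dvd_prime_pow Nat.prime_two).1 (hW ▸ S.card_subgroup_dvd_card)
  have h3 := (S.one_lt_card_iff_ne_bot).2 h1
  rw [e] at h2 h3 ⊢
  refine Nat.pow_le_pow_right two_pos (le_of_not_gt fun c => ?_)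
  interval_cases k <;> omega

theorem prod (hW : Nat.card W = 2 ^ 22) {S T : Subgroup W} (hS : 2 ^ 11 ≤ Nat.card S) (hT : 2 ^ 11 ≤ Nat.card T)
    (h : ∀ x ∈ S, x ∈ T → x = 1) (x : W) : ∃ u ∈ S, ∃ v ∈ T, x = u * v := by
  obtain ⟨⟨u, v⟩, e⟩ := ((mul_injective_of_disjoint (disjoint_def.2 fun {x} => h x)).bijective_of_nat_card_le (by
    rw [Nat.card_prod, hW]
    exact le_trans (by norm_num) (Nat.mul_le_mul hS hT))).2 x
  exact ⟨u, u.2, v, v.2, e.symm⟩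

/-- The hypotheses on the automorphisms. -/
structure Hyp (α β ν τ : MulAut W) : Prop where
  card : Nat.card W = 2 ^ 22
  ab : Commute α β
  a23 : α ^ 23 = 1
  nb : Commute ν β
  na : ν * α * ν⁻¹ = α * α
  ta : τ * α * τ⁻¹ = β
  tb : τ * β * τ⁻¹ = α
  fp : ∀ x, α x = x → β x = x → x = 1
  fp' : ∀ x, (α * β) x = x → x = 1

namespace Hyp

variable (h : Hyp α β ν τ)
include h

theorem b23 : β ^ 23 = 1 := by rw [← h.ta, conj_pow, h.a23, mul_one, mul_inv_cancel]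

theorem big' (ha : Commute γ α) (hb : Commute γ β) (h1 : Fx γ ≠ ⊥) : 2 ^ 11 ≤ Nat.card (Fx γ) :=
  big h.card (by rw [h.ab.mul_pow, h.a23, h.b23, one_mul]) h.fp' (fun _ hx => Fx_comm (ha.mul_right hb) hx) h1

theorem disj {i j k : ℕ} (hj : ¬ 23 ∣ j) (hk : ¬ 23 ∣ k) (h1 : (α ^ i * β ^ j) x = x)
    (h2 : (α ^ (k + i) * β ^ j) x = x) : x = 1 := by
  rw [pow_add, mul_assoc, MulAut.mul_apply, h1] at h2
  have h3 := Fx_of_pow h.a23 hk h2
  rw [(h.ab.pow_pow i j).eq, MulAut.mul_apply, Fx_pow h3] at h1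
  exact h.fp x h3 (Fx_of_pow h.b23 hj h1)

theorem mixed {i j : ℕ} (hi : ¬ 23 ∣ i) (hj : ¬ 23 ∣ j) : Fx (α ^ i * β ^ j) = ⊥ := by
  by_contra h1
  have ca : ∀ i, Commute (α ^ i * β ^ j) α := fun i =>
    ((Commute.refl α).pow_left i).mul_left (h.ab.symm.pow_left j)
  have cb : ∀ i, Commute (α ^ i * β ^ j) β := fun i => (h.ab.pow_left i).mul_left ((Commute.refl β).pow_left j)
  have cc : ∀ i k, Commute (α ^ i * β ^ j) (α ^ k * β ^ j) := fun i k =>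
    ((ca i).pow_right k).mul_right ((cb i).pow_right j)
  have st : ∀ i, Fx (α ^ i * β ^ j) ≠ ⊥ → Fx (α ^ (i + i) * β ^ j) ≠ ⊥ := fun i e => by
    have := Fx_ne (ν := ν) e
    rwa [show ν * (α ^ i * β ^ j) * ν⁻¹ = (ν * α * ν⁻¹) ^ i * (ν * β ^ j * ν⁻¹) by rw [conj_pow]; group, h.na,
      (h.nb.pow_right j).eq, mul_inv_cancel_right, (Commute.refl α).mul_pow, ← pow_add] at this
  have h2 := st i h1
  obtain ⟨⟨y, hy⟩, y1⟩ := (Fx _).ne_bot_iff_exists_ne_one.1 (st _ h2)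
  have d1 : ∀ x ∈ Fx (α ^ i * β ^ j), x ∈ Fx (α ^ (i + i) * β ^ j) → x = 1 := fun x h1 h2 => h.disj hj hi h1 h2
  obtain ⟨u, hu, v, hv, rfl⟩ := prod h.card (h.big' (ca _) (cb _) h1) (h.big' (ca _) (cb _) h2) d1 y
  have e := mem_Fx.1 hy
  rw [map_mul] at e
  have e1 : u⁻¹ * (α ^ (i + i + (i + i)) * β ^ j) u = v * ((α ^ (i + i + (i + i)) * β ^ j) v)⁻¹ := by
    rw [inv_mul_eq_iff_eq_mul, ← mul_assoc, ← e, mul_inv_cancel_right]
  have e2 := d1 _ (mul_mem (inv_mem hu) (Fx_comm (cc _ _) hu)) (e1 ▸ mul_mem hv (inv_mem (Fx_comm (cc _ _) hv)))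
  have e3 := e1.symm.trans e2
  rw [inv_mul_eq_one] at e2
  rw [mul_inv_eq_one] at e3
  refine y1 (Subtype.ext ?_)
  have u1 : u = 1 := h.disj (k := i + i + i) hj (by omega) hu (by rw [add_assoc]; exact e2.symm)
  have v1 : v = 1 := h.disj (k := i + i) hj (by omega) hv e3.symm
  simp [u1, v1]

theorem ne_bot : Fx α ≠ ⊥ := fun ha => by
  have := Fact.mk (by norm_num : Nat.Prime 23)
  have hb : Fx β = ⊥ := by_contra fun e => Fx_ne (ν := τ) e (h.tb.symm ▸ ha)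
  have key : ∀ i j x, x ≠ 1 → (α ^ i * β ^ j) x = x → 23 ∣ i ∧ 23 ∣ j := fun i j x x1 e => by
    by_cases hi : 23 ∣ i <;> by_cases hj : 23 ∣ j
    · exact ⟨hi, hj⟩
    · obtain ⟨k, rfl⟩ := hi
      rw [pow_mul, h.a23, one_pow, one_mul] at e
      exact absurd (mem_bot.1 (hb.le (Fx_of_pow h.b23 hj e))) x1
    · obtain ⟨k, rfl⟩ := hj
      rw [pow_mul, h.b23, one_pow, mul_one] at e
      exact absurd (mem_bot.1 (ha.le (Fx_of_pow h.a23 hi e))) x1
    · exact absurd (mem_bot.1 ((h.mixed hi hj).le e)) x1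
  have pw : ∀ i j, (α ^ i * β ^ j) ^ 23 = 1 := fun i j => by
    rw [(h.ab.pow_pow i j).mul_pow, pow_right_comm, h.a23, pow_right_comm β, h.b23, one_pow, one_pow, one_mul]
  let P : Subgroup (MulAut W) :=
    { carrier := {γ | ∃ i j : ℕ, γ = α ^ i * β ^ j}
      one_mem' := ⟨0, 0, by simp⟩
      mul_mem' := by
        rintro _ _ ⟨i, j, rfl⟩ ⟨k, l, rfl⟩
        exact ⟨i + k, j + l, by rw [(h.ab.symm.pow_pow j k).mul_mul_mul_comm, pow_add, pow_add]⟩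
      inv_mem' := by
        rintro _ ⟨i, j, rfl⟩
        exact ⟨i * 22, j * 22, by
          rw [pow_mul, pow_mul, ← (h.ab.pow_pow i j).mul_pow, inv_eq_iff_mul_eq_one, ← pow_succ', pw]⟩ }
  have h1 := free P ⊤ (fun _ _ _ _ => mem_top _) (by
    rintro _ ⟨i, j, rfl⟩ x - x1 e
    obtain ⟨⟨k, rfl⟩, l, rfl⟩ := key i j x x1 e
    rw [pow_mul, pow_mul, h.a23, h.b23, one_pow, one_pow, one_mul])
  obtain ⟨n, hn⟩ := IsPGroup.iff_card.1 (show IsPGroup 23 P from fun ⟨_, i, j, e⟩ =>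
    ⟨1, Subtype.ext (by rw [pow_one, coe_pow, coe_one]; exact e ▸ pw i j)⟩)
  have : Nontrivial W := Finite.one_lt_card_iff_nontrivial.1 (by rw [h.card]; norm_num)
  obtain ⟨x, x1⟩ := exists_ne (1 : W)
  have h2 : zpowers α = P := eq_of_le_of_card_ge (zpowers_le.2 ⟨1, 0, by simp⟩) (by
    rw [Nat.card_zpowers, orderOf_eq_prime h.a23 fun e => x1 (mem_bot.1 (ha.le (by rw [mem_Fx, e]; rfl))), hn]
    rw [card_top, h.card, hn] at h1
    by_contra! c
    have : 2 ≤ n := (Nat.pow_lt_pow_iff_right (by norm_num : 1 < 23)).1 (by rwa [pow_one])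
    exact absurd ((pow_dvd_pow 23 this).trans h1) (by norm_num))
  obtain ⟨k, hk⟩ := mem_powers_iff_mem_zpowers.2 (h2.ge (show β ∈ P from ⟨0, 1, by simp⟩))
  have := (key (k * 22) 1 x x1 (by
    rw [pow_one, ← hk, pow_mul, ← pow_succ, pow_right_comm, h.a23, one_pow]; rfl)).2
  omega

theorem split (x : W) : ∃ u ∈ Fx α, ∃ v ∈ Fx β, x = u * v :=
  prod h.card (h.big' (.refl α) h.ab h.ne_bot) (h.big' h.ab.symm (.refl β) (h.ta ▸ Fx_ne h.ne_bot)) h.fp x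

/-- An automorphism commuting with `β` preserves the fixed points of `α`. -/
theorem pres (hδ : Commute δ β) (hx : x ∈ Fx α) : δ x ∈ Fx α := by
  have k : ∀ y ∈ Fx α, β y * y⁻¹ ∈ Fx α := fun y hy => mul_mem (Fx_comm h.ab hy) (inv_mem hy)
  obtain ⟨y, e⟩ := Finite.injective_iff_surjective.1 (show Function.Injective fun y : Fx α =>
    (⟨β y * (y : W)⁻¹, k _ y.2⟩ : Fx α) from fun y z e => Subtype.ext (inv_mul_eq_one.1
      (h.fp _ (mul_mem (inv_mem y.2) z.2) (by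
        have e' : β y * (y : W)⁻¹ = β z * (z : W)⁻¹ := congrArg Subtype.val e
        rw [map_mul, map_inv, inv_mul_eq_iff_eq_mul, ← mul_assoc, e', inv_mul_cancel_right])))) ⟨x, hx⟩
  obtain ⟨u, hu, v, hv, e'⟩ := h.split (δ y)
  have : δ x = β u * u⁻¹ := by
    rw [← show β y * (y : W)⁻¹ = x from congrArg Subtype.val e, map_mul, map_inv, ← MulAut.mul_apply, hδ.eq,
      MulAut.mul_apply, e', map_mul, mem_Fx.1 hv]
    group
  exact this ▸ k u hu

end Hyp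

end Aut

variable {G : Type u} [Group G]

theorem exists_act (W : Subgroup G) :
    ∃ φ : G → MulAut W, MulOn 𝒩(W) φ ∧ ∀ g ∈ 𝒩(W), ∀ x : W, (φ g x : G) = g * x * g⁻¹ := by
  classical
  exact ⟨fun g => if h : g ∈ 𝒩(W) then W.normalizerMonoidHom ⟨g, h⟩ else 1, fun x hx y hy => by
    simp only [dif_pos hx, dif_pos hy, dif_pos (mul_mem hx hy)]
    exact map_mul W.normalizerMonoidHom ⟨x, hx⟩ ⟨y, hy⟩, fun g hg x => by simp only [dif_pos hg]; rfl⟩

theorem exists_quo (W : Subgroup G) :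
    ∃ (Γ : Type u) (_ : Group Γ) (π : G → Γ), MulOn 𝒩(W) π ∧ ∀ g ∈ 𝒩(W), π g = 1 ↔ g ∈ W := by
  classical
  exact ⟨𝒩(W) ⧸ W.subgroupOf 𝒩(W), inferInstance, fun g => if h : g ∈ 𝒩(W) then QuotientGroup.mk ⟨g, h⟩ else 1,
    fun x hx y hy => by simp only [dif_pos hx, dif_pos hy, dif_pos (mul_mem hx hy)]; rfl,
    fun g hg => by simp only [dif_pos hg]; exact QuotientGroup.eq_one_iff _⟩

variable [Finite G] {d : Dat G} {t : G} {W N : Subgroup G}

/-- The first components of the Frobenius group of order `23 * 11`. -/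
theorem exists_gen (c : Cor d t) (b : Dbl d t W) (r : Bar d t W N) : ∃ a ∈ N, ∃ m ∈ N, a ^ 23 ∈ W ∧
    (m * a * m⁻¹)⁻¹ * (a * a) ∈ W ∧ ∀ x ∈ W, dg t a * x * (dg t a)⁻¹ = x → x = 1 := by
  obtain ⟨Γ, _, π, hπ, k⟩ := exists_quo W
  have tN := b.t_norm c
  have cN : ∀ x ∈ N, t * x * t⁻¹ ∈ 𝒩(W) := fun x hx => mul_mem (mul_mem tN (r.norm hx)) (inv_mem tN)
  have dN : ∀ x ∈ N, dg t x ∈ 𝒩(W) := fun x hx => mul_mem (r.norm hx) (cN x hx)
  have hD : MulOn N fun x => π (dg t x) := fun x hx y hy => by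
    have e := (k _ (le_normalizer (r.comm y hy x hx))).2 (r.comm y hy x hx)
    rw [hπ.comm (r.norm hy) (cN x hx), commutatorElement_eq_one_iff_mul_comm] at e
    show π (dg t (x * y)) = π (dg t x) * π (dg t y)
    rw [dg, dg, dg, ← conj_mul, hπ _ (r.norm (mul_mem hx hy)) _ (mul_mem (cN x hx) (cN y hy)),
      hπ _ (r.norm hx) _ (r.norm hy), hπ _ (cN x hx) _ (cN y hy), hπ _ (r.norm hx) _ (cN x hx),
      hπ _ (r.norm hy) _ (cN y hy), mul_assoc, ← mul_assoc (π y), e]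
    simp only [mul_assoc]
  have ker : ∀ x ∈ N, π (dg t x) = 1 → x ∈ W := fun x hx e => r.inj x hx ((k _ (dN x hx)).1 e)
  obtain ⟨g, hg, n, hn, e1, e2, fp⟩ := c.g23
  obtain ⟨a, ha, w, hw, ea⟩ := r.surj g hg
  obtain ⟨m, hm, w', hw', em⟩ := r.surj n hn
  have da : π (dg t a) = π g := by
    rw [ea, hπ _ (b.norm hg) _ (le_normalizer hw), (k _ (le_normalizer hw)).2 hw, mul_one]
  have dm : π (dg t m) = π n := by
    rw [em, hπ _ (b.norm hn) _ (le_normalizer hw'), (k _ (le_normalizer hw')).2 hw', mul_one]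
  have hc := mul_mem (mul_mem hm ha) (inv_mem hm)
  refine ⟨a, ha, m, hm, ker _ (pow_mem ha _) ?_, ker _ (mul_mem (inv_mem hc) (mul_mem ha ha)) ?_, fun x hx e => ?_⟩
  · rw [hD.pow ha, da, ← hπ.pow (b.norm hg), e1]
    exact (k _ (one_mem _)).2 (one_mem _)
  · refine (hD.eq_iff hc (mul_mem ha ha)).1 ?_
    rw [hD.conj hm ha, show π (dg t (a * a)) = π (dg t a) * π (dg t a) from hD _ ha _ ha, da, dm, ← hπ.conj (b.norm hn) (b.norm hg), e2, hπ _ (b.norm hg) _ (b.norm hg)]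
  · have e3 : g * x * g⁻¹ = x := by
      rw [ea, show g * w * x * (g * w)⁻¹ = g * (w * x) * w⁻¹ * g⁻¹ by group, b.comm w hw x hx] at e
      rwa [← mul_assoc, mul_inv_cancel_right] at e
    have e4 := tau_conj (c.t_cen g (c.toOk.M_A hg)) x
    rw [e3] at e4
    exact fp x (b.ker x hx (fp _ (b.mem x hx) (mul_inv_eq_iff_eq_mul.1 e4.symm))) (mul_inv_eq_iff_eq_mul.1 e3)

end F2a

open F2a in
theorem f2 : F2.{u} := by
  intro G _ _ d t W N c b _ r
  obtain ⟨a, ha, m, hm, e1, e2, fp⟩ := exists_gen c b r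
  obtain ⟨φ, hφ, ev⟩ := exists_act W
  have tN := b.t_norm c
  have cN : ∀ x ∈ N, t * x * t⁻¹ ∈ 𝒩(W) := fun x hx => mul_mem (mul_mem tN (r.norm hx)) (inv_mem tN)
  have k : ∀ w ∈ W, φ w = 1 := fun w hw => MulEquiv.ext fun x => Subtype.ext (by
    rw [ev w (le_normalizer hw), b.comm w hw x x.2, mul_inv_cancel_right]; rfl)
  have cm : ∀ x ∈ N, Commute (φ x) (φ (t * a * t⁻¹)) := fun x hx => commutatorElement_eq_one_iff_commute.1 (by
    rw [← hφ.comm (r.norm hx) (cN a ha), k _ (r.comm x hx a ha)])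
  have aN := r.norm ha
  have fp' : ∀ x, (φ a * φ (t * a * t⁻¹)) x = x → x = 1 := fun x e => Subtype.ext (fp x x.2 (by
    rw [dg, ← ev _ (mul_mem aN (cN a ha)), hφ _ aN _ (cN a ha), e]))
  have tt : t * (t * a * t⁻¹) * t⁻¹ = a := by
    rw [show t * (t * a * t⁻¹) * t⁻¹ = t * t * a * (t * t)⁻¹ by group, c.t_sq]; group
  have h : Hyp (φ a) (φ (t * a * t⁻¹)) (φ m) (φ t) :=
    { card := b.card c
      ab := cm a ha
      a23 := by rw [← hφ.pow aN, k _ e1]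
      nb := cm m hm
      na := by
        rw [← hφ.conj (r.norm hm) aN, ← hφ _ aN _ aN]
        exact (hφ.eq_iff (r.norm (mul_mem (mul_mem hm ha) (inv_mem hm))) (mul_mem aN aN)).2 (k _ e2)
      ta := (hφ.conj tN aN).symm
      tb := by rw [← hφ.conj tN (cN a ha), tt]
      fp := fun x h1 h2 => fp' x (by rw [MulAut.mul_apply, h2, h1])
      fp' := fp' }
  have mF : ∀ g ∈ 𝒩(W), ∀ x : W, x ∈ Fx (φ g) ↔ (x : G) ∈ W ⊓ centralizer {g} := fun g hg x => by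
    rw [mem_Fx, Subtype.ext_iff, ev g hg, mul_inv_eq_iff_eq_mul, mem_inf, mem_cent1, eq_comm]
    exact (and_iff_right x.2).symm
  have ct : cj t (W ⊓ centralizer {t * a * t⁻¹}) = W ⊓ centralizer {a} := by
    rw [cj_inf, cj_eq tN]
    refine congrArg (W ⊓ ·) (Subgroup.ext fun x => ?_)
    rw [mem_cj, mem_cent1, mem_cent1]
    generalize t * a * t⁻¹ = y at tt
    subst tt
    refine ⟨fun e => ?_, fun e => ?_⟩
    · calc x * (t * y * t⁻¹) = t * (t⁻¹ * x * t * y) * t⁻¹ := by group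
        _ = _ := by rw [e]; group
    · calc t⁻¹ * x * t * y = t⁻¹ * (x * (t * y * t⁻¹)) * t := by group
        _ = _ := by rw [e]; group
  have n2 : N ≤ 𝒩(W ⊓ centralizer {a}) := fun l hl => mem_norm_of fun x hx => by
    have := (mF a aN _).1 (h.pres (cm l hl) ((mF a aN ⟨x, hx.1⟩).2 hx))
    rwa [ev l (r.norm hl)] at this
  refine ⟨W ⊓ centralizer {t * a * t⁻¹}, inf_le_left, fun l hl => mem_norm_of fun x hx => ?_, ?_, ?_, fun x hx => ?_⟩
  · have := (mF _ (cN a ha) _).1 (Fx_comm (cm l hl).symm ((mF _ (cN a ha) ⟨x, hx.1⟩).2 hx))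
    rwa [ev l (r.norm hl)] at this
  · rw [ct]
    refine le_trans ((r.simp (N ⊓ 𝒞(W ⊓ centralizer {a})) (le_inf r.le fun w hw => mem_cent.2 fun x hx => b.comm x hx.1 w hw)
      inf_le_left (le_norm_inf le_normalizer (le_norm_cent n2))).resolve_left fun e => ?_).ge inf_le_right
    have h1 := k a (e.le ⟨ha, mem_cent.2 fun x hx => mem_cent1.1 hx.2⟩)
    exact c.z_ne (congrArg Subtype.val (h.fp' ⟨d.z, b.le c.z_V⟩ (by
      rw [← h.ta, h1, mul_one, mul_inv_cancel, one_mul]; rfl)))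
  · rw [ct, eq_bot_iff]
    exact fun x hx => mem_bot.2 (congrArg Subtype.val
      (h.fp ⟨x, hx.1.1⟩ ((mF _ aN _).2 hx.2) ((mF _ (cN a ha) _).2 hx.1)))
  · obtain ⟨u, hu, v, hv, e⟩ := h.split ⟨x, hx⟩
    rw [ct, show x = u * v from congrArg Subtype.val e]
    exact mul_mem (mem_sup_right ((mF _ aN _).1 hu)) (mem_sup_left ((mF _ (cN a ha) _).1 hv))

end CL.SJ
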