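/-
Project SJ4, job F3: the components of `M`.
-/
import Cfsg.Agent.SJ4.Basic
import Cfsg.Agent.Loc.Chief

set_option autoImplicit false
set_option linter.unusedSectionVars false
open Cfsg Subgroup CL.Even CL.Grp CL.Wr CL.Wr.P5a
open scoped commutatorElement

namespace CL.SJ

universe u

theorem f3 : F3.{u} := by
  intro G _ _ d t W N V₁ c b _ r s
  have o := c.toOk
  have tt : ∀ X : Subgroup G, cj t (cj t X) = X := fun X => by rw [← cj_mul, c.t_sq, cj_one]
  have tW := b.t_norm c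
  have KN : ⁅N, N⁆ ≤ N := comm_le_self N
  have h2 : cj t N ≤ 𝒞(V₁) := by
    have := cj_mono t s.cen
    rwa [cj_cent, tt] at this
  have cW : ⁅N, cj t N⁆ ≤ W := commutator_le.2 (by
    rintro x hx _ ⟨y, hy, rfl⟩
    exact r.comm x hx y hy)
  have WN : ⁅W, N⁆ ≤ V₁ := (commutator_mono s.sup le_rfl).trans (commutator_sup_le' le_normalizer
    ((cj_le_of_le s.le tW).trans (r.le.trans s.norm)) (commutator_le_of_le_norm s.norm)
    ((commutator_eq_bot_iff'.2 s.cen).le.trans bot_le))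
  have A : ⁅⁅N, N⁆, cj t N⁆ ≤ V₁ := CL.Loc.three_subgroups_of_le_normalizer s.norm s.norm (h2.trans (cent_le_norm _))
    ((commutator_mono cW le_rfl).trans WN) ((commutator_mono ((commutator_comm _ _).le.trans cW) le_rfl).trans WN)
  have B : ⁅N, cj t ⁅N, N⁆⁆ ≤ cj t V₁ := by
    have := cj_mono t A
    rwa [cj_commutator t ⁅N, N⁆, tt, commutator_comm] at this
  have cm : Cm t ⁅N, N⁆ := fun x hx y hy => commutatorElement_eq_one_iff_commute.1 (mem_bot.1 (s.disj ▸
    ⟨A (commutator_mem_commutator hx (conj_mem_cj t (KN hy))),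
      B (commutator_mem_commutator (KN hx) (conj_mem_cj t hy))⟩))
  have mem : ∀ x ∈ ⁅N, N⁆, dg t x ∈ d.M := fun x hx => by
    obtain ⟨m, hm, w, hw, e⟩ := r.mem x (KN hx)
    have h1 : dg t x * t = t * dg t x := by
      calc dg t x * t = t * x * t⁻¹ * (x * t) := by rw [dg, (cm x hx x hx).eq, mul_assoc]
        _ = t * (x * ((t * t)⁻¹ * t * x * t⁻¹ * (t * t))) := by group
        _ = _ := by rw [c.t_sq, dg]; group
    have h3 := c.t_cen m (o.M_A hm)
    rw [e]
    refine mul_mem hm (o.V_M (b.mem_V c hw (mul_left_cancel (a := m) ?_)))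
    rw [← mul_assoc, ← e, h1, e, ← mul_assoc, ← mul_assoc, h3]
  have dec : ∀ m ∈ d.M, ∃ k ∈ ⁅N, N⁆, ∃ v ∈ d.V, m = dg t k * v := fun m hm => by
    obtain ⟨x, hx, w, hw, e⟩ := r.surj m hm
    obtain ⟨k, hk, w', hw', rfl⟩ := (mem_sup_nr (KN.trans r.norm)).1 (r.perf hx)
    refine ⟨k, hk, (dg t k)⁻¹ * m, b.inf_A c ?_ (o.M_A (mul_mem (inv_mem (mem k hk)) hm)), by group⟩
    have := mul_mem (mul_mem (conj_mem' (conj_mem (le_normalizer tW) (r.norm (KN hk))) hw') (conj_mem tW hw'))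
      (inv_mem hw)
    rwa [show (t * k * t⁻¹)⁻¹ * w' * (t * k * t⁻¹) * (t * w' * t⁻¹) * w⁻¹ = (dg t k)⁻¹ * (dg t (k * w') * w⁻¹) by
      simp only [dg]; group, e, mul_inv_cancel_right] at this
  have VI : d.V ≤ cm.im := by
    refine inf_eq_right.1 ((c.irr (cm.im ⊓ d.V) inf_le_right fun m hm => ?_).resolve_left fun e => ?_)
    · obtain ⟨k, hk, v, hv, rfl⟩ := dec m hm
      exact mul_mem (le_norm_inf (L := zpowers _) (zpowers_le.2 (le_normalizer (H := cm.im) ⟨k, hk, rfl⟩))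
        (zpowers_le.2 (o.M_norm (mem k hk))) (mem_zpowers _))
        (cent_le_norm _ (mem_cent.2 fun x hx => o.V_comm hx.2 hv))
    · have h3 : N ≤ 𝒞(V₁) := fun n hn => mem_cent.2 fun v hv => by
        have m1 := commutator_mem_commutator (r.le (s.le hv)) hn
        have m2 := WN (commutator_mem_commutator (s.le hv) hn)
        rw [← commutatorElement_eq_one_iff_mul_comm]
        generalize ⁅v, n⁆ = x at m1 m2
        have : dg t x = 1 := mem_bot.1 (e ▸ ⟨⟨x, m1, rfl⟩,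
          b.inf_A c (mul_mem (s.le m2) (conj_mem tW (s.le m2))) (o.M_A (mem x m1))⟩)
        have m3 := inv_mem (conj_mem_cj t m2)
        rw [← eq_inv_of_mul_eq_one_left this] at m3
        exact mem_bot.1 (s.disj ▸ ⟨m2, m3⟩)
      have h4 : N ≤ 𝒞(W) := (le_inf h3 s.cen).trans ((cent_sup _ _).ge.trans (cent_mono s.sup))
      refine c.z_ne (o.fixM c.z_V fun m hm => ?_)
      obtain ⟨k, hk, v, hv, rfl⟩ := dec m hm
      exact (comm_of_mem (mul_mem (mul_mem (h4 (KN hk)) (conj_mem (norm_le_norm_cent W tW) (h4 (KN hk))))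
        (mem_cent.2 fun x hx => b.comm x hx v (b.le hv))) (b.le c.z_V)).symm
  have surj : ∀ m ∈ d.M, ∃ x ∈ ⁅N, N⁆, dg t x = m := fun m hm => by
    obtain ⟨k, hk, v, hv, rfl⟩ := dec m hm
    exact cm.im.mul_mem ⟨k, hk, rfl⟩ (VI hv)
  refine ⟨_, cm, mem, surj, fun x hx e => ?_⟩
  have xW := r.inj x (KN hx) (e ▸ one_mem W)
  have cen : ∀ m ∈ d.M, m * x = x * m := fun m hm => by
    obtain ⟨y, hy, rfl⟩ := surj m hm
    refine (Commute.mul_left ?_ (cm x hx y hy).symm).eq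
    rw [eq_inv_of_mul_eq_one_left e]
    exact (cm y hy x hx).inv_right
  refine o.fixM (b.ker x xW (o.fixM (b.mem x xW) fun m hm => ?_)) cen
  rw [← mul_inv_eq_iff_eq_mul, ← tau_conj (c.t_cen m (o.M_A hm)), cen m hm, mul_inv_cancel_right]

end CL.SJ
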