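/-
Project SJ4, job G1: the canonical components.
-/
import Cfsg.Agent.SJ4.Basic

set_option autoImplicit false
set_option linter.unusedSectionVars false
open Cfsg Subgroup CL.Even CL.Grp CL.Wr CL.Wr.P5a
open scoped commutatorElement

namespace CL.SJ

universe u

namespace G1a

variable {G : Type*} [Group G] {d : Dat G} {t w a b h x y p : G} {K P : Subgroup G}

theorem t_conj (ht : h * t = t * h) (y : G) : t * (h * y * h⁻¹) * t⁻¹ = h * (t * y * t⁻¹) * h⁻¹ := by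
  calc t * (h * y * h⁻¹) * t⁻¹ = t * h * y * (t * h)⁻¹ := by group
    _ = _ := by rw [← ht]; group

theorem cm_cj (c : Cm t K) (ht : h * t = t * h) : Cm t (cj h K) := by
  rintro _ ⟨x, hx, rfl⟩ _ ⟨y, hy, rfl⟩
  exact t_conj ht y ▸ (c x hx y hy).map (MulAut.conj h)

theorem dg_cj (g : Dg t K P) (ht : h * t = t * h) : Dg t (cj h K) (cj h P) := by
  refine ⟨cm_cj g.cm ht, ?_, ?_, ?_⟩
  · rintro _ ⟨x, hx, rfl⟩
    exact (dg_conj ht x).symm ▸ conj_mem_cj h (g.mem x hx)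
  · rintro _ ⟨a, ha, rfl⟩
    obtain ⟨x, hx, rfl⟩ := g.surj a ha
    exact ⟨_, conj_mem_cj h hx, dg_conj ht x⟩
  · rintro _ ⟨x, hx, rfl⟩ e
    exact conj_eq_one_iff.2 (g.inj x hx (conj_eq_one_iff.1 ((dg_conj ht x).symm.trans e)))

/-- An element of `P` commuting with `dg y` commutes with `y`. -/
theorem cM (g : Dg t K P) (hx : x ∈ P) (hy : y ∈ K) (e : x * dg t y = dg t y * x) : x * y = y * x := by
  obtain ⟨u, hu, rfl⟩ := g.surj x hx
  rw [← mul_inv_eq_iff_eq_mul, g.cm.conj hu hy, g.comm_of hu hy e, mul_inv_cancel_right]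

theorem tri (g : Dg t K P) (hp : p ∈ P) (ht : p * t = t * p) (hx : x ∈ K) :
    x * (p * x * p⁻¹) * (p⁻¹ * x * p) ∈ K ∧
      dg t (x * (p * x * p⁻¹) * (p⁻¹ * x * p)) = dg t x * (p * dg t x * p⁻¹) * (p⁻¹ * dg t x * p) := by
  have h1 := g.conj_K hp hx
  have h2 := g.conj_K (inv_mem hp) hx
  have h3 := dg_conj (show Commute p t from ht).inv_left.eq x
  rw [inv_inv] at h2 h3
  exact ⟨mul_mem (mul_mem hx h1) h2, by rw [g.cm.mul (mul_mem hx h1) h2, g.cm.mul hx h1, dg_conj ht, h3]⟩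

theorem same (o : Ok d) (hc : ∀ h ∈ d.H, h * w = w * h) (ha : a ∈ d.A) (hb : b ∈ d.A)
    (e : a * d.z * a⁻¹ = b * d.z * b⁻¹) : a * w * a⁻¹ = b * w * b⁻¹ := by
  calc a * w * a⁻¹ = b * (b⁻¹ * a * w) * a⁻¹ := by group
    _ = _ := by rw [hc _ (o.stab ha hb e)]; group

theorem cen_conj (o : Ok d) (hc : ∀ h ∈ d.H, h * w = w * h) (ha : a ∈ d.A) (hx : x ∈ d.A)
    (e : x * (a * d.z * a⁻¹) = a * d.z * a⁻¹ * x) : x * (a * w * a⁻¹) = a * w * a⁻¹ * x := by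
  refine mul_inv_eq_iff_eq_mul.1 (Eq.trans (by group) (same o hc (mul_mem hx ha) ha ?_))
  exact Eq.trans (by group) (mul_inv_eq_iff_eq_mul.2 e)

theorem mem_cjK (o : Ok d) (g : Dg t K d.M) (hw : w ∈ K) (hc : ∀ h ∈ d.H, h * w = w * h) (ha : a ∈ d.A)
    (hh : h ∈ d.A) (e : a * d.z * a⁻¹ ∈ cj h d.V) : a * w * a⁻¹ ∈ cj h K := by
  obtain ⟨m, hm, e'⟩ := o.fuse (mem_cj.1 e) ⟨h⁻¹ * a, mul_mem (inv_mem hh) ha, by group⟩
  rw [same o hc ha (mul_mem hh (o.M_A hm)) (by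
    calc _ = h * (h⁻¹ * (a * d.z * a⁻¹) * h) * h⁻¹ := by group
      _ = _ := by rw [e']; group), mem_cj]
  simpa [mul_assoc] using g.conj_K hm hw

theorem dg_w (c : Cor d t) (hz : dg t w = d.z) (ha : a ∈ d.A) : dg t (a * w * a⁻¹) = a * d.z * a⁻¹ := by
  rw [dg_conj (c.t_cen a ha), hz]

end G1a

open G1a in
theorem g1 : G1.{u} := by
  intro G _ _ d t K c g
  have o := c.toOk
  obtain ⟨w, hw, hz⟩ := g.surj _ (o.V_M c.z_V)
  have w2 := g.sq_of hw (hz ▸ o.z_sq)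
  have hb : ∀ x ∈ d.H, x ∈ d.M → x * w = w * x := fun x hx hx' => cM g hx' hw (hz ▸ o.H_z hx)
  have wz := hb _ (o.V_H c.z_V) (o.V_M c.z_V)
  have hc : ∀ h ∈ d.H, h * w = w * h := fun h hh => by
    obtain ⟨j, hj, x, hx, rfl⟩ := c.H_dec h hh
    exact (Commute.mul_left (o.cen_J (c.norm_J wz.symm (.inr ((tau_eq_dg c.t_sq w2).trans hz)))
      (fun q hq => (hb q (o.Q_H hq) (o.Q_M hq)).symm) j hj) (hb x (c.T_H hx) (c.T_M hx))).eq
  refine ⟨w, hw, hz, hc, fun a ha hy => ?_⟩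
  by_cases yV : a * d.z * a⁻¹ ∈ d.V
  · exact cj_one K ▸ mem_cjK o g hw hc ha (one_mem _) (by rwa [cj_one])
  have cl : d.cl (a * d.z * a⁻¹) := ⟨a, ha, rfl⟩
  obtain ⟨h, hh, yh⟩ := o.covQ hy cl
  have g' := dg_cj g (c.t_cen h (o.H_A hh))
  have wh : w ∈ cj h K := by simpa [hc h hh] using conj_mem_cj h hw
  have zh : d.z ∈ cj h d.V := by simpa [o.H_z hh] using conj_mem_cj h c.z_V
  obtain ⟨x, xV, xQ, xy⟩ : ∃ x ∈ d.V, x ∈ d.Q ∧ a * d.z * a⁻¹ * x ≠ x * (a * d.z * a⁻¹) := by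
    by_contra! hn
    exact yV (c.cenU _ (o.Q_A hy) hn)
  have e1 : x * (a * d.z * a⁻¹) * x⁻¹ = d.z * (a * d.z * a⁻¹) := by
    exact mul_inv_eq_iff_eq_mul.1
      ((c.Q_comm x xQ _ hy).resolve_left fun e => xy (commutatorElement_eq_one_iff_mul_comm.1 e).symm)
  have xA := o.V_A xV
  have n1 := mem_cjK o g hw hc ha (o.H_A hh) yh
  have n2 := mem_cjK o g hw hc (mul_mem xA ha) (o.H_A hh) (by
    rw [show x * a * d.z * (x * a)⁻¹ = x * (a * d.z * a⁻¹) * x⁻¹ by group, e1]; exact mul_mem zh yh)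
  rw [show x * a * w * (x * a)⁻¹ = x * (a * w * a⁻¹) * x⁻¹ by group] at n2
  have n3 := dg_w c hz ha
  have n4 : a * w * a⁻¹ * (a * w * a⁻¹) = 1 := by rw [conj_mul, w2, mul_one, mul_inv_cancel]
  have n5 : ∀ x ∈ d.A, x * (a * d.z * a⁻¹) = a * d.z * a⁻¹ * x → x * (a * w * a⁻¹) = a * w * a⁻¹ * x :=
    fun x hx => cen_conj o hc ha hx
  generalize a * d.z * a⁻¹ = y at *
  generalize a * w * a⁻¹ = y₁ at *
  obtain ⟨m, hm, rfl⟩ := g.surj _ (o.Q_M hy)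
  have m2 := g.sq_of hm (o.cl_sq cl)
  have kt := tau_eq_iff.1 (((tau_eq_dg c.t_sq n4).trans n3).trans (tau_eq_dg c.t_sq m2).symm)
  have kq : ∀ q ∈ d.Q, q * dg t m = dg t m * q → Commute (y₁⁻¹ * m) q := fun q hq e =>
    (Commute.mul_right (show Commute q y₁ from n5 q (o.Q_A hq) e).inv_right (cM g (o.Q_M hq) hm e)).symm
  have yz := o.H_z (o.Q_H hy)
  have z4 : ∀ k ∈ d.A, Z4 d.z (dg t m) k → k * k = 1 ∧ k * y₁ = y₁ * k := fun k hk e => by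
    refine ⟨?_, n5 k hk ?_⟩ <;> rcases e with rfl | rfl | rfl | rfl
    · exact one_mul 1
    · exact o.z_sq
    · exact o.cl_sq cl
    · rw [← pow_two, Commute.mul_pow yz, pow_two, pow_two, o.cl_sq cl, o.z_sq, one_mul]
    · rw [one_mul, mul_one]
    · exact yz.symm
    · rfl
    · rw [mul_assoc, ← yz]
  have kA : y₁⁻¹ * m ∈ d.A := (c.cen _ kt).resolve_right fun e => by
    obtain ⟨k1, k2⟩ := z4 _ e (c.cenCQ _ hy _ e fun q hq e' =>
      ((kq q hq e').mul_left (c.t_cen q (o.Q_A hq)).symm).eq)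
    have k3 := c.t_cen _ e
    obtain ⟨k, hk⟩ : ∃ k, y₁⁻¹ * m * t = k := ⟨_, rfl⟩
    rw [hk] at k1 k2 k3
    have k4 : m = k * (y₁ * t) := by
      rw [← mul_assoc, k2, ← hk, mul_assoc, mul_assoc, c.t_sq]; group
    rw [k4, ← pow_two, Commute.mul_pow (Commute.mul_right k2 k3), pow_two, pow_two, k1, one_mul] at m2
    refine o.cl_ne cl ?_
    rw [← n3, ← m2, dg, c.t_inv]; group
  have xt := c.t_cen x xA
  have e2 : x * m * x⁻¹ = w * m := g.eq_of (g.conj_K (o.V_M xV) hm) (mul_mem hw hm) (by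
    rw [dg_conj xt, g.cm.mul hw hm, hz, e1])
  have e3 : x * y₁ * x⁻¹ = w * y₁ := g'.eq_of n2 (mul_mem wh n1) (by rw [dg_conj xt, g'.cm.mul wh n1, hz, n3, e1])
  have e4 : Commute x (y₁⁻¹ * m) := by
    rw [Commute, SemiconjBy, ← mul_inv_eq_iff_eq_mul, ← conj_mul, ← conj_inv, e2, e3]; group
  rcases c.cenCQ _ hy _ kA fun q hq e' => (kq q hq e').eq with e | e | e | e
  · exact inv_mul_eq_one.1 e ▸ hm
  · exfalso
    obtain ⟨t1, t2⟩ := tri g c.p_M (c.t_cen _ (o.H_A o.p_H)) hm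
    obtain ⟨t3, t4⟩ := tri g' (mem_cj.2 (c.p_conj h hh)) (c.t_cen _ (o.H_A o.p_H)) n1
    rw [n3] at t4
    obtain ⟨u, u1, u2, u3⟩ : ∃ u ∈ K, u ∈ cj h K ∧
        dg t u = dg t m * (d.p * dg t m * d.p⁻¹) * (d.p⁻¹ * dg t m * d.p) := by
      rcases c.p_fpf _ hy with e | e <;> rw [e]
      exacts [⟨1, one_mem _, one_mem _, dg_one⟩, ⟨w, hw, wh, hz⟩]
    have e5 := (g.eq_of t1 u1 (t2.trans u3.symm)).trans (g'.eq_of t3 u2 (t4.trans u3.symm)).symm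
    have c1 : Commute d.z y₁ := n5 _ o.z_A yz.symm
    have c2 : Commute d.z d.p := (o.H_z o.p_H).symm
    have c3 := (c2.mul_right c1).mul_right c2.inv_right
    have c4 := (c2.inv_right.mul_right c1).mul_right c2
    rw [eq_mul_of_inv_mul_eq e, show d.p * (y₁ * d.z) * d.p⁻¹ = d.p * y₁ * d.p⁻¹ * d.z by
      rw [mul_assoc (d.p * y₁), ← c2.inv_right.eq]; group, show d.p⁻¹ * (y₁ * d.z) * d.p = d.p⁻¹ * y₁ * d.p * d.z by
      rw [mul_assoc (d.p⁻¹ * y₁), ← c2.eq]; group] at e5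
    generalize d.p * y₁ * d.p⁻¹ = y₂ at c3 e5
    generalize d.p⁻¹ * y₁ * d.p = y₃ at c4 e5
    rw [mul_assoc y₁ d.z, ← mul_assoc d.z, c3.eq, mul_assoc y₂, o.z_sq, mul_one, ← mul_assoc, mul_eq_left] at e5
    exact c.z_ne e5
  · exact (xy (e ▸ e4.eq.symm)).elim
  · rw [e] at e4
    have := e4.mul_right (show Commute x d.z from o.H_z (o.Q_H xQ)).inv_right
    rw [mul_inv_cancel_right] at this
    exact (xy this.eq.symm).elim

end CL.SJ
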