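/-
Project SJ4, job G3: the components of `A`.
-/
import Cfsg.Agent.SJ4.G1

set_option autoImplicit false
set_option linter.unusedSectionVars false
open Cfsg Subgroup CL.Even CL.Grp CL.Wr CL.Wr.P5a
open scoped commutatorElement

namespace CL.SJ

universe u

namespace G1a

variable {G : Type*} [Group G] {d : Dat G} {t w a b h k x y p : G} {K P R : Subgroup G}

/-- the subgroup generated by the conjugates of `X` under `H` -/
def cc (H X : Subgroup G) : Subgroup G := closure {x | ∃ h ∈ H, x ∈ cj h X}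

theorem cj_le_cc {H X : Subgroup G} (hh : h ∈ H) : cj h X ≤ cc H X := fun _ hx => subset_closure ⟨h, hh, hx⟩

theorem le_cc {H X : Subgroup G} : X ≤ cc H X := (cj_one X).ge.trans (cj_le_cc (one_mem H))

theorem cc_le {H X Y : Subgroup G} (e : ∀ h ∈ H, cj h X ≤ Y) : cc H X ≤ Y :=
  (closure_le _).2 fun _ ⟨h, hh, hx⟩ => e h hh hx

theorem norm_cc {H X : Subgroup G} : H ≤ 𝒩(cc H X) := le_norm_of_cj_le fun _ hg => cj_le_iff.2 (cc_le fun _ hh =>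
  cj_le_iff.1 (cj_mul _ _ X ▸ cj_le_cc (mul_mem hg hh)))

theorem conj_lo (g : Dg t K P) (hk : k ∈ P) (ht : k * t = t * k) (hx : x ∈ K) (e : k * dg t x * k⁻¹ ∈ R) :
    k * x * k⁻¹ ∈ g.lo R := ⟨g.conj_K hk hx, (dg_conj ht x).symm ▸ e⟩

theorem mem_cjV (c : Cor d t) (g : Dg t K d.M) (s : Cz d t K w) (ha : a ∈ d.A) (hk : k ∈ d.A)
    (e : a * d.z * a⁻¹ ∈ cj k d.V) : a * w * a⁻¹ ∈ cj k (g.lo d.V) := by
  refine mem_cj.2 ⟨mem_cj.1 (mem_cjK c.toOk g s.mem s.cen ha hk e), ?_⟩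
  have := dg_conj (c.t_cen _ (inv_mem hk)) (a * w * a⁻¹)
  rw [inv_inv, dg_w c s.dg ha] at this
  exact this ▸ mem_cj.1 e

end G1a

open G1a in
theorem g3 : G3.{u} := by
  intro G _ _ d t K w c g s r
  have o := c.toOk
  have cJ : Cm t (cc d.H (g.lo d.V)) := cm_closure (by
    rintro _ ⟨h, hh, x, hx, rfl⟩ _ ⟨k, hk, y, hy, rfl⟩
    have := (r _ (mul_mem (inv_mem hh) hk) x hx.1 y hy.1 hx.2 hy.2).map (MulAut.conj h)
    show Commute (h * x * h⁻¹) (t * (k * y * k⁻¹) * t⁻¹)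
    rw [t_conj (c.t_cen k (o.H_A hk)), show k * (t * y * t⁻¹) * k⁻¹ =
      h * (h⁻¹ * k * (t * y * t⁻¹) * (h⁻¹ * k)⁻¹) * h⁻¹ by group]
    exact this)
  have nJ : d.H ≤ 𝒩(cc d.H (g.lo d.V)) := norm_cc
  have vJ : ∀ h ∈ d.H, cj h (g.lo d.V) ≤ cc d.H (g.lo d.V) := fun h hh => cj_le_cc hh
  generalize cc d.H (g.lo d.V) = J at cJ nJ vJ
  obtain ⟨m, hm, h, hh, -, mz, hY, hA⟩ := c.gen
  have mA := o.M_A hm
  have mt := c.t_cen _ (inv_mem mA)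
  have cm' := cm_cj cJ (c.t_cen m mA)
  have QY : d.Q ≤ (g.cm.mono (inf_le_left : K ⊓ J ≤ K)).im := c.genQ.trans ((closure_le _).2 (by
    rintro _ ⟨hy, a, ha, rfl⟩
    obtain ⟨k, hk, e⟩ := o.covQ hy ⟨a, ha, rfl⟩
    exact ⟨_, ⟨s.q a ha hy, vJ k hk (mem_cjV c g s ha (o.H_A hk) e)⟩, dg_w c s.dg ha⟩))
  have MJ := hY (g.cm.mono (inf_le_left : K ⊓ J ≤ K)).im (fun v hv => by
      obtain ⟨x, hx, rfl⟩ := g.exists_lo o.V_M hv
      exact ⟨x, ⟨hx.1, vJ 1 (one_mem _) ((cj_one _).ge hx)⟩, rfl⟩) QY (by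
      rintro _ h1 h2 ⟨a, ha, rfl⟩
      refine ⟨_, ⟨?_, vJ h hh (mem_cjV c g s ha (o.H_A hh) h2)⟩, dg_w c s.dg ha⟩
      have := g.conj_K hm (s.q _ (mul_mem (inv_mem mA) ha) (by simpa [mul_assoc] using mem_cj.1 h1))
      simpa [mul_assoc] using this) fun n hn => mem_norm_of (by
      rintro _ ⟨x, hx, rfl⟩
      exact ⟨_, ⟨g.conj_K hn.2 hx.1, conj_mem (nJ hn.1) hx.2⟩, dg_conj (c.t_cen n (o.M_A hn.2)) x⟩)
  have QJ : g.lo (cj m d.Q) ≤ cj m J := fun x hx => by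
    have h1 := conj_lo (R := d.Q) g (inv_mem hm) mt hx.1 (by simpa using mem_cj.1 hx.2)
    obtain ⟨y, hy, e⟩ := QY h1.2
    rw [← g.eq_of hy.1 h1.1 e] at h1
    have := hy.2
    rw [g.eq_of hy.1 (g.conj_K (inv_mem hm) hx.1) e, inv_inv] at this
    exact mem_cj.2 this
  have VJ : cj h (g.lo d.V) ≤ cj m J := by
    obtain ⟨n, hn, e⟩ := o.fuse (mem_cj.1 mz) ⟨h⁻¹ * m, mul_mem (inv_mem (o.H_A hh)) mA, by group⟩
    have hk := o.stab (mul_mem (o.H_A hh) (o.M_A hn)) mA (by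
      calc _ = h * (n * d.z * n⁻¹) * h⁻¹ := by group
        _ = _ := by rw [← e]; group)
    rintro _ ⟨x, hx, rfl⟩
    have := conj_mem_cj m (vJ _ hk (conj_mem_cj _ (conj_lo g (inv_mem hn) (c.t_cen _ (inv_mem (o.M_A hn))) hx.1
      (o.conj_V (inv_mem hn) hx.2))))
    rwa [show m * (m⁻¹ * (h * n) * (n⁻¹ * x * n⁻¹⁻¹) * (m⁻¹ * (h * n))⁻¹) * m⁻¹ = h * x * h⁻¹ by group] at this
  have cm : Cm t (closure {x | dg t x ∈ d.A ∧ (x ∈ K ⊓ J ∨ x ∈ K ⊓ cj m J ∨ x ∈ J ⊓ cj m J)}) := cm_closure (by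
    rintro x ⟨-, hx | hx | hx⟩ y ⟨-, hy | hy | hy⟩
    exacts [cJ x hx.2 y hy.2, g.cm x hx.1 y hy.1, cJ x hx.2 y hy.1, g.cm x hx.1 y hy.1, cm' x hx.2 y hy.2,
      cm' x hx.2 y hy.2, cJ x hx.1 y hy.2, cm' x hx.2 y hy.2, cm' x hx.2 y hy.2])
  have sj : d.A ≤ cm.im := hA.trans (sup_le (sup_le (fun l hl => ?_) fun l hl => ?_) ?_)
  rotate_left
  · obtain ⟨x, hx, rfl⟩ := MJ hl
    exact ⟨x, subset_closure ⟨o.M_A hl.1, .inl hx⟩, rfl⟩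
  · obtain ⟨x, hx, rfl⟩ := g.exists_lo (cj_le_of_mem o.Q_M hm) hl
    exact ⟨x, subset_closure ⟨o.M_A (g.mem x hx.1), .inr (.inl ⟨hx.1, QJ hx⟩)⟩, rfl⟩
  · rintro _ ⟨v, hv, rfl⟩
    obtain ⟨x, hx, rfl⟩ := g.exists_lo o.V_M hv
    have e := dg_conj (c.t_cen h (o.H_A hh)) x
    exact ⟨_, subset_closure ⟨e ▸ conj_mem (le_normalizer (o.H_A hh)) (o.V_A hv),
      .inr (.inr ⟨vJ h hh (conj_mem_cj h hx), VJ (conj_mem_cj h hx)⟩)⟩, e⟩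
  have nL : d.A ≤ 𝒩(_) := fun l hl => mem_norm_of fun y hy => by
    obtain ⟨x, hx, rfl⟩ := sj hl
    rw [cm.conj hx hy]; exact mul_mem (mul_mem hx hy) (inv_mem hx)
  have mo : MulOn _ (dg t) := fun _ hx _ hy => cm.mul hx hy
  refine ⟨_, cm.wrt (fun x hx => (mo.mem_pre.1 ((closure_le (mo.pre d.A)).2
    (fun y hy => mo.mem_pre.2 ⟨subset_closure hy, hy.1⟩) hx)).2) sj o.A_perf fun e he => (c.cen e he).imp (nL ·)
      fun h => nL ?_⟩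
  rwa [c.t_inv, ← he]

end CL.SJ
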