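/-
Project SJ4, job G2: the components of `V` commute with the other components of its conjugates under `H`.
-/
import Cfsg.Agent.SJ4.G3
import Mathlib.GroupTheory.FixedPointFree

set_option autoImplicit false
set_option linter.unusedSectionVars false
open Cfsg Subgroup CL.Even CL.Grp CL.Wr CL.Wr.P5a
open scoped commutatorElement

namespace CL.SJ

universe u

namespace G2a

open G1a

variable {G : Type*} [Group G] {d : Dat G} {t w z : G} {K : Subgroup G}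

theorem exists_Z (hz : z * z = 1) (hw : w * w = 1) (c : z * w = w * z) :
    ∃ Z : Subgroup G, (∀ x, x ∈ Z ↔ Z4 z w x) ∧ ∀ x ∈ Z, x * x = 1 := by
  have h1 : ∀ x, w * (w * x) = x := fun x => by rw [← mul_assoc, hw, one_mul]
  have h2 : ∀ x, z * (w * x) = w * (z * x) := fun x => by rw [← mul_assoc, c, mul_assoc]
  have h3 : ∀ x, Z4 z w x → x * x = 1 := by
    rintro x (rfl | rfl | rfl | rfl) <;> simp [hz, hw, h1, h2, mul_assoc]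
  refine ⟨⟨⟨⟨{x | Z4 z w x}, ?_⟩, .inl rfl⟩, fun {x} hx => ?_⟩, fun _ => Iff.rfl, h3⟩
  · rintro x y (rfl | rfl | rfl | rfl) (rfl | rfl | rfl | rfl) <;> simp [Z4, hz, hw, h1, h2, c, mul_assoc]
  · rwa [inv_eq_of_sq (h3 x hx)]

/-- An involution without fixed points on `D / Z`. -/
theorem fpf [Finite G] {D Z : Subgroup G} (hn : D ≤ 𝒩(Z)) (ht : t ∈ 𝒩(D)) (htZ : t ∈ 𝒩(Z)) (t2 : t * t = 1)
    (h : ∀ e ∈ D, e⁻¹ * (t * e * t⁻¹) ∈ Z → e ∈ Z) {e : G} (he : e ∈ D) :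
    t * e * t⁻¹ * e ∈ Z ∧ ∃ k, Odd k ∧ e ^ k ∈ Z := by
  have : (Z.subgroupOf D).Normal := ⟨fun a ha g => conj_mem (H := Z) (x := a.1) (hn g.2) ha⟩
  let φ := QuotientGroup.map (Z.subgroupOf D) (Z.subgroupOf D) (D.normalizerMonoidHom ⟨t, ht⟩).toMonoidHom
    fun x hx => conj_mem (H := Z) (x := x.1) htZ hx
  have h1 : MonoidHom.FixedPointFree φ := fun q hq => by
    induction q using QuotientGroup.induction_on with | H x => ?_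
    exact (QuotientGroup.eq_one_iff x).2 (h x x.2
      ((QuotientGroup.eq (s := Z.subgroupOf D) (a := x) (b := D.normalizerMonoidHom ⟨t, ht⟩ x)).1 hq.symm))
  have h2 : Function.Involutive φ := fun q => by
    induction q using QuotientGroup.induction_on with | H x => ?_
    refine congrArg QuotientGroup.mk (Subtype.ext (?_ : t * (t * x * t⁻¹) * t⁻¹ = x))
    rw [show t * (t * x * t⁻¹) * t⁻¹ = t * t * x * (t * t)⁻¹ by group, t2]; group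
  refine ⟨?_, _, h1.odd_orderOf_of_involutive h2 (⟨e, he⟩ : D), ?_⟩
  · have h3 : ((D.normalizerMonoidHom ⟨t, ht⟩ ⟨e, he⟩ * (⟨e, he⟩ : D) : D) : D ⧸ Z.subgroupOf D) = 1 :=
      mul_eq_one_iff_eq_inv.2 (congrFun (h1.coe_eq_inv_of_involutive h2) (⟨e, he⟩ : D))
    rwa [QuotientGroup.eq_one_iff] at h3
  · have h3 := pow_orderOf_eq_one ((⟨e, he⟩ : D) : D ⧸ Z.subgroupOf D)
    rw [← QuotientGroup.mk_pow] at h3
    rwa [QuotientGroup.eq_one_iff] at h3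

theorem lo_le_of (g : Dg t K d.M) {R Y : Subgroup G} (h : R ≤ (g.cm.mono (inf_le_left : K ⊓ Y ≤ K)).im) :
    g.lo R ≤ Y := fun x hx => by
  obtain ⟨y, hy, e⟩ := h hx.2
  exact g.eq_of hy.1 hx.1 e ▸ hy.2

theorem norm_Q [Finite G] (c : Cor d t) (g : Dg t K d.M) (s : Cz d t K w) : d.H ≤ 𝒩(g.lo d.Q) := fun h hh =>
  mem_norm_of_cj_le (cj_le_iff.2 (lo_le_of g (c.genQ.trans ((closure_le _).2 (by
    rintro _ ⟨hy, a, ha, rfl⟩
    have hA := mul_mem (c.toOk.H_A hh) ha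
    have e : h * a * d.z * (h * a)⁻¹ ∈ d.Q := by simpa [mul_assoc] using c.toOk.conj_Q hh hy
    refine ⟨_, ⟨s.q a ha hy, mem_cj.2 ?_⟩, dg_w c s.dg ha⟩
    rw [show h⁻¹⁻¹ * (a * w * a⁻¹) * h⁻¹ = h * a * w * (h * a)⁻¹ by group]
    exact ⟨s.q _ hA e, (dg_w c s.dg hA).symm ▸ e⟩)))))

/-- The final step. -/
theorem fin {Q₁ Q₂ J₁ J₂ Z : Subgroup G} (h1 : J₁ ≤ 𝒞(Q₂)) (h2 : J₂ ≤ 𝒞(Q₁)) (h3 : Z ≤ 𝒞(Q₁)) (z1 : J₁ ≤ 𝒞(Z))
    (z2 : J₂ ≤ 𝒞(Z)) (hZ : ∀ x ∈ Z, x * x = 1) (hc : ⁅J₁, J₂⁆ ≤ Z)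
    (ho : ∀ e ∈ 𝒞(Q₁) ⊓ 𝒞(Q₂), ∃ k, Odd k ∧ e ^ k ∈ Z) {x y b : G} (hx : x ∈ J₁) (hy : y ∈ J₂)
    (e : x * y ∈ ⁅J₁ ⊔ J₂, J₁ ⊔ J₂⁆) (hb : b ∈ J₂) : Commute x b := by
  have hc' : ⁅J₂, J₁⁆ ≤ Z := (commutator_comm _ _).le.trans hc
  have bot : ∀ X Y : Subgroup G, X ≤ Z → Y ≤ 𝒞(Z) → ⁅X, Y⁆ = ⊥ := fun X Y a b =>
    commutator_eq_bot_iff'.2 (b.trans (cent_mono a))
  have c1 : J₂ ≤ 𝒞(⁅J₁, J₁⁆) := commutator_eq_bot_iff'.1
    (commutator_commutator_eq_bot_of_rotate (bot _ _ hc z1) (bot _ _ hc' z1))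
  have c2 : J₁ ≤ 𝒞(⁅J₂, J₂⁆) := commutator_eq_bot_iff'.1
    (commutator_commutator_eq_bot_of_rotate (bot _ _ hc' z2) (bot _ _ hc z2))
  have n0 : J₁ ≤ 𝒩(⁅J₂, J₂⁆ ⊔ Z) := le_norm_sup (c2.trans (cent_le_norm _)) (z1.trans (cent_le_norm _))
  have n1 : J₁ ≤ 𝒩(⁅J₁, J₁⁆ ⊔ (⁅J₂, J₂⁆ ⊔ Z)) := le_norm_sup (le_norm_commutator le_normalizer le_normalizer) n0
  have n2 : J₂ ≤ 𝒩(⁅J₁, J₁⁆ ⊔ (⁅J₂, J₂⁆ ⊔ Z)) := le_norm_sup (c1.trans (cent_le_norm _))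
    (le_norm_sup (le_norm_commutator le_normalizer le_normalizer) (z2.trans (cent_le_norm _)))
  have zu : Z ≤ ⁅J₁, J₁⁆ ⊔ (⁅J₂, J₂⁆ ⊔ Z) := le_sup_right.trans le_sup_right
  obtain ⟨j, hj, v, hv, e'⟩ := (mem_sup_nr ((comm_le_self J₁).trans n0)).1 (commutator_sup_le n1 n2
    (commutator_sup_le' n1 n2 le_sup_left (hc'.trans zu))
    (commutator_sup_le' n1 n2 (hc.trans zu) (le_sup_left.trans le_sup_right)) e)
  have m1 : j⁻¹ * x ∈ J₁ := mul_mem (inv_mem (comm_le_self J₁ hj)) hx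
  obtain ⟨k, ⟨k, rfl⟩, hk⟩ := ho (j⁻¹ * x) (mem_inf.2 ⟨by
    rw [show j⁻¹ * x = j⁻¹ * (x * y) * y⁻¹ by group, ← e', inv_mul_cancel_left]
    exact mul_mem (sup_le ((comm_le_self J₂).trans h2) h3 hv) (inv_mem (h2 hy)), h1 m1⟩)
  rw [show x = j * (j⁻¹ * x) by group]
  refine Commute.mul_left (comm_of_mem (c1 hb) hj) ?_
  generalize j⁻¹ * x = a at m1 hk
  have m2 := hc' (commutator_mem_commutator hb m1)
  have e1 : b * a * b⁻¹ = ⁅b, a⁆ * a := by rw [commutatorElement_def, inv_mul_cancel_right]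
  have e2 := conj_eq_of_mem (z2 hb) hk
  rw [← conj_pow, e1, Commute.mul_pow (comm_of_mem (z1 m1) m2), mul_eq_right, pow_succ, pow_mul, pow_two, hZ _ m2,
    one_pow, one_mul] at e2
  exact (commutatorElement_eq_one_iff_commute.1 e2).symm

end G2a

open G1a G2a in
theorem g2 : G2.{u} := by
  intro G _ _ d t K w c g s
  have o := c.toOk
  have tt : ∀ X : Subgroup G, cj t (cj t X) = X := fun X => by rw [← cj_mul, c.t_sq, cj_one]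
  have w2 := g.sq_of s.mem (s.dg ▸ o.z_sq)
  have zw := s.cen _ (o.V_H c.z_V)
  have tw : t * w * t⁻¹ = w * d.z := by rw [← s.dg, dg, ← mul_assoc w w, w2, one_mul]
  have tau_w := (tau_eq_dg c.t_sq w2).trans s.dg
  obtain ⟨Z, hZ, Z2'⟩ := exists_Z o.z_sq w2 zw
  have wQ : w ∈ g.lo d.Q := ⟨s.mem, s.dg ▸ c.z_Q⟩
  have HQ := norm_Q c g s
  have cK : ∀ x ∈ K, x ∈ 𝒞(cj t (g.lo d.Q)) := fun x hx => mem_cent.2 fun y hy =>
    (comm_of_mem (g.le_cent (cj_mono t g.lo_le hy)) hx).symm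
  have cZ : ∀ x, x ∈ 𝒞(cj t (g.lo d.Q)) → w * x = x * w → x ∈ 𝒞(Z) := fun x h1 h2 => mem_cent.2 fun y hy => by
    have h3 : Commute (w * d.z) x := comm_of_mem h1 (tw ▸ conj_mem_cj t wQ)
    have h4 : Commute d.z x := by simpa using (show Commute w x from h2).inv_left.mul_left h3
    rcases (hZ y).1 hy with rfl | rfl | rfl | rfl
    exacts [by rw [one_mul, mul_one], h4, h2, h3]
  have tZ : t ∈ 𝒩(Z) := mem_norm_of fun y hy => (hZ _).2 (by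
    have e := c.t_conj o.z_A
    rcases (hZ y).1 hy with rfl | rfl | rfl | rfl
    · exact .inl (by group)
    · exact .inr (.inl e)
    · exact .inr (.inr (.inr tw))
    · exact .inr (.inr (.inl (by rw [← conj_mul, tw, e, mul_assoc, o.z_sq, mul_one]))))
  have HZ : d.H ≤ 𝒞(Z) := fun h hh => mem_cent.2 fun y hy => by
    rcases (hZ y).1 hy with rfl | rfl | rfl | rfl
    exacts [by rw [one_mul, mul_one], (o.H_z hh).symm, (s.cen h hh).symm,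
      (Commute.mul_right (s.cen h hh) (o.H_z hh)).symm]
  have HQ' : d.H ≤ 𝒩(cj t (g.lo d.Q)) := fun h hh => cj_eq_iff_mem.1 (by
    rw [← cj_mul, c.t_cen h (o.H_A hh), cj_mul, cj_eq (HQ hh)])
  have wC : w ∈ 𝒞(g.lo d.Q) := mem_cent.2 fun x hx => g.comm_of hx.1 s.mem (s.dg ▸ o.H_z (o.Q_H hx.2))
  have ZQ : Z ≤ 𝒞(g.lo d.Q) := fun y hy => ((hZ y).1 hy).mem (by
    have := mul_mem (inv_mem wC) (cent_mono g.lo_le (g.le_cent (conj_mem_cj t s.mem)))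
    rwa [tw, inv_mul_cancel_left] at this) wC
  -- the group `D`
  obtain ⟨D, hD⟩ : ∃ D, D = 𝒞(g.lo d.Q) ⊓ 𝒞(cj t (g.lo d.Q)) := ⟨_, rfl⟩
  have nD : ∀ x ∈ 𝒩(g.lo d.Q), x ∈ 𝒩(cj t (g.lo d.Q)) → x ∈ 𝒩(D) := fun x h1 h2 => hD ▸
    le_norm_inf (L := zpowers x) (zpowers_le.2 (norm_le_norm_cent _ h1)) (zpowers_le.2 (norm_le_norm_cent _ h2))
      (mem_zpowers x)
  have tD : t ∈ 𝒩(D) := cj_eq_iff_mem.1 (by rw [hD, cj_inf, cj_cent, cj_cent, tt, inf_comm])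
  have DZ : D ≤ 𝒞(Z) := fun e he => by
    rw [hD] at he
    exact cZ e he.2 (comm_of_mem he.1 wQ)
  have DQ : ∀ e ∈ D, ∀ q ∈ d.Q, Commute e q := fun e he q hq => by
    obtain ⟨x, hx, rfl⟩ := g.exists_lo o.Q_M hq
    rw [hD] at he
    exact Commute.mul_right (comm_of_mem he.1 hx).symm (comm_of_mem he.2 (conj_mem_cj t hx)).symm
  have zZ : d.z ∈ Z := (hZ _).2 (.inr (.inl rfl))
  have wZ : w ∈ Z := (hZ _).2 (.inr (.inr (.inl rfl)))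
  have fix : ∀ e ∈ D, e * t = t * e → e ∈ Z := fun e he et =>
    (c.cenQ e (c.mem_A et (tau_w ▸ c.z_ne) (comm_of_mem (DZ he) wZ).symm fun h => ((c.cenQ _ h fun q hq =>
      ((DQ e he q hq).mul_left (c.t_cen q (o.Q_A hq)).symm).eq).comm zw.symm).symm) fun q hq => DQ e he q hq).mem zZ
  have fp := fun e => fpf (D := D) (e := e) (DZ.trans (cent_le_norm _)) tD tZ c.t_sq fun e he h => by
    have wD : w ∈ D := hD ▸ ⟨wC, cK w s.mem⟩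
    rw [← inv_mem_iff]
    rcases c.z2_of_z4 (g := e⁻¹) tau_w w2 zw.symm ((hZ _).1 (by
      rw [c.t_inv] at h
      rwa [tau_def, inv_inv, mul_assoc, mul_assoc, ← mul_assoc t])) with h | h
    · exact fix _ (inv_mem he) ((tau_eq_one c.t_sq).1 h)
    · exact (mul_mem_cancel_left (inv_mem wZ)).1
        (fix _ (mul_mem (inv_mem wD) (inv_mem he)) (tau_eq_iff.1 (tau_w.trans h.symm)))
  -- the group `P`
  obtain ⟨P, hP⟩ : ∃ P, P = 𝒩(g.lo d.Q) ⊓ 𝒞(cj t (g.lo d.Q)) ⊓ 𝒞(Z) := ⟨_, rfl⟩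
  have P1 : P ≤ 𝒩(g.lo d.Q) := hP ▸ inf_le_left.trans inf_le_left
  have P2 : P ≤ 𝒞(cj t (g.lo d.Q)) := hP ▸ inf_le_left.trans inf_le_right
  have P3 : P ≤ 𝒞(Z) := hP ▸ inf_le_right
  have XP : g.lo (d.H ⊓ d.M) ≤ P := fun x hx => hP ▸ ⟨⟨mem_norm_of fun y hy => ⟨mul_mem (mul_mem hx.1 hy.1) (inv_mem hx.1),
    (g.mulOn.conj hx.1 hy.1).symm ▸ o.conj_Q hx.2.1 hy.2⟩, cK x hx.1⟩,
    cZ x (cK x hx.1) (g.comm_of s.mem hx.1 (s.dg ▸ (o.H_z hx.2.1).symm))⟩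
  have HP : d.H ≤ 𝒩(P) := hP ▸ le_norm_inf (le_norm_inf (le_norm_of_le HQ) (le_norm_cent HQ'))
    (le_norm_of_le HZ)
  have PD : P ≤ 𝒩(D) := fun x hx => nD x (P1 hx) (cent_le_norm _ (P2 hx))
  have PC : P ≤ 𝒩(cmod D Z) := le_norm_cmod PD (P3.trans (cent_le_norm _))
  have HC : d.H ≤ 𝒩(cmod D Z) := le_norm_cmod (fun h hh => nD h (HQ hh) (HQ' hh)) (HZ.trans (cent_le_norm _))
  have VX : g.lo d.V ≤ g.lo (d.H ⊓ d.M) := g.lo_mono (le_inf o.V_H o.V_M)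
  have sqV : ∀ x ∈ g.lo d.V, x * x = 1 := fun x hx => g.sq_of hx.1 (c.V_sq _ hx.2)
  have VC : d.V ≤ cmod D Z := fun v hv => ⟨cent_le_norm _ (HZ (o.V_H hv)), fun f hf => by
    obtain ⟨x, hx, rfl⟩ := g.exists_lo o.V_M hv
    have xP := XP (VX hx)
    have he := conj_mem' tD hf
    have h1 := conj_mem (cent_le_norm _ (P3 xP)) (fp _ (conj_mem' (PD xP) he)).1
    have h2 := (fp _ he).1
    have h3 : x * t * x⁻¹ = dg t x * t := by rw [tau_conj_t c.t_sq, tau_eq_dg c.t_sq (sqV x hx)]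
    rw [show x * (t * (x⁻¹ * (t⁻¹ * f * t) * x) * t⁻¹ * (x⁻¹ * (t⁻¹ * f * t) * x)) * x⁻¹ =
      x * t * x⁻¹ * (t⁻¹ * f * t) * (x * t * x⁻¹)⁻¹ * (t⁻¹ * f * t) by group, h3] at h1
    have := mul_mem h2 (inv_mem h1)
    rwa [show t * (t⁻¹ * f * t) * t⁻¹ * (t⁻¹ * f * t) *
      (dg t x * t * (t⁻¹ * f * t) * (dg t x * t)⁻¹ * (t⁻¹ * f * t))⁻¹ = f * dg t x * f⁻¹ * (dg t x)⁻¹ by group] at this⟩
  have V1C : g.lo d.V ≤ cmod D Z := lo_le_of g (c.VX.trans (sup_le (commutator_le.2 fun v hv x hx => ?_) fun q hq => ?_))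
  rotate_left
  · obtain ⟨v₁, h1, rfl⟩ := g.exists_lo o.V_M hv
    obtain ⟨x₁, h2, rfl⟩ := g.exists_lo inf_le_right hx
    refine ⟨_, ⟨comm_le_self K (commutator_mem_commutator h1.1 h2.1), ?_⟩, g.cm.comm h1.1 h2.1⟩
    rw [commutatorElement_def, ← g.cm.conj h1.1 h2.1, mul_assoc, mul_assoc, ← mul_assoc x₁]
    exact mul_mem (VC hv) (conj_mem (PC (XP h2)) (inv_mem (VC hv)))
  · obtain ⟨x, hx, rfl⟩ := g.exists_lo o.Q_M hq
    refine ⟨x, ⟨hx.1, cent_le_norm _ (P3 (XP (g.lo_mono (le_inf o.Q_H o.Q_M) hx))), fun e he => ?_⟩, rfl⟩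
    rw [hD] at he
    rw [commutatorElement_eq_one_iff_mul_comm.2 (comm_of_mem he.1 hx).symm]
    exact one_mem _
  have JP : cc d.H (g.lo d.V) ≤ P := cc_le fun h hh => cj_le_of_le (VX.trans XP) (HP hh)
  have Q1 : cj t P ≤ 𝒩(cj t (g.lo d.Q)) := cj_norm t _ ▸ cj_mono t P1
  have Q2 : cj t P ≤ 𝒞(g.lo d.Q) := by
    have := cj_mono t P2
    rwa [cj_cent, tt] at this
  have Q3 : cj t P ≤ 𝒞(Z) := cj_le_of_le P3 (norm_le_norm_cent _ tZ)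
  have JC : cc d.H (g.lo d.V) ≤ cmod (cj t P) Z := cc_le fun h hh a ha => by
    have aP := cj_le_of_le (VX.trans XP) (HP hh) ha
    have aC := cj_le_of_le V1C (HC hh) ha
    have a2 : a * a = 1 := by
      obtain ⟨x, hx, rfl⟩ := ha
      rw [← map_mul, sqV x hx, map_one]
    refine ⟨aC.1, fun b hb => ?_⟩
    have kD : ⁅b, a⁆ ∈ D := hD ▸ mem_inf.2 ⟨by
      rw [show ⁅b, a⁆ = b * (a * b⁻¹ * a⁻¹) by rw [commutatorElement_def]; group]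
      exact mul_mem (Q2 hb) (conj_mem (norm_le_norm_cent _ (P1 aP)) (inv_mem (Q2 hb))),
      mul_mem (conj_mem (norm_le_norm_cent _ (Q1 hb)) (P2 aP)) (inv_mem (P2 aP))⟩
    have h1 := aC.2 _ kD
    rw [show ⁅⁅b, a⁆, a⁆ = ⁅b, a⁆ * (a * a) * b * a⁻¹ * b⁻¹ * a⁻¹ by simp only [commutatorElement_def]; group, a2,
      inv_eq_of_sq a2, mul_one, show ⁅b, a⁆ * b * a * b⁻¹ * a = ⁅b, a⁆ * (b * a * b⁻¹ * a) by group] at h1
    obtain ⟨k, ⟨k, rfl⟩, hk⟩ := (fp _ kD).2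
    rw [pow_succ, pow_mul, pow_two] at hk
    refine (mul_mem_cancel_left (pow_mem ?_ k)).1 hk
    rwa [commutatorElement_def, inv_eq_of_sq a2] at h1 ⊢
  intro h hh x hx y hy xV yV
  refine fin (JP.trans P2) ((cj_mono t JP).trans Q2) ZQ (JP.trans P3) ((cj_mono t JP).trans Q3) Z2'
    ((commutator_comm _ _).le.trans ((commutator_mono (cj_mono t JP) le_rfl).trans (commutator_le_of_le_cmod JC)))
    (fun e he => (fp e (hD ▸ he)).2) (le_cc ⟨hx, xV⟩) (conj_mem_cj t (le_cc ⟨hx, xV⟩))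
    (commutator_mono ?_ ?_ (c.J_perf (c.V_J xV))) (t_conj (c.t_cen h (o.H_A hh)) y ▸
      conj_mem_cj t (cj_le_cc hh (conj_mem_cj h ⟨hy, yV⟩)))
  all_goals
    refine c.genJ.trans (cc_le fun k hk => ?_)
    rintro _ ⟨v, hv, rfl⟩
    obtain ⟨x, hx, rfl⟩ := g.exists_lo o.V_M hv
    have m := cj_le_cc hk (conj_mem_cj k hx)
    show k * dg t x * k⁻¹ ∈ _
    exact dg_conj (c.t_cen k (o.H_A hk)) x ▸ mul_mem_sup m (conj_mem_cj t m)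

end CL.SJ
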