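/-
Project SJ4, step H1: the Sylow 2-subgroup `T₁ × T₂` of the normal simple subgroup.
-/
import Cfsg.Agent.SJ4.Basic
import Cfsg.Agent.Transfer.Control

set_option autoImplicit false
set_option linter.unusedSectionVars false
open Cfsg Subgroup CL.Even CL.Grp CL.Wr CL.Wr.P5a
open scoped commutatorElement

namespace CL.SJ

universe u

namespace SH1

variable {G : Type*} [Group G] [Finite G] {d : Dat G} {t w : G} {L X : Subgroup G}

/-- A 2-subgroup of `C(t)` and its projection to `A`. -/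
theorem proj (l : Loc d t) {P : Subgroup G} (hP : IsPGroup 2 P) (h : P ≤ centralizer {t}) :
    ∃ P' ≤ d.A, IsPGroup 2 P' ∧ Nat.card P ≤ 2 * Nat.card P' ∧ ((∀ x ∈ P, x * x = 1) → ∀ x ∈ P', x * x = 1) := by
  obtain ⟨ρ, mul, mem, -, -, ker⟩ := exists_proj (fun a ha h => l.toOk.cenA ha h) l.dec
  have EN : P ≤ 𝒩(d.A) := h.trans l.cen_le
  have h4 : Nat.card ↥(P ⊓ mul.pre ⊥) ≤ 2 := by
    have := Fact.mk Nat.prime_two
    obtain ⟨k, hk⟩ := (hP.to_le (inf_le_left : P ⊓ mul.pre ⊥ ≤ P)).exists_card_eq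
    have := card_dvd_of_le (K := 𝒞(d.A)) fun u (hu : u ∈ P ⊓ mul.pre ⊥) =>
      (ker u (EN hu.1)).1 (mul.mem_pre.1 hu.2).2
    rw [hk] at this ⊢
    exact Nat.pow_le_pow_right (n := 2) (by norm_num)
      (Nat.lt_succ_iff.1 (not_le.1 fun a => l.four ((pow_dvd_pow 2 a).trans this)) : k ≤ 1)
  refine ⟨mul.img P, mul.img_le fun u _ => mem u, mul.isP_img hP, ?_, fun h2 α a => ?_⟩
  · rw [mul.card_img EN, mul_comm]
    exact Nat.mul_le_mul_right _ h4
  · obtain ⟨u, hu, b, rfl⟩ := mul.mem_img.1 a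
    exact mul.sq b (h2 u hu)

variable (g : Glb d t L X w)
include g

theorem sq_mul {a b : G} (ha : a ∈ L) (hb : b ∈ L) :
    a * (t * b * t⁻¹) * (a * (t * b * t⁻¹)) = a * a * (t * (b * b) * t⁻¹) := by
  rw [mul_assoc, ← mul_assoc _ a, ← (g.cm a ha b hb).eq]; group

theorem W_sq : ∀ x ∈ g.toDg.dub d.V, x * x = 1 := fun x hx => by
  obtain ⟨a, ha, b, hb, rfl⟩ := g.toDg.mem_dub.1 hx
  rw [sq_mul g ha.1 hb.1, g.toDg.sq_of ha.1 (g.V_sq _ ha.2), g.toDg.sq_of hb.1 (g.V_sq _ hb.2)]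
  group

theorem into_lo {a : G} (ha : a ∈ L) (h : a * a = 1) : ∃ x ∈ L, x * a * x⁻¹ ∈ g.toDg.lo d.V := by
  obtain ⟨α, hα, h1⟩ := g.toOk.conj_into_V (g.mem a ha) (g.toDg.mulOn.sq ha h)
  obtain ⟨x, hx, rfl⟩ := g.surj α hα
  exact ⟨x, hx, mul_mem (mul_mem hx ha) (inv_mem hx), by rwa [g.toDg.mulOn.conj hx ha]⟩

/-- `t` is not conjugate into `L Lᵗ`. -/
theorem not_conj {a b : G} (ha : a ∈ L) (hb : b ∈ L) (c : G) : c * t * c⁻¹ ≠ a * (t * b * t⁻¹) := fun e => by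
  have o := g.toOk
  have hZ : ∀ a ∈ d.A, a ∈ 𝒞(d.A) → a = 1 := fun a ha h => o.cenA ha h
  have h1 : a * a * (t * (b * b) * t⁻¹) = 1 := by
    rw [← sq_mul g ha hb, ← e, conj_mul, g.t_sq, mul_one, mul_inv_cancel]
  have h2 : a * a = 1 := g.toDg.disj hZ (mul_mem ha ha) (by
    rw [eq_inv_of_mul_eq_one_left h1]; exact inv_mem (conj_mem_cj t (mul_mem hb hb)))
  rw [h2, one_mul, conj_eq_one_iff] at h1
  obtain ⟨x, hx, h3⟩ := into_lo g ha h2
  obtain ⟨y, hy, h4⟩ := into_lo g hb h1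
  have h5 : x * (t * y * t⁻¹) * c * t * (x * (t * y * t⁻¹) * c)⁻¹ ∈ g.toDg.dub d.V :=
    g.toDg.mem_dub.2 ⟨_, h3, _, h4, by
      have c1 := (g.cm a ha y hy).eq
      have c2 := (g.cm x⁻¹ (inv_mem hx) (y * b * y⁻¹) (mul_mem (mul_mem hy hb) (inv_mem hy))).eq
      calc _ = x * (t * y * t⁻¹) * (c * t * c⁻¹) * (t * y * t⁻¹)⁻¹ * x⁻¹ := by group
        _ = x * (t * y * t⁻¹ * a) * (t * b * t⁻¹) * (t * y * t⁻¹)⁻¹ * x⁻¹ := by rw [e]; group
        _ = x * a * (t * (y * b * y⁻¹) * t⁻¹ * x⁻¹) := by rw [← c1]; group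
        _ = _ := by rw [← c2]; group⟩
  generalize x * (t * y * t⁻¹) * c = k at h5
  have h6 : ∀ u ∈ cj k⁻¹ (g.toDg.dub d.V), ∃ v ∈ g.toDg.dub d.V, u = k⁻¹ * v * k := fun u hu =>
    ⟨_, mem_cj.1 hu, by group⟩
  have h7 : ∀ u ∈ cj k⁻¹ (g.toDg.dub d.V), u * u = 1 := fun u hu => by
    obtain ⟨v, hv, rfl⟩ := h6 u hu
    rw [show k⁻¹ * v * k * (k⁻¹ * v * k) = k⁻¹ * (v * v) * k by group, W_sq g v hv, mul_one, inv_mul_cancel]
  obtain ⟨P, hP, -, h8, h9⟩ := proj g.toLoc (isP_of_sq h7) fun u hu => mem_cent1.2 (by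
    obtain ⟨v, hv, rfl⟩ := h6 u hu
    calc k⁻¹ * v * k * t = k⁻¹ * (v * (k * t * k⁻¹)) * k := by group
      _ = _ := by rw [comm_of_sq (W_sq g) hv h5]; group)
  have := o.card_ea hP (h9 h7)
  rw [card_cj, g.toDg.card_dub hZ o.V_A, o.card_V] at h8
  omega

theorem not_conj_R (c : G) : c * t * c⁻¹ ∉ g.toDg.dub d.T := fun h => by
  obtain ⟨a, ha, b, hb, e⟩ := g.toDg.mem_dub.1 h
  exact not_conj g ha.1 hb.1 c e

theorem isP_R : IsPGroup 2 (g.toDg.dub d.T) := by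
  have := Fact.mk Nat.prime_two
  obtain ⟨k, hk⟩ := g.syl.isPGroup.exists_card_eq
  exact IsPGroup.of_card (n := k + k) (by
    rw [g.toDg.card_dub (fun a ha h => g.toOk.cenA ha h) g.toOk.T_A, hk, pow_add])

theorem syl_S : IsSylowIn 2 (g.toDg.dub d.T ⊔ zpowers t) ⊤ := by
  have := Fact.mk Nat.prime_two
  have o := g.toOk
  have tN := g.toDg.t_norm_dub (R := d.T) g.t_sq
  have tP : IsPGroup 2 (zpowers t) := isPGroup_zpowers (k := 1) (by rw [pow_one, pow_two, g.t_sq])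
  refine isSylowIn_of_maximal le_top (isPGroup_sup' (isP_R g) tP (zpowers_le.2 tN)) fun U hU hS _ => ?_
  by_contra hne
  obtain ⟨c, ⟨cU, cN⟩, hc⟩ := SetLike.exists_of_lt (lt_inf_normalizer_of_isPGroup hU (hS.lt_of_ne' hne))
  obtain ⟨a, ha, b, hb, e⟩ := g.toDg.mem_dub.1 (((mem_sup_inv g.t_sq tN).1
    (conj_mem cN (mem_sup_right (mem_zpowers t)))).resolve_left (not_conj_R g c))
  have ti := inv_eq_of_sq g.t_sq
  have e1 : c * t * c⁻¹ = a * t * b := by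
    rw [ti, ← mul_assoc] at e
    rw [mul_right_cancel e, mul_assoc]
  have e2 : (b * a)⁻¹ = t * (b * a) * t⁻¹ := by
    have h1 : a * t * b * (a * t * b) = 1 := by rw [← e1, conj_mul, g.t_sq, mul_one, mul_inv_cancel]
    rw [ti]
    calc (b * a)⁻¹ = a⁻¹ * (a * t * b * (a * t * b)) * b⁻¹ := by rw [h1]; group
      _ = _ := by group
  have e3 : b = a⁻¹ := eq_inv_of_mul_eq_one_left (inv_eq_one.1 (g.toDg.disj (fun a ha h => o.cenA ha h)
    (inv_mem (mul_mem hb.1 ha.1)) (e2 ▸ conj_mem_cj t (mul_mem hb.1 ha.1))))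
  have aS : a ∈ g.toDg.dub d.T ⊔ zpowers t := mem_sup_left (mem_sup_left ha)
  have h2 : a⁻¹ * c ∈ U ⊓ centralizer {t} := ⟨U.mul_mem (U.inv_mem (hS aS)) cU, mem_cent1.2 (by
    calc a⁻¹ * c * t = a⁻¹ * (c * t * c⁻¹) * c := by group
      _ = _ := by rw [e1, e3]; group)⟩
  have TS : d.T ⊔ zpowers t ≤ g.toDg.dub d.T ⊔ zpowers t := sup_le_sup_right (g.toDg.le_dub o.T_A) _
  obtain ⟨P, hP, h3, h4, -⟩ := proj g.toLoc (hU.to_le (inf_le_left : U ⊓ centralizer {t} ≤ U)) inf_le_right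
  have h5 := g.syl.card_le h3 hP
  have h6 : d.T ⊔ zpowers t = U ⊓ centralizer {t} := eq_of_le_of_card_ge
    (le_inf (TS.trans hS) (sup_le (fun x hx => mem_cent1.2 (comm_of_mem g.t_mem (o.T_A hx)))
      (zpowers_le.2 (mem_cent1.2 rfl)))) (by
      rw [card_sup_inv g.t_sq (cent_le_norm _ (cent_mono o.T_A g.t_mem)) fun a => g.noL 1 (by simpa using o.T_A a)]
      omega)
  exact hc ((mul_mem_cancel_left (inv_mem aS)).1 (TS (h6 ▸ h2)))

end SH1

open SH1 in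
theorem h1 : H1.{u} := by
  intro G _ _ d t L X w g
  have := Fact.mk Nat.prime_two
  have := g.normal
  have o := g.toOk
  have tN := g.toDg.t_norm_dub (R := d.T) g.t_sq
  have RX : g.toDg.dub d.T ≤ X := fun x hx => by
    obtain ⟨a, ha, b, hb, rfl⟩ := g.toDg.mem_dub.1 hx
    exact mul_mem (g.L_le ha.1) (g.normal.conj_mem _ (g.L_le hb.1) t)
  have hS := (syl_S g).inf_of_normalized (N := X) le_top (normalizer_eq_top (H := X)).ge
  by_cases ht : t ∈ X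
  · have SX : g.toDg.dub d.T ⊔ zpowers t ≤ X := sup_le RX (zpowers_le.2 ht)
    have hc := card_sup_inv g.t_sq tN (by simpa using not_conj_R g 1)
    rw [inf_eq_left.2 SX] at hS
    obtain ⟨N, hN, h2, -⟩ := CL.Transfer.thompson_transfer ((g.toDg.dub d.T ⊔ zpowers t).subgroupOf X)
      ((g.toDg.dub d.T).subgroupOf X) (Nat.not_even_iff_odd.1 fun h => hS.not_dvd h.two_dvd) (by
        rw [relIndex_subgroupOf SX]
        refine Nat.eq_of_mul_eq_mul_left (Nat.card_pos (α := g.toDg.dub d.T)) ?_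
        rw [mul_comm _ 2, ← hc, ← Nat.card_congr (subgroupOfEquivOfLe le_sup_left).toEquiv, relIndex, card_mul_index])
      ⟨t, ht⟩ (Subtype.ext (by simpa [pow_two] using g.t_sq)) fun c => not_conj_R g c
    have := g.X_simple
    rcases hN.eq_bot_or_eq_top with rfl | rfl
    · have h3 := card_le_of_le SX
      have h4 := card_le_of_le o.V_T
      rw [index_bot] at h2
      rw [h2, hc, g.toDg.card_dub (fun a ha h => o.cenA ha h) o.T_A] at h3
      rw [o.card_V] at h4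
      nlinarith
    · simp at h2
  · rwa [show (g.toDg.dub d.T ⊔ zpowers t) ⊓ X = g.toDg.dub d.T from le_antisymm
      (fun x hx => ((mem_sup_inv g.t_sq tN).1 hx.1).resolve_right fun h => ht ((mul_mem_cancel_left hx.2).1 (RX h)))
      (le_inf le_sup_left RX)] at hS

end CL.SJ
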