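/-
Project SJ4, job H2: the orbit of the first component `w` of `z` under `N(W)`.
-/
import Cfsg.Agent.SJ4.Basic

set_option autoImplicit false
set_option linter.unusedSectionVars false
open Cfsg Subgroup CL.Even CL.Grp CL.Wr CL.Wr.P5a
open scoped commutatorElement

namespace CL.SJ

universe u

namespace H2a

variable {G : Type*} [Group G] [Finite G] {d : Dat G} {t w : G} {L X : Subgroup G}

/-- The orbit under conjugation. -/
def orb (N : Subgroup G) (y : G) : Set G := {u | ∃ x ∈ N, x * y * x⁻¹ = u}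

theorem ncard_orb (N : Subgroup G) (y : G) : (orb N y).ncard = (centralizer ({y} : Set G)).relIndex N := by
  let _ : MulAction N G := MulAction.compHom G (MulAut.conj.comp N.subtype)
  have h1 : MulAction.orbit N y = orb N y := Set.ext fun t =>
    ⟨fun ⟨x, hx⟩ => ⟨x, x.2, hx⟩, fun ⟨x, hx, h⟩ => ⟨⟨x, hx⟩, h⟩⟩
  have h2 : MulAction.stabilizer N y = (centralizer ({y} : Set G)).subgroupOf N := Subgroup.ext fun x => by
    rw [mem_subgroupOf, mem_cent1]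
    exact mul_inv_eq_iff_eq_mul
  rw [← h1, ← MulAction.index_stabilizer, h2]; rfl

theorem orb_conj {N : Subgroup G} {y u n : G} (hn : n ∈ N) (h : u ∈ orb N y) : n * u * n⁻¹ ∈ orb N y := by
  obtain ⟨x, hx, rfl⟩ := h
  exact ⟨n * x, mul_mem hn hx, by group⟩

variable (g : Glb d t L X w)
include g

theorem tt (x : G) : t * (t * x * t⁻¹) * t⁻¹ = x := by
  calc _ = t * t * x * (t * t)⁻¹ := by group
    _ = x := by rw [g.t_sq]; group

theorem dis {x y : G} (hx : x ∈ L) (hy : y ∈ L) (e : x = t * y * t⁻¹) : x = 1 :=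
  g.toDg.disj (fun _ ha => g.toOk.cenA ha) hx (e ▸ conj_mem_cj t hy)

theorem uniq {a b a' b' : G} (ha : a ∈ L) (hb : b ∈ L) (ha' : a' ∈ L) (hb' : b' ∈ L)
    (e : a * (t * b * t⁻¹) = a' * (t * b' * t⁻¹)) : a = a' ∧ b = b' := by
  have e1 : a'⁻¹ * a = t * (b' * b⁻¹) * t⁻¹ := by
    calc a'⁻¹ * a = a'⁻¹ * (a * (t * b * t⁻¹)) * (t * b * t⁻¹)⁻¹ := by group
      _ = _ := by rw [e]; group
  have e2 := dis g (mul_mem (inv_mem ha') ha) (mul_mem hb' (inv_mem hb)) e1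
  exact ⟨(inv_mul_eq_one.1 e2).symm, (mul_inv_eq_one.1 (conj_eq_one_iff.1 (e1.symm.trans e2))).symm⟩

theorem swap {a b : G} (ha : a ∈ L) (hb : b ∈ L) : t * (a * (t * b * t⁻¹)) * t⁻¹ = b * (t * a * t⁻¹) := by
  rw [← conj_mul, tt g, (g.cm b hb a ha).eq]

theorem w_ne : w ≠ 1 := fun e => g.z_ne (by rw [← g.w_dg, e, dg_one])
theorem w_lo : w ∈ g.toDg.lo d.V := ⟨g.w_mem, g.w_dg ▸ g.z_V⟩
theorem w_sq : w * w = 1 := g.toDg.sq_of g.w_mem (by rw [g.w_dg, g.toOk.z_sq])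
theorem z_eq : d.z = w * (t * w * t⁻¹) := g.w_dg.symm
theorem tX {x : G} (hx : x ∈ X) : t * x * t⁻¹ ∈ X := g.normal.conj_mem x hx t

theorem z2 {x : G} (hx : x ∈ L) (h : Z2 d.z (dg t x)) : Z2 w x :=
  h.imp (g.inj x hx) fun e => g.toDg.eq_of hx g.w_mem (e.trans g.w_dg.symm)

theorem comm_l {a b c : G} (ha : a ∈ L) (hb : b ∈ L) (hc : c ∈ L) : ⁅a * (t * b * t⁻¹), c⁆ = ⁅a, c⁆ := by
  have := (g.cm c hc b hb).eq
  calc _ = a * (t * b * t⁻¹ * c) * (t * b * t⁻¹)⁻¹ * a⁻¹ * c⁻¹ := by rw [commutatorElement_def]; group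
    _ = _ := by rw [← this, commutatorElement_def]; group

theorem lo_dub {R : Subgroup G} {a : G} (ha : a ∈ g.toDg.lo R) : a ∈ g.toDg.dub R := mem_sup_left ha

theorem t_dub {R : Subgroup G} {a : G} (ha : a ∈ g.toDg.dub R) : t * a * t⁻¹ ∈ g.toDg.dub R :=
  conj_mem (g.toDg.t_norm_dub g.t_sq) ha

/-- commutation with `R` -/
theorem cen_dub {R : Subgroup G} {y : G} (h1 : ∀ c ∈ g.toDg.lo R, Commute c y)
    (h2 : ∀ c ∈ g.toDg.lo R, Commute c (t * y * t⁻¹)) : ∀ r ∈ g.toDg.dub R, Commute r y := fun r hr => by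
  obtain ⟨a, ha, b, hb, rfl⟩ := g.toDg.mem_dub.1 hr
  exact (h1 a ha).mul_left (by simpa only [tt g] using (h2 b hb).conj t)

theorem w_cen : ∀ r ∈ g.toDg.dub d.T, Commute r w :=
  cen_dub g (fun c hc => g.toDg.comm_of hc.1 g.w_mem (g.w_dg ▸ g.toOk.H_z (g.T_H hc.2)))
    fun c hc => g.cm c hc.1 w g.w_mem

theorem cen_t {R : Subgroup G} {y : G} (h : ∀ r ∈ g.toDg.dub R, Commute r y) :
    ∀ r ∈ g.toDg.dub R, Commute r (t * y * t⁻¹) := fun r hr => by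
  simpa only [tt g] using (h _ (t_dub g hr)).conj t

theorem cenT {a b : G} (ha : a ∈ L) (hb : b ∈ L) (h : ∀ r ∈ g.toDg.dub d.T, Commute r (a * (t * b * t⁻¹))) :
    Z2 w a := z2 g ha (g.cenQ _ (g.mem a ha) fun q hq => by
  obtain ⟨c, hc, rfl⟩ := g.toDg.exists_lo g.toOk.T_A (g.Q_T hq)
  refine g.toDg.mulOn.mul_comm ha hc.1 (commutatorElement_eq_one_iff_mul_comm.1 ?_)
  rw [← comm_l g ha hb hc.1, commutatorElement_eq_one_iff_mul_comm, (h c (lo_dub g hc)).eq])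

/-- the centre of `R` -/
theorem zc {u : G} (hu : u ∈ g.toDg.dub d.T) (h : ∀ r ∈ g.toDg.dub d.T, Commute r u) :
    u = 1 ∨ u = w ∨ u = t * w * t⁻¹ ∨ u = d.z := by
  obtain ⟨a, ha, b, hb, rfl⟩ := g.toDg.mem_dub.1 hu
  have h2 := cenT g hb.1 ha.1 (swap g ha.1 hb.1 ▸ cen_t g h)
  rcases cenT g ha.1 hb.1 h with e | e <;> rcases h2 with e' | e' <;> rw [e, e'] <;> simp [z_eq g]

theorem nz {n : G} (hn : n ∈ 𝒩(g.toDg.dub d.T)) : n * w * n⁻¹ ≠ d.z := fun e => by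
  obtain ⟨x0, hx0, n0, h0⟩ := g.z2
  obtain ⟨x, hx, rfl⟩ := g.toDg.exists_lo g.toOk.T_A hx0
  have k1 : ∀ r ∈ g.toDg.dub d.T, Z2 w ⁅r, x⁆ := fun r hr => by
    obtain ⟨a, ha, b, hb, rfl⟩ := g.toDg.mem_dub.1 hr
    rw [comm_l g ha.1 hb.1 hx.1]
    refine z2 g (commutator_le_of_le_norm (le_norm_of_le le_rfl) (commutator_mem_commutator ha.1 hx.1)) ?_
    rw [g.cm.comm ha.1 hx.1, ← commutatorElement_inv]
    rcases h0 _ ha.2 with e | e <;> rw [e]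
    exacts [.inl inv_one, .inr (inv_eq_of_sq g.toOk.z_sq)]
  have k2 : ∀ r ∈ g.toDg.dub d.T, Z2 d.z ⁅r, n * x * n⁻¹⁆ := fun r hr => by
    rw [show ⁅r, n * x * n⁻¹⁆ = n * ⁅n⁻¹ * r * n, x⁆ * n⁻¹ by simp only [commutatorElement_def]; group]
    rcases k1 _ (conj_mem' hn hr) with e' | e' <;> rw [e']
    exacts [.inl (by simp), .inr e]
  have k3 : ∀ y ∈ g.toDg.dub d.T, (∀ r ∈ g.toDg.dub d.T, Z2 d.z ⁅r, y⁆) → ∀ c ∈ g.toDg.lo d.T, Commute c y :=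
    fun y hy h c hc => by
      obtain ⟨a, ha, b, hb, rfl⟩ := g.toDg.mem_dub.1 hy
      refine commutatorElement_eq_one_iff_commute.1 ((h c (lo_dub g hc)).resolve_right fun e => w_ne g ?_)
      rw [← commutatorElement_inv, comm_l g ha.1 hb.1 hc.1, z_eq g] at e
      have m := inv_mem (commutator_le_of_le_norm (le_norm_of_le le_rfl) (commutator_mem_commutator ha.1 hc.1))
      exact (uniq g m (one_mem _) g.w_mem g.w_mem (by simpa using e)).2.symm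
  have hy := conj_mem hn (lo_dub g hx)
  have k4 := cen_dub g (k3 _ hy k2) (k3 _ (t_dub g hy) fun r hr => by
    have zt : t * d.z * t⁻¹ = d.z := by rw [← comm_of_mem g.t_mem g.toOk.z_A, mul_inv_cancel_right]
    rw [← tt g r, ← conjugate_commutatorElement]
    rcases k2 _ (t_dub g hr) with e' | e' <;> rw [e']
    exacts [.inl (by simp), .inr zt])
  refine n0 (g.cenQ _ (g.mem x hx.1) fun q hq => ?_)
  obtain ⟨c, hc, rfl⟩ := g.toDg.exists_lo g.toOk.T_A (g.Q_T hq)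
  refine g.toDg.mulOn.mul_comm hx.1 hc.1 ?_
  simpa [mul_assoc] using ((k4 _ (conj_mem hn (lo_dub g hc))).conj n⁻¹).symm.eq

theorem w_ne2 : w ≠ t * w * t⁻¹ := fun e => w_ne g (dis g g.w_mem g.w_mem e)

/-- `w` is not conjugate to its second component -/
theorem nc (hS : IsSylowIn 2 (g.toDg.dub d.T) X) {n : G} (hn : n ∈ X) : n * w * n⁻¹ ≠ t * w * t⁻¹ := fun e => by
  have := Fact.mk Nat.prime_two
  have wR : w ∈ g.toDg.dub d.T := lo_dub g (g.toDg.lo_mono g.V_T (w_lo g))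
  have s1 : IsSylowIn 2 (g.toDg.dub d.T) (X ⊓ centralizer {t * w * t⁻¹}) :=
    hS.of_le (le_inf hS.le fun r hr => mem_cent1.2 (cen_t g (w_cen g) r hr)) inf_le_left
  have s2 : IsSylowIn 2 (cj n (g.toDg.dub d.T)) (X ⊓ centralizer {t * w * t⁻¹}) :=
    (syl_cj_of_mem_norm hS (le_normalizer hn)).of_le (le_inf (cj_le_of_mem hS.le hn) (by
      rintro _ ⟨r, hr, rfl⟩
      exact mem_cent1.2 (e ▸ ((w_cen g r hr).conj n).eq))) inf_le_left
  obtain ⟨m, hm, e1⟩ := syl_conj s2 s1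
  have h1 : t * w * t⁻¹ ∈ orb (X ⊓ 𝒩(g.toDg.dub d.T)) w :=
    ⟨m * n, ⟨mul_mem hm.1 hn, cj_eq_iff_mem.1 (by rw [cj_mul, e1])⟩, by
      rw [show m * n * w * (m * n)⁻¹ = m * (n * w * n⁻¹) * m⁻¹ by group, e, mem_cent1.1 hm.2, mul_inv_cancel_right]⟩
  have h2 : orb (X ⊓ 𝒩(g.toDg.dub d.T)) w = {w, t * w * t⁻¹} := by
    refine Set.Subset.antisymm ?_ (Set.pair_subset ⟨1, one_mem _, by simp⟩ h1)
    rintro _ ⟨k, hk, rfl⟩
    rcases zc g (conj_mem hk.2 wR) (fun r hr => by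
      simpa [mul_assoc] using (w_cen g _ (conj_mem' hk.2 hr)).conj k) with e | e | e | e
    exacts [absurd (conj_eq_one_iff.1 e) (w_ne g), .inl e, .inr e, absurd e (nz g hk.2)]
  have h3 := ncard_orb (X ⊓ 𝒩(g.toDg.dub d.T)) w
  rw [h2, Set.ncard_pair (w_ne2 g)] at h3
  have s3 := hS.of_le (le_inf hS.le le_normalizer) (inf_le_left (b := 𝒩(g.toDg.dub d.T)))
  exact s3.not_dvd_relIndex_of_le (le_inf (fun r hr => mem_cent1.2 (w_cen g r hr)) s3.le) inf_le_right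
    (by rw [inf_relIndex_right, ← h3])

/-- membership in the orbit -/
def P (a b : G) : Prop := a * (t * b * t⁻¹) ∈ orb (X ⊓ 𝒩(g.toDg.dub d.V)) w

theorem asym (hS : IsSylowIn 2 (g.toDg.dub d.T) X) {a b : G} (ha : a ∈ L) (hb : b ∈ L) (h1 : P g a b) :
    ¬ P g b a := by
  rintro ⟨m, hm, e2⟩
  obtain ⟨n, hn, e1⟩ := h1
  refine nc g hS (n := (t * n * t⁻¹)⁻¹ * m) (mul_mem (inv_mem (tX g hn.1)) hm.1) ?_
  rw [← swap g ha hb, ← e1] at e2
  calc _ = (t * n * t⁻¹)⁻¹ * (m * w * m⁻¹) * (t * n * t⁻¹) := by group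
    _ = _ := by rw [e2]; group

theorem lo_conj {m a : G} (hm : m ∈ g.toDg.lo d.M) (ha : a ∈ g.toDg.lo d.V) : m * a * m⁻¹ ∈ g.toDg.lo d.V :=
  ⟨mul_mem (mul_mem hm.1 ha.1) (inv_mem hm.1), by
    rw [g.toDg.mulOn.conj hm.1 ha.1]; exact g.toOk.conj_V hm.2 ha.2⟩

theorem conj_l {m b : G} (hm : m ∈ L) (hb : b ∈ L) (a : G) :
    m * (a * (t * b * t⁻¹)) * m⁻¹ = m * a * m⁻¹ * (t * b * t⁻¹) := by
  rw [← conj_mul, (g.cm m hm b hb).eq, mul_inv_cancel_right]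

theorem lo_N {m : G} (hm : m ∈ g.toDg.lo d.M) : m ∈ X ⊓ 𝒩(g.toDg.dub d.V) :=
  ⟨g.L_le hm.1, mem_norm_of fun x hx => by
    obtain ⟨a, ha, b, hb, rfl⟩ := g.toDg.mem_dub.1 hx
    exact g.toDg.mem_dub.2 ⟨_, lo_conj g hm ha, b, hb, conj_l g hm.1 hb.1 a⟩⟩

theorem P_conj {m k a b : G} (hm : m ∈ g.toDg.lo d.M) (hk : k ∈ g.toDg.lo d.M) (ha : a ∈ L) (hb : b ∈ L)
    (h : P g a b) : P g (m * a * m⁻¹) (k * b * k⁻¹) := by
  have tn := g.toDg.t_norm_dub (R := d.V) g.t_sq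
  have h1 := orb_conj (lo_N g hm) (orb_conj (n := t * k * t⁻¹)
    (mem_inf.2 ⟨tX g (lo_N g hk).1, mul_mem (mul_mem tn (mem_inf.1 (lo_N g hk)).2) (inv_mem tn)⟩) h)
  rwa [← conj_mul (b := t * k * t⁻¹), ← (g.cm a ha k hk.1).eq, mul_inv_cancel_right, show t * k * t⁻¹ * (t * b * t⁻¹) *
    (t * k * t⁻¹)⁻¹ = t * (k * b * k⁻¹) * t⁻¹ by group, conj_l g hm.1 (mul_mem (mul_mem hk.1 hb) (inv_mem hk.1))] at h1

theorem P_iff {m k a b : G} (hm : m ∈ g.toDg.lo d.M) (hk : k ∈ g.toDg.lo d.M) (ha : a ∈ L) (hb : b ∈ L) :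
    P g (m * a * m⁻¹) (k * b * k⁻¹) ↔ P g a b :=
  ⟨fun h => by
    simpa [mul_assoc] using P_conj g (inv_mem hm) (inv_mem hk) (mul_mem (mul_mem hm.1 ha) (inv_mem hm.1))
      (mul_mem (mul_mem hk.1 hb) (inv_mem hk.1)) h, P_conj g hm hk ha hb⟩

theorem lift {a e m : G} (ha : a ∈ L) (he : e ∈ L) (hm : m ∈ d.M) (h : dg t a = m * dg t e * m⁻¹) :
    ∃ k ∈ g.toDg.lo d.M, a = k * e * k⁻¹ := by
  obtain ⟨k, hk, rfl⟩ := g.toDg.exists_lo g.toOk.M_A hm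
  exact ⟨k, hk, g.toDg.eq_of ha (mul_mem (mul_mem hk.1 he) (inv_mem hk.1)) (by rw [h, g.toDg.mulOn.conj hk.1 he])⟩

theorem ty1 {a : G} (ha : a ∈ g.toDg.lo d.V) (h : d.cl (dg t a)) : ∃ k ∈ g.toDg.lo d.M, a = k * w * k⁻¹ := by
  obtain ⟨m, hm, e⟩ := g.toOk.fuse ha.2 h
  exact lift g ha.1 g.w_mem hm (g.w_dg ▸ e)

theorem ty2 {a f : G} (hf : f ∈ L) (ef : dg t f = d.f) (ha : a ∈ g.toDg.lo d.V) (h : dg t a ≠ 1 ∧ ¬ d.cl (dg t a)) :
    ∃ k ∈ g.toDg.lo d.M, a = k * f * k⁻¹ := by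
  obtain ⟨m, hm, e⟩ := g.toOk.fuse' ha.2 h.1 h.2
  exact lift g ha.1 hf hm (ef ▸ e)

theorem ncard_lo (p : G → Prop) :
    {a | a ∈ g.toDg.lo d.V ∧ p (dg t a)}.ncard = {v | v ∈ d.V ∧ p v}.ncard := by
  rw [← Set.InjOn.ncard_image (f := dg t) fun a ha b hb e => g.toDg.eq_of ha.1.1 hb.1.1 e]
  congr 1
  ext v
  refine ⟨?_, fun hv => ?_⟩
  · rintro ⟨a, ha, rfl⟩
    exact ⟨ha.1.2, ha.2⟩
  · obtain ⟨a, ha, rfl⟩ := g.toDg.exists_lo g.toOk.V_A hv.1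
    exact ⟨a, ⟨ha, hv.2⟩, rfl⟩

theorem sum3 {f : G} (hf : f ∈ g.toDg.lo d.V) (ef : dg t f = d.f) (φ : G → ℕ)
    (h : ∀ k ∈ g.toDg.lo d.M, ∀ a ∈ L, φ (k * a * k⁻¹) = φ a) :
    ∑ a ∈ (Set.toFinite (g.toDg.lo d.V : Set G)).toFinset, φ a = φ 1 + 1771 * φ w + 276 * φ f := by
  classical
  have c : ∀ (p : G → Prop) [DecidablePred fun a => p (dg t a)],
      ((Set.toFinite (g.toDg.lo d.V : Set G)).toFinset.filter fun a => p (dg t a)).card =
      {v | v ∈ d.V ∧ p v}.ncard := fun p _ => by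
    rw [← ncard_lo g, ← Set.ncard_coe_finset]
    congr 1
    ext a
    simp
  rw [← Finset.sum_filter_add_sum_filter_not _ fun a => d.cl (dg t a),
    ← Finset.sum_filter_add_sum_filter_not (Finset.filter (fun a => ¬ d.cl (dg t a)) _) fun a => dg t a = 1, Finset.filter_filter,
    Finset.filter_filter, Finset.sum_const_nat (m := φ w), Finset.sum_const_nat (m := φ 1),
    Finset.sum_const_nat (m := φ f), c d.cl, c fun v => ¬ d.cl v ∧ v = 1, c fun v => ¬ d.cl v ∧ ¬ v = 1, g.card_cl,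
    show {v | v ∈ d.V ∧ ¬ d.cl v ∧ v = 1} = {1} from Set.ext fun v => ⟨fun hv => hv.2.2, fun hv => by
      rw [show v = 1 from hv]; exact ⟨one_mem _, fun e => g.toOk.cl_ne e rfl, rfl⟩⟩,
    show {v | v ∈ d.V ∧ ¬ d.cl v ∧ ¬ v = 1} = {v | v ∈ d.V ∧ v ≠ 1 ∧ ¬ d.cl v} from
      Set.ext fun v => and_congr_right' and_comm, g.card_ncl,
    Set.ncard_singleton]
  · omega
  all_goals
    intro a ha
    rw [Finset.mem_filter, Set.Finite.mem_toFinset] at ha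
  · obtain ⟨k, hk, rfl⟩ := ty2 g hf.1 ef ha.1 ha.2.symm
    exact h k hk f hf.1
  · rw [g.inj a ha.1.1 ha.2.2]
  · obtain ⟨k, hk, rfl⟩ := ty1 g ha.1 ha.2
    exact h k hk w g.w_mem

theorem orb_le {u : G} (h : u ∈ orb (X ⊓ 𝒩(g.toDg.dub d.V)) w) :
    ∃ a ∈ g.toDg.lo d.V, ∃ b ∈ g.toDg.lo d.V, u = a * (t * b * t⁻¹) := by
  obtain ⟨n, hn, rfl⟩ := h
  exact g.toDg.mem_dub.1 (conj_mem hn.2 (lo_dub g (w_lo g)))

open Classical in
theorem card_orb : (orb (X ⊓ 𝒩(g.toDg.dub d.V)) w).ncard =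
    ∑ a ∈ (Set.toFinite (g.toDg.lo d.V : Set G)).toFinset, ∑ b ∈ (Set.toFinite (g.toDg.lo d.V : Set G)).toFinset,
      if P g a b then 1 else 0 := by
  rw [← Finset.sum_product', ← Finset.card_filter, ← Set.ncard_coe_finset,
    ← Set.InjOn.ncard_image (f := fun x : G × G => x.1 * (t * x.2 * t⁻¹))]
  · congr 1
    ext u
    refine ⟨fun hu => ?_, ?_⟩
    · obtain ⟨a, ha, b, hb, rfl⟩ := orb_le g hu
      exact ⟨(a, b), by simpa using ⟨⟨ha, hb⟩, hu⟩, rfl⟩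
    · rintro ⟨x, hx, rfl⟩
      exact (Finset.mem_filter.1 hx).2
  · intro x hx y hy e
    simp only [Finset.coe_filter, Finset.mem_product, Set.Finite.mem_toFinset, Set.mem_ofPred_eq] at hx hy
    exact Prod.ext_iff.2 (uniq g hx.1.1.1 hx.1.2.1 hy.1.1.1 hy.1.2.1 e)

theorem mixed (hS : IsSylowIn 2 (g.toDg.dub d.T) X) {f : G} (hf : f ∈ g.toDg.lo d.V) (ef : dg t f = d.f) :
    ¬ P g w f ∧ ¬ P g f w := by
  classical
  have o1 := one_mem L
  have p1 : P g w 1 := ⟨1, one_mem _, by simp⟩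
  have n1 : ∀ a ∈ L, ¬ P g a a := fun a ha h => asym g hS ha ha h h
  have h1 := card_orb g
  have h2 : ∀ a ∈ L, (∑ b ∈ (Set.toFinite (g.toDg.lo d.V : Set G)).toFinset, if P g a b then 1 else 0) =
      (if P g a 1 then 1 else 0) + 1771 * (if P g a w then 1 else 0) + 276 * if P g a f then 1 else 0 := fun a ha =>
    sum3 g hf ef _ fun k hk b hb => by
      have := P_iff g (one_mem _) hk ha hb
      rw [one_mul, inv_one, mul_one] at this
      simp only [this]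
  rw [sum3 g hf ef _ fun k hk a ha => Finset.sum_congr rfl fun b hb => by
      have := P_iff g hk (one_mem _) ha ((Set.Finite.mem_toFinset _).1 hb).1
      rw [one_mul, inv_one, mul_one] at this
      simp only [this], h2 _ o1, h2 _ g.w_mem, h2 _ hf.1, if_neg (n1 _ o1), if_neg (n1 _ g.w_mem), if_neg (n1 _ hf.1),
    if_pos p1, if_neg (asym g hS g.w_mem o1 p1), ncard_orb] at h1
  have k : ∀ r, r.Prime → r ∣ (centralizer {w}).relIndex (X ⊓ 𝒩(g.toDg.dub d.V)) → ∃ n < 22, 2 ^ 22 % r = 2 ^ n % r :=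
    fun r hr h => prime_orbit inf_le_right (by
      rw [g.toDg.card_dub (fun _ ha => g.toOk.cenA ha) g.toOk.V_A, g.card_V]; norm_num) (lo_dub g (w_lo g)) hr h
  have k1 := mt (k 277 (by norm_num)) (by decide)
  have k2 := mt (k 21341 (by norm_num)) (by decide)
  have a1 := asym g hS g.w_mem hf.1
  have a2 := asym g hS o1 hf.1
  by_cases c1 : P g w f <;> by_cases c2 : P g f w <;> by_cases c3 : P g 1 f <;> by_cases c4 : P g f 1 <;>
    simp only [c1, c2, c3, c4, if_true, if_false, not_true, not_false_iff, imp_false, true_and, and_true,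
      and_self] at h1 a1 a2 ⊢ <;> omega

end H2a

open H2a in
theorem h2 : H2.{u} := by
  intro G _ _ d t L X w g hS n hn hn'
  obtain ⟨f, hf, ef⟩ := g.toDg.exists_lo g.toOk.V_A g.f_V
  have o1 := one_mem L
  have p1 : P g w 1 := ⟨1, one_mem _, by simp⟩
  have n1 : ∀ a ∈ L, ¬ P g a a := fun a ha h => asym g hS ha ha h h
  obtain ⟨m1, m2⟩ := mixed g hS hf ef
  have ty : ∀ a ∈ g.toDg.lo d.V, ∃ k ∈ g.toDg.lo d.M, a = k * 1 * k⁻¹ ∨ a = k * w * k⁻¹ ∨ a = k * f * k⁻¹ :=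
    fun a ha => by
      by_cases c : dg t a = 1
      · exact ⟨1, one_mem _, .inl (by simp [g.inj a ha.1 c])⟩
      by_cases c' : d.cl (dg t a)
      · exact (ty1 g ha c').imp fun k hk => ⟨hk.1, .inr (.inl hk.2)⟩
      · exact (ty2 g hf.1 ef ha ⟨c, c'⟩).imp fun k hk => ⟨hk.1, .inr (.inr hk.2)⟩
  have ax : ∀ a ∈ g.toDg.lo d.V, ∀ b ∈ g.toDg.lo d.V, P g a b → b = 1 ∨ a = 1 ∧ P g 1 f ∧
      ∃ k ∈ g.toDg.lo d.M, b = k * f * k⁻¹ := fun a ha b hb h => by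
    obtain ⟨k, hk, e⟩ := ty a ha
    obtain ⟨l, hl, rfl | rfl | rfl⟩ := ty b hb
    · exact .inl (by simp)
    · rcases e with rfl | rfl | rfl
      exacts [absurd ((P_iff g hk hl o1 g.w_mem).1 h) (asym g hS g.w_mem o1 p1),
        absurd ((P_iff g hk hl g.w_mem g.w_mem).1 h) (n1 _ g.w_mem), absurd ((P_iff g hk hl hf.1 g.w_mem).1 h) m2]
    · rcases e with rfl | rfl | rfl
      exacts [.inr ⟨by simp, (P_iff g hk hl o1 hf.1).1 h, l, hl, rfl⟩,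
        absurd ((P_iff g hk hl g.w_mem hf.1).1 h) m1, absurd ((P_iff g hk hl hf.1 hf.1).1 h) (n1 _ hf.1)]
  have n2 : ¬ P g 1 f := by
    rintro ⟨m, hm, e⟩
    rw [one_mul] at e
    have f1 : f ≠ 1 := fun e => g.f_ne (by rw [← ef, e, dg_one])
    have pa : ∀ a ∈ g.toDg.lo d.V, d.cl (dg t a) → m * a * m⁻¹ ∈ orb (X ⊓ 𝒩(g.toDg.dub d.V)) w := fun a ha c => by
      obtain ⟨k, hk, rfl⟩ := ty1 g ha c
      exact orb_conj hm ⟨k, lo_N g hk, rfl⟩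
    have sub : {a | a ∈ g.toDg.lo d.V ∧ d.cl (dg t a)} ⊆ (fun b => m⁻¹ * (t * b * t⁻¹) * m) ''
        {a | a ∈ g.toDg.lo d.V ∧ dg t a ≠ 1 ∧ ¬ d.cl (dg t a)} ∪ insert w ((fun b => w * b) ''
        {a | a ∈ g.toDg.lo d.V ∧ dg t a ≠ 1 ∧ ¬ d.cl (dg t a)}) := fun a ha => by
      have wa := mul_mem (w_lo g) ha.1
      have ww : w * (w * a) = a := by rw [← mul_assoc, w_sq g, one_mul]
      by_cases c : dg t (w * a) = 1
      · exact .inr (.inl (by rw [← ww, g.inj _ wa.1 c, mul_one]))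
      by_cases c' : d.cl (dg t (w * a))
      swap
      · exact .inr (.inr ⟨w * a, ⟨wa, c, c'⟩, ww⟩)
      have h1 := pa a ha.1 ha.2
      have h2 := pa _ wa c'
      obtain ⟨x, hx, y, hy, e1⟩ := orb_le g h1
      rw [← conj_mul, e, e1, ← mul_assoc, ← (g.cm x hx.1 f hf.1).eq, mul_assoc, conj_mul] at h2
      rcases ax x hx y hy (by rwa [P, ← e1]) with rfl | ⟨rfl, -, k, hk, rfl⟩
      · rcases ax x hx _ (mul_mem hf hy) h2 with e2 | ⟨rfl, -⟩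
        · exact absurd (by simpa using e2) f1
        · exact absurd (by rw [conj_eq_one_iff.1 (show m * a * m⁻¹ = 1 by simpa using e1), dg_one])
            (g.toOk.cl_ne ha.2)
      · refine .inl ⟨_, ⟨hy, ?_⟩, by rw [one_mul] at e1; simp only [← e1]; group⟩
        rw [g.toDg.mulOn.conj hk.1 hf.1, ef, Dat.cl_conj (g.toOk.M_A hk.2)]
        exact ⟨fun e => g.f_ne (conj_eq_one_iff.1 e), g.f_not⟩
    have c2 := (ncard_lo g fun v => v ≠ 1 ∧ ¬ d.cl v).trans g.card_ncl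
    have := ((Set.ncard_le_ncard sub).trans (Set.ncard_union_le _ _)).trans (add_le_add Set.ncard_image_le
      ((Set.ncard_insert_le _ _).trans (Nat.succ_le_succ Set.ncard_image_le)))
    rw [ncard_lo g d.cl, g.card_cl, c2] at this
    omega
  obtain ⟨a, ha, b, hb, e⟩ := orb_le g ⟨n, ⟨hn, hn'⟩, rfl⟩
  rcases ax a ha b hb ⟨n, ⟨hn, hn'⟩, e⟩ with rfl | h
  · rw [e]; simpa using ha.1
  · exact absurd h.2.1 n2

end CL.SJ
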