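/-
Project SJ4, step MAP: transport of the facts along an injective homomorphism.
-/
import Cfsg.Agent.SJ4.Basic

set_option autoImplicit false
set_option linter.unusedSectionVars false
set_option linter.unusedSimpArgs false
open Cfsg Subgroup CL.Even CL.Grp CL.Wr CL.Wr.P5a Function
open scoped commutatorElement

namespace CL.SJ

universe u

namespace MAP

variable {H : Type*} [Group H] {G : Type*} [Group G] {f : H →* G}

theorem fa (K : Subgroup H) (P : G → Prop) : (∀ y, y ∈ K.map f → P y) ↔ ∀ x, x ∈ K → P (f x) :=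
  ⟨fun h x hx => h _ ⟨x, hx, rfl⟩, by rintro h _ ⟨x, hx, rfl⟩; exact h x hx⟩

theorem ex (K : Subgroup H) (P : G → Prop) : (∃ y, y ∈ K.map f ∧ P y) ↔ ∃ x, x ∈ K ∧ P (f x) :=
  ⟨by rintro ⟨_, ⟨x, hx, rfl⟩, h⟩; exact ⟨x, hx, h⟩, fun ⟨x, hx, h⟩ => ⟨_, ⟨x, hx, rfl⟩, h⟩⟩

theorem st (K : Subgroup H) (P : G → Prop) : {y | y ∈ K.map f ∧ P y} = f '' {x | x ∈ K ∧ P (f x)} :=
  Set.ext fun _ => ⟨by rintro ⟨⟨x, hx, rfl⟩, h⟩; exact ⟨x, ⟨hx, h⟩, rfl⟩, by
    rintro ⟨x, ⟨hx, h⟩, rfl⟩; exact ⟨⟨x, hx, rfl⟩, h⟩⟩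

theorem fa_le (K : Subgroup H) (P : Subgroup G → Prop) (hf : Injective f) :
    (∀ V, V ≤ K.map f → P V) ↔ ∀ V, V ≤ K → P (V.map f) := by
  refine ⟨fun h V hV => h _ (map_mono hV), fun h V hV => ?_⟩
  have := h (V.comap f) (by rw [← comap_map_eq_self_of_injective hf K]; exact comap_mono hV)
  rwa [map_comap_eq_self (hV.trans (map_le_range f K))] at this

theorem cj_map (g : H) (A : Subgroup H) : cj (f g) (A.map f) = (cj g A).map f := by
  rw [map_map, map_map]; congr 1; ext x; simp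

variable (hf : Injective f)
include hf

theorem mem_norm_map (K : Subgroup H) (g : H) : f g ∈ 𝒩(K.map f) ↔ g ∈ 𝒩(K) := by
  rw [← mem_comap, comap_normalizer_eq_of_le_range (map_le_range f K), comap_map_eq_self_of_injective hf]

theorem inf_cent1_map (y : H) (N : Subgroup H) : N.map f ⊓ centralizer {f y} = (N ⊓ centralizer {y}).map f := by
  have h : ∀ x, f x ∈ centralizer {f y} ↔ x ∈ centralizer {y} := fun x => by
    simp only [mem_cent1, ← map_mul, hf.eq_iff]
  refine le_antisymm ?_ (map_le_iff_le_comap.2 fun x hx => ⟨⟨x, hx.1, rfl⟩, (h x).2 hx.2⟩)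
  rintro _ ⟨⟨x, hx, rfl⟩, h1⟩
  exact ⟨x, ⟨hx, (h x).1 h1⟩, rfl⟩

/-- The rules which remove an injective homomorphism. -/
theorem tr (d : Dat H) :
    ((d.map f).z = f d.z ∧ (d.map f).f = f d.f ∧ (d.map f).p = f d.p ∧ (d.map f).x₀ = f d.x₀ ∧ (d.map f).y₀ = f d.y₀ ∧
      (d.map f).A = d.A.map f ∧ (d.map f).H = d.H.map f ∧ (d.map f).J = d.J.map f ∧ (d.map f).Q = d.Q.map f ∧
      (d.map f).V = d.V.map f ∧ (d.map f).M = d.M.map f ∧ (d.map f).T = d.T.map f) ∧
    (∀ (K : Subgroup H) (P : G → Prop), (∀ y, y ∈ K.map f → P y) ↔ ∀ x, x ∈ K → P (f x)) ∧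
    (∀ (K : Subgroup H) (P : G → Prop), (∃ y, y ∈ K.map f ∧ P y) ↔ ∃ x, x ∈ K ∧ P (f x)) ∧
    (∀ (K : Subgroup H) (P : G → Prop), {y | y ∈ K.map f ∧ P y} = f '' {x | x ∈ K ∧ P (f x)}) ∧
    (∀ (g : H) (A : Subgroup H), cj (f g) (A.map f) = (cj g A).map f) ∧
    (∀ x y, f x * f y = f (x * y)) ∧ (∀ x, (f x)⁻¹ = f x⁻¹) ∧ (∀ x y, ⁅f x, f y⁆ = f ⁅x, y⁆) ∧
    (∀ x (n : ℕ), f x ^ n = f (x ^ n)) ∧
    (∀ x y, f x = f y ↔ x = y) ∧ (∀ x, f x = 1 ↔ x = 1) ∧ (∀ x (K : Subgroup H), f x ∈ K.map f ↔ x ∈ K) ∧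
    (∀ K N : Subgroup H, K.map f ≤ N.map f ↔ K ≤ N) ∧ (∀ K N : Subgroup H, K.map f = N.map f ↔ K = N) ∧
    (∀ K : Subgroup H, K.map f = ⊥ ↔ K = ⊥) ∧
    (∀ K N : Subgroup H, K.map f ⊔ N.map f = (K ⊔ N).map f) ∧
    (∀ K N : Subgroup H, K.map f ⊓ N.map f = (K ⊓ N).map f) ∧
    (∀ K N : Subgroup H, ⁅K.map f, N.map f⁆ = ⁅K, N⁆.map f) ∧ (∀ K : Subgroup H, Nat.card (K.map f) = Nat.card K) ∧
    (∀ (K : Subgroup H) (g : H), f g ∈ 𝒞(K.map f) ↔ g ∈ 𝒞(K)) ∧
    (∀ K N : Subgroup H, N.map f ≤ 𝒩(K.map f) ↔ N ≤ 𝒩(K)) ∧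
    (∀ (y : H) (N : Subgroup H), N.map f ⊓ centralizer {f y} = (N ⊓ centralizer {y}).map f) ∧
    (∀ (K : Subgroup H) (P : Subgroup G → Prop), (∀ V, V ≤ K.map f → P V) ↔ ∀ V, V ≤ K → P (V.map f)) ∧
    (∀ z x, Z2 (f z) (f x) ↔ Z2 z x) ∧ (∀ z w x, Z4 (f z) (f w) (f x) ↔ Z4 z w x) ∧
    (∀ K : Subgroup H, IsPGroup 2 (K.map f) ↔ IsPGroup 2 K) ∧ (∀ s, closure (f '' s) = (closure s).map f) ∧
    (∀ s, (f '' s).ncard = s.ncard) ∧ (∀ x, (d.map f).cl (f x) ↔ d.cl x) ∧
    (∀ x, (d.map f).Om (f x) = (d.Om x).map f) ∧ ∀ x, (d.map f).Jc (f x) = (d.Jc x).map f :=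
  ⟨⟨rfl, rfl, rfl, rfl, rfl, rfl, rfl, rfl, rfl, rfl, rfl, rfl⟩, fa, ex, st, cj_map,
    fun x y => (map_mul f x y).symm, fun x => (map_inv f x).symm, fun x y => (map_commutatorElement f x y).symm,
    fun x n => (map_pow f x n).symm,
    fun _ _ => hf.eq_iff, fun _ => map_eq_one_iff f hf, fun _ _ => mem_map_iff_mem hf,
    fun _ _ => map_le_map_iff_of_injective hf, fun _ _ => (map_injective hf).eq_iff,
    fun K => K.map_eq_bot_iff_of_injective hf, fun K N => (Subgroup.map_sup K N f).symm,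
    fun K N => (Subgroup.map_inf K N f hf).symm, fun K N => (map_commutator K N f).symm,
    fun _ => card_map_of_injective hf, fun K g => by simp only [mem_cent, fa, ← map_mul, hf.eq_iff],
    fun K N => by simp only [SetLike.le_def, fa, mem_norm_map hf], inf_cent1_map hf, fun K P => fa_le K P hf,
    fun z x => by simp only [Z2, hf.eq_iff, map_eq_one_iff f hf],
    fun z w x => by simp only [Z4, ← map_mul, hf.eq_iff, map_eq_one_iff f hf],
    fun K => ⟨fun h => comap_map_eq_self_of_injective hf K ▸ h.comap_of_injective f hf,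
      fun h => h.map f⟩, fun s => (f.map_closure s).symm, fun s => Set.ncard_image_of_injective s hf,
    fun x => by simp only [Dat.cl, Dat.map_A, Dat.map_z, ex, ← map_mul, ← map_inv, hf.eq_iff],
    fun x => by simp only [Dat.Om, MonoidHom.map_closure, Set.image_insert_eq, Set.image_singleton, Dat.map_p,
      Dat.map_z, map_mul, map_inv],
    fun x => by rw [Dat.Jc, Dat.Jc, map_commutator, Dat.map_A, inf_cent1_map hf]⟩

variable {d : Dat H}

theorem okA [Finite H] [Finite G] (o : Ok d) : OkA (d.map f) where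
  z_V := by simpa only [tr hf d, ne_eq] using o.z_V
  z_Q := by simpa only [tr hf d, ne_eq] using o.z_Q
  f_V := by simpa only [tr hf d, ne_eq] using o.f_V
  z_ne := by simpa only [tr hf d, ne_eq] using o.z_ne
  f_ne := by simpa only [tr hf d, ne_eq] using o.f_ne
  V_sq := by simpa only [tr hf d, ne_eq] using o.V_sq
  mem_H := fun g => by rw [← mem_cent1, ← mem_inf, Dat.map_A, Dat.map_z, inf_cent1_map hf, ← o.H_eq, Dat.map_H]
  mem_M := fun g => ⟨by
    rintro ⟨x, hx, rfl⟩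
    exact ⟨⟨x, o.M_A hx, rfl⟩, (mem_norm_map hf _ x).2 (o.M_norm hx)⟩, by
    rintro ⟨⟨x, hx, rfl⟩, h⟩
    exact ⟨x, (o.mem_M x).2 ⟨hx, (mem_norm_map hf _ x).1 h⟩, rfl⟩⟩
  V_T := by simpa only [tr hf d, ne_eq] using o.V_T
  Q_T := by simpa only [tr hf d, ne_eq] using o.Q_T
  T_H := by simpa only [tr hf d, ne_eq] using o.T_H
  T_M := by simpa only [tr hf d, ne_eq] using o.T_M
  J_eq := by simpa only [tr hf d, ne_eq] using o.J_eq
  p_M := by simpa only [tr hf d, ne_eq] using o.p_M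
  p_cube := by simpa only [tr hf d, ne_eq] using o.p_cube
  Q_norm := by simpa only [tr hf d, ne_eq] using o.Q_norm
  syl := have := Fact.mk Nat.prime_two; syl_map f o.syl
  simple := have := o.simple; (d.A.equivMapOfInjective f hf).symm.isSimpleGroup
  two := by simpa only [tr hf d, ne_eq] using o.two
  f_not := by simpa only [tr hf d, ne_eq] using o.f_not
  orbV := by simpa only [tr hf d, ne_eq] using o.orbV
  card_V := by simpa only [tr hf d, ne_eq] using o.card_V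
  card_Q := by simpa only [tr hf d, ne_eq] using o.card_Q
  card_M := by simpa only [tr hf d, ne_eq] using o.card_M
  card_cl := by simpa only [tr hf d, ne_eq] using o.card_cl
  card_ncl := by simpa only [tr hf d, ne_eq] using o.card_ncl
  uniqM := by simpa only [tr hf d, ne_eq] using o.uniqM
  uniqH := by simpa only [tr hf d, ne_eq] using o.uniqH
  Q_comm := by simpa only [tr hf d, ne_eq] using o.Q_comm
  Q_sq := by simpa only [tr hf d, ne_eq] using o.Q_sq
  cenQ := by simpa only [tr hf d, ne_eq] using o.cenQ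
  cQ := by simpa only [tr hf d, ne_eq] using o.cQ
  cenU := by simpa only [tr hf d, ne_eq] using o.cenU
  cVQ := by simpa only [tr hf d, ne_eq] using o.cVQ
  p_fpf := by simpa only [tr hf d, ne_eq] using o.p_fpf
  p_V := by simpa only [tr hf d, ne_eq] using o.p_V
  p_conj := by simpa only [tr hf d, ne_eq] using o.p_conj
  cenCQ := by simpa only [tr hf d, ne_eq] using o.cenCQ
  z2 := by simpa only [tr hf d, ne_eq] using o.z2

theorem okJ (o : Ok d) : OkJ (d.map f) where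
  Q_J := by simpa only [tr hf d, ne_eq] using o.Q_J
  V_J := by simpa only [tr hf d, ne_eq] using o.V_J
  p_J := by simpa only [tr hf d, ne_eq] using o.p_J
  J_perf := by simpa only [tr hf d, ne_eq] using o.J_perf
  card_J := by simpa only [tr hf d, ne_eq] using o.card_J
  H_dec := by simpa only [tr hf d, ne_eq] using o.H_dec
  O2J := by simpa only [tr hf d, ne_eq] using o.O2J
  nz := by simpa only [tr hf d, ne_eq] using o.nz
  genJ := (map_mono o.genJ).trans (map_le_iff_le_comap.2 ((closure_le _).2 fun x ⟨h, hh, hx⟩ =>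
    Subgroup.subset_closure ⟨f h, ⟨h, hh, rfl⟩, (cj_map (f := f) h d.V).ge ⟨x, hx, rfl⟩⟩))
  V_Jf := by simpa only [tr hf d, ne_eq] using o.V_Jf
  Jf_perf := by simpa only [tr hf d, ne_eq] using o.Jf_perf
  card_Jf := by simpa only [tr hf d, ne_eq] using o.card_Jf
  O2f := by simpa only [tr hf d, ne_eq] using o.O2f
  nf := by simpa only [tr hf d, ne_eq] using o.nf
  cenJf := by simpa only [tr hf d, ne_eq] using o.cenJf

theorem okH (o : Ok d) : OkH (d.map f) where
  delta := by simpa only [tr hf d, ne_eq] using o.delta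
  k1 := by simpa only [tr hf d, ne_eq] using o.k1
  orbQ := by simpa only [tr hf d, ne_eq] using o.orbQ
  x_V := by simpa only [tr hf d, ne_eq] using o.x_V
  x_Q := by simpa only [tr hf d, ne_eq] using o.x_Q
  y_V := by simpa only [tr hf d, ne_eq] using o.y_V
  y_Q := by simpa only [tr hf d, ne_eq] using o.y_Q
  x_cl := by simpa only [tr hf d, ne_eq] using o.x_cl
  y_cl := by simpa only [tr hf d, ne_eq] using o.y_cl
  xy_cl := by simpa only [tr hf d, ne_eq] using o.xy_cl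
  pxy_cl := by simpa only [tr hf d, ne_eq] using o.pxy_cl
  indep := by simpa only [tr hf d, ne_eq] using o.indep
  rank := by simpa only [tr hf d, ne_eq] using o.rank
  genU := by simpa only [tr hf d, ne_eq] using o.genU
  genQ := by simpa only [tr hf d, ne_eq] using o.genQ

theorem okM (o : Ok d) : OkM (d.map f) where
  aut := fun φ h1 h2 h3 h4 => by
    choose! ψ hψ eψ using fun u (hu : u ∈ d.V) => h1 _ ⟨u, hu, rfl⟩
    obtain ⟨m, hm, e⟩ := o.aut ψ hψ (fun u hu v hv => hf (by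
      rw [map_mul, eψ u hu, eψ v hv, eψ _ (mul_mem hu hv), map_mul, h2 _ ⟨u, hu, rfl⟩ _ ⟨v, hv, rfl⟩]))
      (fun u hu e => (map_eq_one_iff f hf).1 (h3 _ ⟨u, hu, rfl⟩ (by rw [← eψ u hu, e, map_one]))) fun u hu e => by
        have := h4 _ ⟨u, hu, rfl⟩
        rw [← eψ u hu] at this
        simp only [tr hf d] at this
        exact this e
    refine ⟨f m, ⟨m, hm, rfl⟩, ?_⟩
    rintro _ ⟨u, hu, rfl⟩
    rw [← eψ u hu, e u hu, map_mul, map_mul, map_inv]
  fixz := by simpa only [tr hf d, ne_eq] using o.fixz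
  fixf := by simpa only [tr hf d, ne_eq] using o.fixf
  irr := by simpa only [tr hf d, ne_eq] using o.irr
  nu := by
    obtain ⟨ν, h1, h2, h3⟩ := o.nu
    have e : ∀ u, invFun f (f u) = u := leftInverse_invFun hf
    refine ⟨ν ∘ invFun f, ?_, ?_, ?_⟩
    · simp only [MulOn, Dat.map_M, fa, comp, ← map_mul, e]; exact h1
    · simp only [Dat.map_M, ex, comp, e]; exact h2
    · simp only [Dat.map_M, Dat.map_V, fa, comp, e, mem_map_iff_mem hf]; exact h3
  split := by simpa only [tr hf d, ne_eq] using o.split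
  g23 := by simpa only [tr hf d, ne_eq] using o.g23
  VX := by simpa only [tr hf d, ne_eq] using o.VX

theorem okG (o : Ok d) : OkG (d.map f) where
  gen := by
    obtain ⟨m, hm, h, hh, h1, h2, h3, h4⟩ := o.gen
    refine ⟨f m, ⟨m, hm, rfl⟩, f h, ⟨h, hh, rfl⟩, by simpa only [tr hf d] using h1, by simpa only [tr hf d] using h2,
      fun Y k1 k2 k3 k4 => ?_, by simpa only [tr hf d] using h4⟩
    simp only [tr hf d] at k1 k2 k3 k4 ⊢
    rw [map_le_iff_le_comap] at k1 k2 k4 ⊢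
    exact h3 _ k1 k2 k3 (k4.trans (le_normalizer_comap f))

end MAP

theorem mapThm : MapThm.{u} := fun _ _ hf o => ⟨MAP.okA hf o, MAP.okJ hf o, MAP.okH hf o, MAP.okM hf o, MAP.okG hf o⟩

end CL.SJ
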