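/-
Project SJ4: the data of the model of the fourth Janko group, and the statements of the model jobs.
-/
import Cfsg.Agent.SJ4.Basic
import Cfsg.Agent.Spor.J4Three2
import Cfsg.Agent.Spor.J4B2

set_option autoImplicit false
open Cfsg Subgroup MulAction CL.Even CL.Grp CL.Wr CL.Spor
open CL.J4 (JM NM HM HC wt vcols hk D_cases fixS_duad0 M22_perfect evn_spec qn bn)
open CL.F24 (ap cX)
open scoped commutatorElement Pointwise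

namespace CL.SJ

section

variable {G : Type*} [Group G]

/-- Facts about `Q`. -/
structure QF (d : Dat G) : Prop where
  Q_comm : ∀ a ∈ d.Q, ∀ b ∈ d.Q, Z2 d.z ⁅a, b⁆
  Q_sq : ∀ a ∈ d.Q, Z2 d.z (a * a)
  card_Q : Nat.card d.Q = 8192
  cenQ : ∀ g ∈ d.A, (∀ q ∈ d.Q, g * q = q * g) → Z2 d.z g
  cQ : ∀ h ∈ d.H, (∀ q ∈ d.Q, Z2 d.z ⁅h, q⁆) → h ∈ d.Q
  cenU : ∀ g ∈ d.A, (∀ u ∈ d.V, u ∈ d.Q → g * u = u * g) → g ∈ d.V
  cVQ : ∀ q ∈ d.Q, (∀ v ∈ d.V, Z2 d.z ⁅v, q⁆) → q ∈ d.V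
  p_fpf : ∀ q ∈ d.Q, Z2 d.z (q * (d.p * q * d.p⁻¹) * (d.p⁻¹ * q * d.p))
  p_V : ∀ v ∈ d.V, ⁅d.p, v⁆ ∈ d.Q
  p_conj : ∀ h ∈ d.H, h⁻¹ * d.p * h ∈ d.M
  cenCQ : ∀ y ∈ d.Q, ∀ g ∈ d.A, (∀ q ∈ d.Q, q * y = y * q → g * q = q * g) → Z4 d.z y g

/-- The part of `OkJ` about `J`. -/
structure JF1 (d : Dat G) : Prop where
  Q_J : d.Q ≤ d.J
  V_J : d.V ≤ d.J
  p_J : d.p ∈ d.J
  J_perf : d.J ≤ ⁅d.J, d.J⁆
  card_J : Nat.card d.J = 10899947520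
  H_dec : ∀ h ∈ d.H, ∃ j ∈ d.J, ∃ x ∈ d.T, h = j * x
  O2J : ∀ P, P ≤ d.J → IsPGroup 2 P → d.J ≤ 𝒩(P) → P ≤ d.Q
  nz : ∀ N, N ≤ d.H → d.H ≤ 𝒩(N) → (∀ x ∈ N, Z2 d.z x) ∨ d.Q ≤ N
  genJ : d.J ≤ closure {x | ∃ h ∈ d.H, x ∈ cj h d.V}
  genQ : d.Q ≤ closure {x | x ∈ d.Q ∧ d.cl x}

/-- The part of `OkJ` about the second class. -/
structure JF2 (d : Dat G) : Prop where
  V_Jf : d.V ≤ d.Jc d.f
  Jf_perf : d.Jc d.f ≤ ⁅d.Jc d.f, d.Jc d.f⁆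
  card_Jf : Nat.card (d.Jc d.f) = 908328960
  O2f : ∀ P, P ≤ d.Jc d.f → IsPGroup 2 P → d.Jc d.f ≤ 𝒩(P) → P ≤ d.V
  nf : ∀ N, N ≤ d.A ⊓ centralizer {d.f} → d.A ⊓ centralizer {d.f} ≤ 𝒩(N) → (∀ x ∈ N, Z2 d.f x) ∨ d.V ≤ N
  cenJf : ∀ g ∈ d.A, g ∈ 𝒞(d.Jc d.f) → Z2 d.f g

/-- The first part of `OkH`. -/
structure HF1 (d : Dat G) : Prop where
  delta : ∃ h ∈ d.H, (∀ v ∈ d.V, v ∈ cj h d.V → Z2 d.z v) ∧
    (∀ q ∈ d.Q, ∃ a ∈ d.V, a ∈ d.Q ∧ ∃ b ∈ cj h d.V, b ∈ d.Q ∧ q = a * b) ∧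
    ∀ k ∈ d.H, (∀ v ∈ d.V, v ∈ cj k d.V → Z2 d.z v) → ∃ v ∈ d.V, cj k d.V = cj (v * h) d.V
  k0 : ∀ v ∈ d.A, (∀ h ∈ d.H, d.x₀ ∈ cj h d.V → v ∈ cj h d.V) → v ∈ d.Om d.x₀
  Om_cj : ∀ h ∈ d.H, d.Om (h * d.x₀ * h⁻¹) = cj h (d.Om d.x₀)

/-- The second part of `OkH`. -/
structure HF2 (d : Dat G) : Prop where
  orbQ : ∀ x ∈ d.Q, d.cl x → x ≠ d.z → ∃ h ∈ d.H, x = h * d.x₀ * h⁻¹
  x_V : d.x₀ ∈ d.V
  x_Q : d.x₀ ∈ d.Q
  y_V : d.y₀ ∈ d.V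
  y_Q : d.y₀ ∈ d.Q
  x_cl : d.cl d.x₀ ∧ d.x₀ ≠ d.z
  y_cl : d.cl d.y₀ ∧ d.y₀ ≠ d.z
  xy_cl : d.cl (d.x₀ * d.y₀) ∧ d.x₀ * d.y₀ ≠ d.z
  pxy_cl : d.cl (d.p * d.x₀ * d.p⁻¹ * d.y₀) ∧ d.p * d.x₀ * d.p⁻¹ * d.y₀ ≠ d.z
  indep : ∀ α ∈ d.Om d.x₀, ∀ β ∈ d.Om d.y₀, α * β ∈ d.Om (d.x₀ * d.y₀) →
    d.p⁻¹ * α * d.p * β ∈ d.Om (d.p * d.x₀ * d.p⁻¹ * d.y₀) → Z2 d.z α
  rank : ∀ e ∈ d.V, (∀ q ∈ d.Q, ⁅q, e⁆ ∈ d.Om d.x₀) → e ∈ d.Q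
  genU : d.V ⊓ d.Q ≤ closure {x | x ∈ d.V ∧ x ∈ d.Q ∧ d.cl x}

theorem Ok.of_parts {d : Dat G} (a : OkA d) (j1 : JF1 d) (j2 : JF2 d) (h1 : HF1 d) (h2 : HF2 d) (m : OkM d)
    (g : OkG d) : Ok d :=
  { a, m, g with
    Q_J := j1.Q_J, V_J := j1.V_J, p_J := j1.p_J, J_perf := j1.J_perf, card_J := j1.card_J, H_dec := j1.H_dec
    O2J := j1.O2J, nz := j1.nz, genJ := j1.genJ, genQ := j1.genQ
    V_Jf := j2.V_Jf, Jf_perf := j2.Jf_perf, card_Jf := j2.card_Jf, O2f := j2.O2f, nf := j2.nf, cenJf := j2.cenJf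
    delta := h1.delta
    k1 := fun x hx hc hz v hv h => by
      obtain ⟨k, hk, rfl⟩ := h2.orbQ x hx hc hz
      have hA : k ∈ d.A := ((a.mem_H k).1 hk).1
      rw [h1.Om_cj k hk, mem_cj]
      refine h1.k0 _ (mul_mem (mul_mem (inv_mem hA) hv) hA) fun l hl e => ?_
      have := h (k * l) (mul_mem hk hl) (by rw [cj_mul]; exact conj_mem_cj k e)
      rwa [cj_mul, mem_cj] at this
    orbQ := h2.orbQ, x_V := h2.x_V, x_Q := h2.x_Q, y_V := h2.y_V, y_Q := h2.y_Q, x_cl := h2.x_cl, y_cl := h2.y_cl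
    xy_cl := h2.xy_cl, pxy_cl := h2.pxy_cl, indep := h2.indep, rank := h2.rank, genU := h2.genU }

/-- The data of the model. -/
@[simps] def dat (M : JM G) (T : Subgroup G) : Dat G :=
  { z := M.z, f := M.t, p := M.p, x₀ := M.c 119, y₀ := M.c 1082, A := ⊤, H := M.H, J := ⁅M.H, M.H⁆, Q := M.Qs,
    V := M.V, M := M.N, T := T }

variable (M : JM G) {T : Subgroup G}

theorem mem_Qs {g : G} : g ∈ M.Qs ↔ ∃ a < 4096, ∃ j : ℕ, g = M.c a * M.z ^ j := Iff.rfl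

theorem cz_mem {a : ℕ} (ha : a < 4096) (j : ℕ) : M.c a * M.z ^ j ∈ M.Qs := ⟨a, ha, j, rfl⟩

theorem c_mem_Qs {a : ℕ} (ha : a < 4096) : M.c a ∈ M.Qs := ⟨a, ha, 0, by simp⟩

theorem z_mem_Qs : M.z ∈ M.Qs := ⟨0, by norm_num, 1, by simp [M.c_zero]⟩

theorem z2_zp (j : ℕ) : Z2 M.z (M.z ^ j) := M.zp_cases j

theorem cl_iff {x : G} : (dat M T).cl x ↔ IsConj M.z x := by
  rw [isConj_iff]
  exact ⟨fun ⟨a, _, e⟩ => ⟨a, e.symm⟩, fun ⟨a, e⟩ => ⟨a, mem_top _, e.symm⟩⟩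

theorem isConj_v_iff {a : ℕ} (ha : a < 2048) : IsConj M.z (M.v a) ↔ wt a = 4 := by
  refine ⟨fun h => ?_, M.isConj_z ha⟩
  rcases (evn_spec ha).2.2.2 with e | e | e
  · exact absurd (h.trans (M.isConj_t ha e).symm) M.nconj
  · exact e
  · rw [e, M.v_zero, isConj_one_left] at h
    exact absurd h M.z_ne

theorem cl_v {a : ℕ} (ha : a < 2048) : (dat M T).cl (M.v a) ↔ wt a = 4 := (cl_iff M).trans (isConj_v_iff M ha)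

theorem ker_le_N {g : G} (hg : g ∈ M.H) (h : M.π ⟨g, hg⟩ = 1) : g ∈ M.N := (M.mem_B g hg).2 (h ▸ one_mem _)

theorem Qs_le_N : M.Qs ≤ M.N := by
  rintro _ ⟨a, -, j, rfl⟩
  exact ker_le_N M _ (M.π_cz a j)

theorem π_p : M.π ⟨M.p, M.rp.mem⟩ = 1 := M.rp.rep.unique rep_one

/-- The projection of `N = V : M24` to `M24`. -/
noncomputable def nu : M.N →* M24 :=
  MonoidHom.mk' (fun g => (M.mem_N.1 g.2).choose_spec.2.choose) fun g h => by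
    obtain ⟨a1, e1⟩ := (M.mem_N.1 g.2).choose_spec
    obtain ⟨a2, e2⟩ := (M.mem_N.1 h.2).choose_spec
    obtain ⟨a3, e3⟩ := (M.mem_N.1 (g * h).2).choose_spec
    have e1 := e1.choose_spec
    have e2 := e2.choose_spec
    have e3 := e3.choose_spec
    generalize (M.mem_N.1 (g * h).2).choose_spec.2.choose = w at e3 ⊢
    generalize (M.mem_N.1 g.2).choose_spec.2.choose = x at e1 ⊢
    generalize (M.mem_N.1 h.2).choose_spec.2.choose = y at e2 ⊢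
    obtain ⟨b, hb, e⟩ := (M.mem_V _).1 (mul_mem (M.v_mem a1) (M.conj_mem_V x (M.v_mem a2)))
    refine ((M.vμ_eq_iff a3 hb).1 ?_).2
    rw [← e3, ← e, coe_mul, map_mul]
    conv_lhs => rw [e1, e2]
    group

theorem nu_eq {a : ℕ} (ha : a < 2048) (x : M24) (h : M.v a * M.μ x ∈ M.N) : nu M ⟨_, h⟩ = x := by
  obtain ⟨a1, e1⟩ := (M.mem_N.1 h).choose_spec
  exact ((M.vμ_eq_iff ha a1).1 e1.choose_spec).2.symm

theorem nu_μ (x : M24) : nu M ⟨M.μ x, M.μ_mem x⟩ = x := by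
  have := nu_eq M (a := 0) (by norm_num) x (by rw [M.v_zero, one_mul]; exact M.μ_mem x)
  simpa only [M.v_zero, one_mul] using this

theorem nu_rn {X : ℕ × ℕ} {g : G} (h : M.RN X g) : Rep X.2 (nu M ⟨g, h.mem⟩) := by
  obtain ⟨h1, x, h2, rfl⟩ := h
  rwa [nu_eq M h1]

theorem nu_ker (g : M.N) : nu M g = 1 ↔ (g : G) ∈ M.V := by
  obtain ⟨g, hg⟩ := g
  obtain ⟨a, ha, x, rfl⟩ := M.mem_N.1 hg
  rw [nu_eq M ha]
  exact ⟨fun e => by subst e; simpa using M.v_mem ha, M.eq_one_of_mem_V⟩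

theorem eq_v_mul (g : M.N) : ∃ a < 2048, (g : G) = M.v a * M.μ (nu M g) := by
  obtain ⟨g, hg⟩ := g
  obtain ⟨a, ha, x, rfl⟩ := M.mem_N.1 hg
  exact ⟨a, ha, by rw [nu_eq M ha]⟩

theorem nu_conj (g : M.N) {P : ℕ} (hP : Rep P (nu M g)) {b : ℕ} (hb : b < 2048) :
    (g : G) * M.v b * (g : G)⁻¹ = M.v (ap (vcols P) b) := by
  obtain ⟨a, -, e⟩ := eq_v_mul M g
  rw [e]
  exact M.conj_v hP hb

/-- `Q = ⁅Q, p⁆ ⟨z⟩`. -/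
theorem Qs_le_of {K : Subgroup G} (hz : M.z ∈ K) (h : ∀ b < 4096, ⁅M.p, M.c b⁆ ∈ K) : M.Qs ≤ K := by
  rintro _ ⟨a, ha, j, rfl⟩
  refine mul_mem ?_ (pow_mem hz j)
  have h1 := M.rp.lt ha
  have h2 := h _ h1
  have h3 : ap cX (ap cX a) = a ^^^ ap cX a := by
    have : F24.all2 (fun a => Nat.beq (ap cX (ap cX a)) (Nat.xor a (ap cX a))) 12 0 = true := by decide +kernel
    exact Nat.eq_of_beq_eq_true (F24.all2_spec this a ha)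
  change ap cX a < 4096 at h1
  change ⁅M.p, M.c (ap cX a)⁆ ∈ K at h2
  rw [commutatorElement_def, M.rp.conj h1] at h2
  change M.c (ap cX (ap cX a)) * _ * _ ∈ K at h2
  rw [h3, M.c_xor ha h1, mul_assoc, mul_assoc, mul_assoc, ← mul_assoc (M.z ^ _), ← pow_add,
    ← M.zp_comm (inv_mem (M.c_mem _)), mul_inv_cancel_left] at h2
  exact (mul_mem_cancel_right (pow_mem hz _)).1 h2

variable [Finite G]

theorem Cp_le_J : M.Cp ≤ ⁅M.H, M.H⁆ := M.Cp_perfect.ge.trans (commutator_mono inf_le_left inf_le_left)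

theorem Qs_le_J : M.Qs ≤ ⁅M.H, M.H⁆ :=
  Qs_le_of M (Cp_le_J M M.z_mem_K0) fun b _ => commutator_mem_commutator M.rp.mem (M.c_mem b)

/-- `J` is the preimage of `M22`. -/
theorem mem_J {g : G} : g ∈ ⁅M.H, M.H⁆ ↔ ∃ hg : g ∈ M.H, M.π ⟨g, hg⟩ ∈ (fixS duad0 : Subgroup M24) := by
  constructor
  · intro h
    have h1 : ⁅M.H, M.H⁆ ≤ ((fixS duad0 : Subgroup M24).comap M.π).map M.H.subtype := by
      refine commutator_le.2 fun a ha b hb => ⟨⁅(⟨a, ha⟩ : M.H), (⟨b, hb⟩ : M.H)⁆, ?_, rfl⟩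
      rw [SetLike.mem_coe, mem_comap, map_commutatorElement, fixS_duad0]
      have h2 := M.π_mem ⟨a, ha⟩
      have h3 := M.π_mem ⟨b, hb⟩
      generalize M.π ⟨a, ha⟩ = x at h2 ⊢
      generalize M.π ⟨b, hb⟩ = y at h3 ⊢
      refine mem_inf.2 ⟨mul_mem (mul_mem (mul_mem h2 h3) (inv_mem h2)) (inv_mem h3), ?_⟩
      have h4 : ∀ u ∈ stabilizer M24 duad0, ∀ q ∈ duad0, u • q ∈ duad0 := fun u hu q hq => by
        rw [← mem_stabilizer_iff.1 hu]; exact Finset.smul_mem_smul_finset hq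
      have h5 : duad0 = {gPt 23, gPt 0} := by decide +kernel
      have h6 : gPt 23 ≠ gPt 0 := by decide +kernel
      have h7 : ∀ u ∈ stabilizer M24 duad0, (u • gPt 23 = gPt 23 ∧ u • gPt 0 = gPt 0) ∨
          (u • gPt 23 = gPt 0 ∧ u • gPt 0 = gPt 23) := fun u hu => by
        have a1 := h4 u hu (gPt 23) (by rw [h5]; simp)
        have a2 := h4 u hu (gPt 0) (by rw [h5]; simp)
        have a3 : u • gPt 23 ≠ u • gPt 0 := fun e => h6 (MulAction.injective u e)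
        rw [h5, Finset.mem_insert, Finset.mem_singleton] at a1 a2
        rcases a1 with a1 | a1 <;> rcases a2 with a2 | a2
        · exact absurd (a1.trans a2.symm) a3
        · exact Or.inl ⟨a1, a2⟩
        · exact Or.inr ⟨a1, a2⟩
        · exact absurd (a1.trans a2.symm) a3
      have h8 : x • y • gPt 23 = y • x • gPt 23 ∧ x • y • gPt 0 = y • x • gPt 0 := by
        rcases h7 x h2 with ⟨a1, a2⟩ | ⟨a1, a2⟩ <;> rcases h7 y h3 with ⟨a3, a4⟩ | ⟨a3, a4⟩ <;>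
          simp only [a1, a2, a3, a4, and_self]
      have h9 : ∀ q ∈ duad0, x • y • q = y • x • q := fun q hq => by
        rw [h5, Finset.mem_insert, Finset.mem_singleton] at hq
        rcases hq with rfl | rfl
        exacts [h8.1, h8.2]
      rw [mem_stabilizer_iff, commutatorElement_def, mul_smul, mul_smul, mul_smul,
        h9 _ (h4 _ (inv_mem h2) _ (h4 _ (inv_mem h3) _ (by rw [h5]; simp))), smul_inv_smul, smul_inv_smul]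
    obtain ⟨x, hx, rfl⟩ := h1 h
    exact ⟨x.2, hx⟩
  · rintro ⟨hg, h⟩
    obtain ⟨k, hk, e⟩ := M.exists_K0 h
    obtain ⟨a, ha, i, j, e1⟩ := M.ker (⟨g, hg⟩ * ⟨k, hk.1⟩⁻¹) (by rw [map_mul, map_inv, e, mul_inv_cancel])
    have e2 : g * k⁻¹ = M.c a * M.p ^ i * M.z ^ j := e1
    rw [mul_inv_eq_iff_eq_mul, mul_assoc (M.c a)] at e2
    rw [e2]
    exact mul_mem (mul_mem (Qs_le_J M (c_mem_Qs M ha)) (Cp_le_J M (M.pz_mem_K0 i j))) (Cp_le_J M hk)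

/-- `J = Q C(p)`. -/
theorem J_dec {g : G} (h : g ∈ ⁅M.H, M.H⁆) : ∃ q ∈ M.Qs, ∃ k ∈ M.Cp, g = q * k := by
  obtain ⟨hg, h⟩ := (mem_J M).1 h
  obtain ⟨k, hk, e⟩ := M.exists_K0 h
  obtain ⟨a, ha, i, j, e1⟩ := M.ker (⟨g, hg⟩ * ⟨k, hk.1⟩⁻¹) (by rw [map_mul, map_inv, e, mul_inv_cancel])
  have e2 : g * k⁻¹ = M.c a * M.p ^ i * M.z ^ j := e1
  rw [mul_inv_eq_iff_eq_mul, mul_assoc (M.c a), mul_assoc] at e2
  exact ⟨_, c_mem_Qs M ha, _, mul_mem (M.pz_mem_K0 i j) hk, e2⟩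

theorem V_le_J : M.V ≤ ⁅M.H, M.H⁆ := fun _ hg =>
  (mem_J M).2 ⟨M.V_le_H hg, fixS_anti J4.duad0_subset (HM.π_mem_of_V hg)⟩

end

/-! ### The statements of the model jobs -/

/-- (MQ) -/
def MQ : Prop := ∀ {Γ : Type} [Group Γ] [Finite Γ] (M : JM Γ) (T : Subgroup Γ), QF (dat M T)

/-- (MA) -/
def MA : Prop := ∀ {Γ : Type} [Group Γ] [Finite Γ] [IsSimpleGroup Γ] (M : JM Γ) (T : Subgroup Γ),
  Fus.SylIn 2 T (M.H ⊓ M.N) → QF (dat M T) → OkA (dat M T)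

/-- (MJ1) -/
def MJ1 : Prop := ∀ {Γ : Type} [Group Γ] [Finite Γ] (M : JM Γ) (T : Subgroup Γ), OkA (dat M T) → JF1 (dat M T)

/-- (MJ2) -/
def MJ2 : Prop := ∀ {Γ : Type} [Group Γ] [Finite Γ] (M : JM Γ) (T : Subgroup Γ), OkA (dat M T) → JF2 (dat M T)

/-- (MH1) -/
def MH1 : Prop := ∀ {Γ : Type} [Group Γ] [Finite Γ] (M : JM Γ) (T : Subgroup Γ), OkA (dat M T) → HF1 (dat M T)

/-- (MH2) -/
def MH2 : Prop := ∀ {Γ : Type} [Group Γ] [Finite Γ] (M : JM Γ) (T : Subgroup Γ), OkA (dat M T) → HF2 (dat M T)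

/-- (MM) -/
def MM : Prop := ∀ {Γ : Type} [Group Γ] [Finite Γ] (M : JM Γ) (T : Subgroup Γ), OkA (dat M T) → OkM (dat M T)

/-- (MG) -/
def MG : Prop := ∀ {Γ : Type} [Group Γ] [Finite Γ] (M : JM Γ) (T : Subgroup Γ), OkA (dat M T) → M.H ⊔ M.N = ⊤ →
  OkG (dat M T)

end CL.SJ
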