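/-
Project SJ4, job MG: generation in the model of the fourth Janko group.
-/
import Cfsg.Agent.SJ4.Mod0
import Cfsg.Agent.Spor.J4U1
import Cfsg.Agent.Spor.M24Sub

set_option autoImplicit false
open Cfsg Subgroup MulAction CL.Even CL.Grp CL.Wr CL.Spor
open CL.J4 (JM NM HM HC wt vcols hs hq hinv hmul hn dictS dictA Wb inW inW_iff nconj s0 Bs fixS_duad0)
open CL.F24 (ap cX)
open scoped commutatorElement Pointwise

namespace CL.SJ

namespace MGa

variable {G : Type*} [Group G] (M : JM G)

/-- A permutation that carries the standard sextet to another sextet in `Q`. -/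
def Pm : ℕ := 65512956311810912064155437847165474
/-- The permutation of the chosen involution. -/
def Px : ℕ := 218954439945678051499357826115975715
/-- Generators of the subgroup of index two of the sextet group. -/
def X1 : List ℕ := [Px, 984433695522452451222587287024404512, 966182099583441531322624363496310816,
  984085346507332711729061765015308320, 17665557174438149324336018692932695]

/-- The image in `M24`. -/
noncomputable def im (Y : Subgroup G) : Subgroup M24 := (Y.subgroupOf M.N).map (nu M)

variable {M}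

theorem good_im {Y : Subgroup G} {X : ℕ × ℕ} {g : G} (h : M.RN X g) (hg : g ∈ Y) : Good (im M Y) X.2 :=
  ⟨_, ⟨⟨g, h.mem⟩, hg, rfl⟩, nu_rn M h⟩

theorem mem_of_im {Y : Subgroup G} (hV : M.V ≤ Y) {g : G} (hg : g ∈ M.N) (h : nu M ⟨g, hg⟩ ∈ im M Y) : g ∈ Y := by
  obtain ⟨k, hk, e⟩ := h
  have h1 := (nu_ker M (⟨g, hg⟩ * k⁻¹)).1 (by rw [map_mul, map_inv, e, mul_inv_cancel])
  have h2 : g * (k : G)⁻¹ ∈ Y := hV h1
  exact (mul_mem_cancel_right (inv_mem (show (k : G) ∈ Y from hk))).1 h2

theorem im_mono {Y Z : Subgroup G} (h : Y ≤ Z) : im M Y ≤ im M Z := map_mono (comap_mono h)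

theorem mem_cj_s {X : HC} {g : G} (h : M.RH X g)
    (e : (fun Y : HC => allL (fun w => Nat.beq (ap Y.A w) w) Wb && inW Y.a) (hmul (hmul (hinv hs) X) hs) = true) :
    g ∈ cj M.s M.V := by
  have h0 : M.RH hs M.s := M.rh_s
  have h1 := ((h0.inv (Y := hinv hs) (by decide +kernel)).mul h).mul h0
  rw [Bool.and_eq_true, allL_iff] at e
  rw [mem_cj, h1.mem_V_iff]
  exact ⟨fun w hw => Nat.eq_of_beq_eq_true (e.1 w hw), (inW_iff h1.a_lt).1 e.2⟩

variable (M)

/-- The conjugating element. -/
noncomputable def m : G := M.μ (m24 Pm)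
/-- The involution. -/
noncomputable def x : G := M.v 1212 * M.μ (m24 Px)

theorem rn_m : M.RN (0, Pm) (m M) := M.rn_μ (rep_m24 (by decide +kernel))

theorem rn_x : M.RN (1212, Px) (x M) := M.rn_m24 (by norm_num) (by decide +kernel)

theorem rn_S {e : ℕ × HC} (he : e ∈ dictS) : M.RN (0, e.1) (M.μ (m24 e.1)) := M.rn_μ (J4.rep_dictS he)

theorem U_mem {e : ℕ × HC} (he : e ∈ dictS.drop 6) : M.μ (m24 e.1) ∈ M.Qs := by
  rw [M.μ_U e he]
  exact c_mem_Qs M (M.rh_S e (List.mem_of_mem_drop he)).a_lt

theorem conj_z : m M * M.z * (m M)⁻¹ = M.c 119 := by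
  rw [← M.v_z, (rn_m M).conj_v (by norm_num), show ap (vcols (0, Pm).2) 1441 = 496 by decide +kernel]
  exact M.v_W (496, 119) (by decide)

theorem x_H : x M ∈ M.H := J4.Un.mem_H (rn_x M) (by decide +kernel)

theorem x_Q : x M ∈ cj (m M) M.Qs := by
  have h1 : M.v 1326 ∈ M.Qs := by
    rw [show 1326 = 632 ^^^ 1888 ^^^ 54 by decide, M.v_xor, M.v_xor, M.v_W (632, 153) (by decide),
      M.v_W (1888, 1082) (by decide), M.v_W (54, 2079) (by decide)]
    exact mul_mem (mul_mem (c_mem_Qs M (by norm_num)) (c_mem_Qs M (by norm_num))) (c_mem_Qs M (by norm_num))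
  have h2 : dictS[9] ∈ dictS.drop 6 := by simp [dictS]
  rw [(rn_x M).eq_of ((rn_m M).conj (M.rn_m24 (a := 1326) (P := dictS[9].1) (by norm_num) (by decide +kernel)))
    (by decide +kernel)]
  exact conj_mem_cj _ (mul_mem h1 (U_mem M h2))

theorem x_V : x M ∈ cj M.s M.V := mem_cj_s ((rn_x M).rh (x_H M)) (by decide +kernel)

theorem x_cl : IsConj M.z (x M) := J4.Un.is_A (b := 33) (rn_x M) (by decide +kernel)

variable [Finite G]

theorem J_norm {h g : G} (hh : h ∈ M.H) (hg : g ∈ ⁅M.H, M.H⁆) : h * g * h⁻¹ ∈ ⁅M.H, M.H⁆ := by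
  have h1 : g ∈ M.H := ((mem_J M).1 hg).1
  have := mul_mem (commutator_mem_commutator hh h1) hg
  rwa [commutatorElement_def, inv_mul_cancel_right] at this

theorem x_J : x M ∈ ⁅M.H, M.H⁆ := by
  have h0 : M.RH hs M.s := M.rh_s
  have := J_norm M h0.mem (V_le_J M (mem_cj.1 (x_V M)))
  rwa [show M.s * (M.s⁻¹ * x M * M.s) * M.s⁻¹ = x M by group] at this

theorem good_X1 {Y : Subgroup G} (hQ : M.Qs ≤ Y) (hx : x M ∈ Y) (hN : M.H ⊓ M.N ≤ 𝒩(Y)) :
    ∀ P ∈ X1, Good (im M (Y ⊓ ⁅M.H, M.H⁆)) P := by
  have h1 : ∀ e ∈ dictS, Good (im M (Y ⊓ ⁅M.H, M.H⁆)) (nconj (0, e.1) (1212, Px)).2 := fun e he =>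
    good_im ((rn_S M he).conj (rn_x M)) ⟨(mem_normalizer_iff.1 (hN ⟨(M.rh_S e he).mem, M.μ_mem _⟩) _).1 hx,
      J_norm M (M.rh_S e he).mem (x_J M)⟩
  have h2 : dictS[6] ∈ dictS.drop 6 := by simp [dictS]
  have e : X1 = [(1212, Px).2, (nconj (0, dictS[0].1) (1212, Px)).2, (nconj (0, dictS[1].1) (1212, Px)).2,
    (nconj (0, dictS[4].1) (1212, Px)).2, (0, dictS[6].1).2] := by decide +kernel
  simp only [e, List.mem_cons, List.not_mem_nil, or_false]
  rintro _ (rfl | rfl | rfl | rfl | rfl)
  · exact good_im (rn_x M) ⟨hx, x_J M⟩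
  · exact h1 _ (List.getElem_mem _)
  · exact h1 _ (List.getElem_mem _)
  · exact h1 _ (List.getElem_mem _)
  · exact good_im (rn_S M (List.getElem_mem _)) (mem_inf.2 ⟨hQ (U_mem M h2), Qs_le_J M (U_mem M h2)⟩)

theorem card_im_J : Nat.card (im M ⁅M.H, M.H⁆) ≤ 69120 := by
  have h1 : im M ⁅M.H, M.H⁆ ≤ stabilizer M24 sext0 := by
    rintro _ ⟨g, hg, rfl⟩
    obtain ⟨X, hX⟩ := M.exists_rn g.2
    have := hX.mem_H_iff.1 ((mem_J M).1 hg).1
    rwa [hX.rep.unique (nu_rn M hX)] at this
  have h2 : im M ⁅M.H, M.H⁆ ≠ stabilizer M24 sext0 := fun e => by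
    have a1 : dictS[0] ∈ dictS := List.getElem_mem _
    have a2 := (rn_S M a1).mem_H_iff.1 (M.rh_S _ a1).mem
    have a3 := mem_of_im (V_le_J M) (M.μ_mem (m24 dictS[0].1)) (by rw [nu_μ, e]; exact a2)
    obtain ⟨a4, a5⟩ := (mem_J M).1 a3
    have a6 := (((M.rh_S _ a1).of_rep a4).mem_fixS_iff (F := 8388609)).1 a5
    exact absurd a6 (by decide +kernel)
  obtain ⟨k, hk⟩ := card_dvd_of_le h1
  have h3 : Nat.card (im M ⁅M.H, M.H⁆) ≠ Nat.card (stabilizer M24 sext0) := fun e =>
    h2 (eq_of_le_of_card_ge h1 e.ge)
  rw [card_stabilizer_sextet sext0_mem] at hk h3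
  rcases k with _ | _ | k
  · omega
  · omega
  · nlinarith

theorem part1 {Y : Subgroup G} (hV : M.V ≤ Y) (hQ : M.Qs ≤ Y) (hx : x M ∈ Y) (hN : M.H ⊓ M.N ≤ 𝒩(Y)) :
    M.N ⊓ ⁅M.H, M.H⁆ ≤ Y := by
  have h1 : 69120 ≤ Nat.card (im M (Y ⊓ ⁅M.H, M.H⁆)) := le_card_of_slp (good_X1 M hQ hx hN)
    [(3, 4, 17458216028539048849772677418910807), (5, 0, 984640207867706564859662542320142368),
      (5, 0, 984235865005994746954145143334668320), (4, 0, 984404951986650291017642929327245344),
      (6, 0, 966434169747046283177888676961749024), (8, 0, 967738580936480664927891663448279072),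
      (10, 6, 140982613307018558333157349554636229), (1, 5, 967283888461630133824935992167401504),
      (2, 0, 963762493524649290761377045519239200), (10, 0, 979121071158219704299181131031480352),
      (4, 0, 966039336168793943308839874394687520), (5, 0, 971863989228759034920585190470420512),
      (14, 0, 972606645568131968584696805283956768), (6, 12, 218145844282512688456894012723542563),
      (0, 0, 815890553000698190580390934237682343), (18, 0, 605198189298981604084227176394658929),
      (3, 0, 227677104110256382423050421126841454), (17, 0, 975407879911485994890377932192187394)]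
    [218954439945678051499357826115975715, 966182099583441531322624363496310816, 984085346507332711729061765015308320,
      967738580936480664927891663448279072, 972606645568131968584696805283956768, 975407879911485994890377932192187394]
    [23, 0, 1, 2, 3, 4, 5] (by decide +kernel)
  have h2 := eq_of_le_of_card_ge (im_mono (M := M) (inf_le_right : Y ⊓ ⁅M.H, M.H⁆ ≤ _)) ((card_im_J M).trans h1)
  rintro g ⟨hg, hJ⟩
  exact (mem_of_im (le_inf hV (V_le_J M)) hg (h2 ▸ ⟨⟨g, hg⟩, hJ, rfl⟩)).1

theorem N_le {L : Subgroup G} (h1 : M.N ⊓ ⁅M.H, M.H⁆ ≤ L) (h2 : cj (m M) M.Qs ≤ L) : M.N ≤ L := by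
  have h3 : im M (⊤ ⊓ ⁅M.H, M.H⁆) ≤ im M L := by
    rintro _ ⟨g, hg, rfl⟩
    exact ⟨g, h1 ⟨g.2, hg.2⟩, rfl⟩
  have h4 : dictS[6] ∈ dictS.drop 6 := by simp [dictS]
  have h5 : ∀ P ∈ X1 ++ [145681553152801620958548723564774469], Good (im M L) P :=
    good_append (fun P hP => (good_X1 M le_top (mem_top _) (le_top.trans le_normalizer) P hP).mono h3) fun P hP => by
      rw [List.mem_singleton.1 hP, show 145681553152801620958548723564774469 =
        (nconj (0, Pm) (0, dictS[6].1)).2 by decide +kernel]
      exact good_im ((rn_m M).conj (rn_S M (List.getElem_mem _))) (h2 (conj_mem_cj _ (U_mem M h4)))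
  have h6 : 244823040 ≤ Nat.card (im M L) := le_card_of_slp h5
    [(5, 3, 146334468996491911653834946318140485), (0, 5, 231752819211702618304080802939701283),
      (2, 0, 960638524784640575918064942943877664), (5, 6, 965894544797731547117577028686383136),
      (8, 3, 212912626003102346552580883129501731), (5, 0, 978879884615835414974870331829991968),
      (7, 0, 963803721802190887591556327062185280), (9, 0, 975108630383817763364768251094650528),
      (5, 0, 971069111266284803995216476107969568), (4, 4, 425895922579839142595623141575985190),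
      (15, 0, 845994929277573664375653537626031177), (12, 0, 217738695290875440023359879071106126),
      (12, 0, 964698641110913618047872363665016258), (16, 12, 894024821026289812204431133598319686),
      (1, 0, 233316174067189248527893198675458595), (15, 0, 980259144015436319965577063300401184),
      (18, 0, 967296131313909315312741310514497568), (20, 0, 966039336168793943308839874394687520),
      (4, 14, 879505359407824696001526275933242438), (6, 0, 231471258686442957033804580482333219),
      (20, 0, 960988986577231320736564629526349856), (22, 0, 961287549667283201426177752282892320),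
      (24, 0, 979442854793080100179745010390370336), (24, 0, 963582593757073591850928955785840672),
      (6, 0, 980224387687010295957922729495201824), (27, 0, 967812279691448225500382947153381408),
      (8, 0, 976531636853126291160407323722221600)]
    [966182099583441531322624363496310816, 984085346507332711729061765015308320, 145681553152801620958548723564774469,
      960638524784640575918064942943877664, 971069111266284803995216476107969568, 964698641110913618047872363665016258,
      966039336168793943308839874394687520, 976531636853126291160407323722221600]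
    [23, 0, 1, 2, 3, 4, 5] (by decide +kernel)
  have h7 : im M L = ⊤ := eq_top_of_le_card _ (by rw [card_M24]; exact h6)
  exact fun g hg => mem_of_im (fun v hv => h1 ⟨M.V_le_N hv, V_le_J M hv⟩) hg (h7 ▸ mem_top _)

omit [Finite G] in
theorem H_le {L : Subgroup G} (h1 : M.N ≤ L) (h2 : cj M.s M.V ≤ L) : M.H ≤ L := by
  have h0 : M.RH hs M.s := M.rh_s
  have h3 : ∀ P, (inM24 P && (fixesMask 8388609 P && fixesMask 8536111 P)) = true → Good (M.im L) P := fun P e => by
    simp only [Bool.and_eq_true] at e
    have a1 := rep_m24 e.1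
    obtain ⟨g, hg⟩ : m24 P ∈ M.π.range := M.range ▸ a1.mem_stabilizer_of_fixesMask e.2.1
    exact ⟨_, M.mem_im.2 ⟨g, h1 ((M.mem_B g g.2).2 (hg ▸ a1.mem_stabilizer_of_fixesMask e.2.2)), g.2, hg⟩, a1⟩
  obtain ⟨g, hg, hX⟩ := M.exists_dictA dictA[0] (List.getElem_mem _)
  have h4 := (h0.mul hX).mul (h0.inv (Y := hinv hs) (by decide +kernel))
  have h5 : ∀ P ∈ [17053319809816750985070691391837751, 25121319356110157012666473005564983,
      966065889199318864952172779198879776], Good (M.im L) P := by
    simp only [List.mem_cons, List.not_mem_nil, or_false]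
    rintro _ (rfl | rfl | rfl)
    · exact h3 _ (by decide +kernel)
    · exact h3 _ (by decide +kernel)
    · rw [show 966065889199318864952172779198879776 = (hmul (hmul hs dictA[0].2) (hinv hs)).P by decide +kernel]
      exact ⟨_, M.mem_im.2 ⟨_, h2 (conj_mem_cj _ hg), h4.mem, rfl⟩, h4.rep⟩
  have h6 : 887040 ≤ Nat.card (M.im L) := le_card_of_slp h5
    [(2, 0, 17003334262416506249683581389812279), (1, 0, 965039948861491159683974824371822624),
      (1, 4, 18966925057894314458934108092702263), (3, 3, 965128854020860192151391391390468128),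
      (5, 0, 13535304828646992859100310304572471), (5, 0, 975143215188178936616410033620977184),
      (3, 5, 983076251201960605575730056090753056), (0, 9, 970006773529318871630651234394901536),
      (6, 0, 968491570799299214675520930813595680), (7, 0, 970499966350631336865513127433832480),
      (12, 5, 21306002052319854825547598563263543), (11, 0, 963479559764628554909269098505963040),
      (6, 0, 969270058198085303960121740846777408), (7, 0, 963790476910214406197792821137115168),
      (14, 15, 984696538345534618359351732892796448), (9, 0, 975508293575771830056102063318942784),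
      (10, 0, 967812279691448225500382947153381408), (18, 6, 972878898510240507831345692890698784),
      (16, 0, 961076259885533485444211678235546656), (9, 0, 971150438893657757230104674597916704),
      (18, 0, 972875306775901816030726361562286112), (7, 0, 980504394422866046962412236452235296),
      (5, 0, 966039336168793943308839874394687520), (13, 0, 976531636853126291160407323722221600)]
    [25121319356110157012666473005564983, 965039948861491159683974824371822624, 965128854020860192151391391390468128,
      975143215188178936616410033620977184, 963790476910214406197792821137115168, 967812279691448225500382947153381408,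
      976531636853126291160407323722221600]
    [23, 0, 1, 2, 3, 4, 5] (by decide +kernel)
  have h7 := eq_of_le_of_card_ge (M.im_le L) ((card_stabilizer_duad duad0_card).le.trans h6)
  intro k hk
  obtain ⟨l, hl, hl', e⟩ := M.mem_im.1 (h7 ▸ M.π_mem ⟨k, hk⟩)
  have h8 := ker_le_N M (mul_mem hk (inv_mem hl')) (by rw [M.π_mul hk (inv_mem hl'), M.π_inv hl', e, mul_inv_cancel])
  exact (mul_mem_cancel_right (inv_mem hl)).1 (h1 h8)

end MGa

open MGa in
theorem mg : MG := fun M T _ htop => by
  have h0 : M.RH hs M.s := M.rh_s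
  refine ⟨m M, M.μ_mem _, M.s, h0.mem, ?_, ?_, fun Y hV hQ hx hN => ?_, ?_⟩
  · show m M * M.z * (m M)⁻¹ ∈ M.Qs
    rw [conj_z]; exact c_mem_Qs M (by norm_num)
  · show m M * M.z * (m M)⁻¹ ∈ cj M.s M.V
    rw [conj_z]; exact mem_cj_s (M.rh_c (by norm_num)) (by decide +kernel)
  · exact part1 M hV hQ (hx _ (x_Q M) (x_V M) ((cl_iff M).2 (x_cl M))) hN
  · have h1 : M.N ≤ M.N ⊓ ⁅M.H, M.H⁆ ⊔ cj (m M) M.Qs ⊔ cj M.s M.V :=
      N_le M (le_sup_left.trans le_sup_left) (le_sup_right.trans le_sup_left)
    exact htop.ge.trans (sup_le (H_le M h1 le_sup_right) h1)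

end CL.SJ
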