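/-
Project SJ4, job MH1: the conjugates of `V` in `H` in the model of the fourth Janko group.
-/
import Cfsg.Agent.SJ4.Mod0

set_option autoImplicit false
open Cfsg Subgroup MulAction CL.Even CL.Grp CL.Wr CL.Spor
open CL.J4 (JM NM HM HC hs hy hp hq hmul hpow hsel hone dictA Wb inW InW inW_iff inW_iff_exists inW_apWb lift T77
  T77_spec exists_selA_P qn bn bet mm ap_mm ap_xor xor_lt12)
open CL.F24 (ap cX idc all2 all2_spec ap_idc)
open scoped commutatorElement Pointwise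

namespace CL.SJ

namespace MH1a

variable {G : Type*} [Group G] {M : JM G} {X : HC} {u : G}

theorem conj_cz (hu : M.RH X u) {a : ℕ} (ha : a < 4096) (j : ℕ) :
    u * (M.c a * M.z ^ j) * u⁻¹ = M.c (ap X.A a) * M.z ^ (X.o * qn a + bn X.a (ap X.A a) + j) := by
  rw [pow_add, ← mul_assoc (M.c _), ← hu.conj ha, mul_assoc _ u⁻¹, M.zp_comm (inv_mem hu.mem)]
  group

theorem cz_mem_cj (hu : M.RH X u) {w : ℕ} (hw : w < 4096) (j : ℕ) :
    M.c (ap X.A w) * M.z ^ j ∈ cj u M.V ↔ InW w := by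
  have := conj_cz hu hw (X.o * qn w + bn X.a (ap X.A w) + j)
  rw [M.zp_congr (m := _ + _ + (_ + _ + j)) (n := j) (by omega)] at this
  rw [← this, J4.conj_mem_cj, M.cz_mem_V hw]

theorem inf_cj (hu : M.RH X u) {x : G} (h1 : x ∈ M.V) (h2 : x ∈ cj u M.V)
    (e : allBelow (fun n => Nat.beq n 0 || !fixesPts (actMask (pf X.P) 8536111) (hsel dictA n).P) 16 = true) :
    ∃ w, InW w ∧ InW (ap X.A w) ∧ ∃ j, x = M.c (ap X.A w) * M.z ^ j := by
  have hx := M.V_le_H h1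
  obtain ⟨n, hn, hP⟩ := exists_selA_P (HM.π_mem_of_V h1)
  have h3 := HM.π_mem_of_V (mem_cj.1 h2)
  rw [M.π_mul (mul_mem (inv_mem hu.mem) hx) hu.mem, M.π_mul (inv_mem hu.mem) hx, M.π_inv hu.mem] at h3
  have h4 : M.π ⟨x, hx⟩ ∈ (fixS (ofMask (actMask (pf X.P) 8536111)) : Subgroup M24) := by
    rw [← hu.rep.smul_ofMask, mem_fixS]
    intro q hq
    obtain ⟨r, hr, rfl⟩ := Finset.mem_smul_finset.1 hq
    have := mem_fixS.1 h3 r hr
    rwa [mul_smul, mul_smul, inv_smul_eq_iff] at this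
  have h5 := (allBelow_iff _ _).1 e n hn
  rw [hP.mem_fixS_iff.1 h4] at h5
  obtain rfl : n = 0 := Nat.eq_of_beq_eq_true (by simpa using h5)
  obtain ⟨b, hb, j, rfl⟩ := HM.ker_V h1 (hP.unique rep_one)
  obtain ⟨w, hw, rfl⟩ := hu.ap_surj hb.1
  exact ⟨w, (cz_mem_cj hu hw j).1 h2, hb, j, rfl⟩

theorem chk77 : allL (fun e : ℕ × ℕ => (fun A => anyBelow (fun n => (fun b => !Nat.beq b 0 && inW b) (ap A (ap Wb n))) 64)
    (lift e.1).A || anyBelow (fun n => fixesMask 8536111 (pmul (pinv (pmul (hsel dictA n).P (hmul hy hy).P)) e.1)) 16)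
    T77 = true := by decide +kernel

theorem delta (M : JM G) : ∃ h ∈ M.H, (∀ v ∈ M.V, v ∈ cj h M.V → Z2 M.z v) ∧
    (∀ q ∈ M.Qs, ∃ a ∈ M.V, a ∈ M.Qs ∧ ∃ b ∈ cj h M.V, b ∈ M.Qs ∧ q = a * b) ∧
    ∀ k ∈ M.H, (∀ v ∈ M.V, v ∈ cj k M.V → Z2 M.z v) → ∃ v ∈ M.V, cj k M.V = cj (v * h) M.V := by
  have h0 : M.RH hy M.y := M.rh_y
  have hh := h0.mul h0
  refine ⟨_, hh.mem, fun v h1 h2 => ?_, ?_, fun k hk h => ?_⟩
  · obtain ⟨w, a1, a2, j, rfl⟩ := inf_cj hh h1 h2 (by decide +kernel)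
    obtain ⟨n, hn, rfl⟩ := inW_iff_exists.1 a1
    have := (allBelow_iff _ _).1 (by decide +kernel : allBelow (fun n =>
      (fun b => Nat.beq b 0 || !inW b) (ap (hmul hy hy).A (ap Wb n))) 64 = true) n hn
    simp only [(inW_iff a2.1).2 a2] at this
    rw [Nat.eq_of_beq_eq_true (by simpa using this : Nat.beq (ap (hmul hy hy).A (ap Wb n)) 0 = true), M.c_zero, one_mul]
    exact z2_zp M j
  · rintro _ ⟨a, ha, j, rfl⟩
    have := Nat.eq_of_beq_eq_true (all2_spec (by decide +kernel : all2 (fun a => (fun n => Nat.beq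
      (Nat.xor (ap Wb (n % 64)) (ap (hmul hy hy).A (ap Wb (n / 64)))) a)
      (ap [1808, 2336, 196, 72, 579, 897, 3895, 1305, 3581, 1622, 2234, 3295] a)) 12 0 = true) a ha)
    generalize ap [1808, 2336, 196, 72, 579, 897, 3895, 1305, 3581, 1622, 2234, 3295] a = n at this
    have a1 := inW_apWb (n % 64)
    have a2 := inW_apWb (n / 64)
    generalize ap Wb (n % 64) = w at this a1
    generalize ap Wb (n / 64) = w' at this a2
    have a3 := hh.lt a2.1
    refine ⟨_, (M.c_mem_V a1.1).2 a1, c_mem_Qs M a1.1, _, (cz_mem_cj hh a2.1 (bet w (ap (hmul hy hy).A w') + j)).2 a2,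
      cz_mem M a3 _, ?_⟩
    rw [← this, pow_add, ← mul_assoc, ← mul_assoc, ← M.c_xor a1.1 a3]
    rfl
  · obtain ⟨X, hX⟩ := M.exists_code' hk
    obtain ⟨e, he, u, k', Y, hu, hY, hB, rfl, -⟩ := hX.exists_dec
    have a1 : cj (u * k') M.V = cj u M.V := by rw [cj_mul, cj_eq ((M.mem_B' k' hY.mem).2 (hY.π_eq ▸ hB))]
    rw [a1] at h ⊢
    have a2 := (allL_iff _ _).1 chk77 e he
    rw [Bool.or_eq_true, anyBelow_iff, anyBelow_iff] at a2
    rcases a2 with ⟨n, -, a2⟩ | ⟨n, -, a2⟩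
    · rw [Bool.and_eq_true] at a2
      have a3 := (inW_apWb n).1
      have a4 := hu.lt a3
      have a5 := h _ ((M.cz_mem_V a4 0).2 ((inW_iff a4).1 a2.2)) ((cz_mem_cj hu a3 0).2 (inW_apWb n))
      rw [pow_zero, mul_one] at a5
      rw [M.c_inj a4 (M.mem_Z.2 a5)] at a2
      exact absurd a2.1 (by decide)
    · obtain ⟨v, hv, hV⟩ := M.exists_selA n
      have a3 := hV.mul hh
      have a4 := hu.rep
      rw [(M.rh_lift (T77_spec he).1).2.1] at a4
      have a5 := (M.mem_B _ (mul_mem (inv_mem a3.mem) hu.mem)).2 (by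
        rw [M.π_mul (inv_mem a3.mem) hu.mem, M.π_inv a3.mem]
        exact (a3.rep.inv.mul a4).mem_stabilizer_of_fixesMask a2)
      refine ⟨v, hv, ?_⟩
      conv_rhs => rw [← cj_eq a5, ← cj_mul, mul_inv_cancel_left]

theorem cX_sq {a : ℕ} (ha : a < 4096) : ap cX (ap cX a) = a ^^^ ap cX a :=
  Nat.eq_of_beq_eq_true (all2_spec (by decide +kernel :
    all2 (fun a => Nat.beq (ap cX (ap cX a)) (Nat.xor a (ap cX a))) 12 0 = true) a ha)

theorem cX_lt (M : JM G) {a : ℕ} (ha : a < 4096) : ap cX a < 4096 := M.rp.lt ha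

/-- The elements of `H` are semilinear. -/
theorem semi (hu : M.RH X u) : (∀ b < 4096, ap X.A (ap cX b) = ap cX (ap X.A b)) ∨
    ∀ b < 4096, ap X.A (ap cX b) = ap X.A b ^^^ ap cX (ap X.A b) := by
  obtain ⟨i, hi, h⟩ := (hu.mul M.rp).exists_scalar hu ((hu.rep.mul rep_one).unique' (by simpa using hu.rep))
  have h1 : ∀ b < 4096, ap X.A (ap cX b) = ap (hpow hp i).A (ap X.A b) := fun b hb => by
    rw [← ap_mm, ← ap_mm]; exact h b hb
  interval_cases i
  · have h2 := h1 1 (by norm_num)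
    rw [show (hpow hp 0).A = idc from rfl, ap_idc (hu.lt (by norm_num))] at h2
    exact absurd (hu.ap_inj (b := ap cX 1 ^^^ 1) (by decide +kernel) (by rw [ap_xor, h2, Nat.xor_self]))
      (by decide +kernel)
  · exact Or.inl fun b hb => by rw [h1 b hb, show (hpow hp 1).A = cX by decide +kernel]
  · exact Or.inr fun b hb => by
      rw [h1 b hb, show (hpow hp 2).A = mm cX cX by decide +kernel, ap_mm, cX_sq (hu.lt hb)]

theorem p_conj (M : JM G) {a : ℕ} (ha : a < 4096) (j : ℕ) :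
    M.p * (M.c a * M.z ^ j) * M.p⁻¹ = M.c (ap cX a) * M.z ^ j := by
  rw [conj_cz M.rp ha]
  show M.c (ap cX a) * M.z ^ (0 * qn a + bn 0 (ap cX a) + j) = _
  rw [J4.bn_zero_left, zero_mul, zero_add, zero_add]

theorem cz_iff {K : Subgroup G} (hz : M.z ∈ K) (a j : ℕ) : M.c a * M.z ^ j ∈ K ↔ M.c a ∈ K :=
  mul_mem_cancel_right (pow_mem hz j)

theorem xor_iff {K : Subgroup G} (hz : M.z ∈ K) {a b : ℕ} (ha : a < 4096) (hb : b < 4096) (h : M.c a ∈ K) :
    M.c (a ^^^ b) ∈ K ↔ M.c b ∈ K := by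
  rw [M.c_xor ha hb, mul_mem_cancel_right (pow_mem hz _), mul_mem_cancel_left h]

theorem clo_le {K : Subgroup G} {x y w : G} : closure {x, y, w} ≤ K ↔ x ∈ K ∧ y ∈ K ∧ w ∈ K := by
  simp [closure_le, Set.insert_subset_iff]

theorem m (x y w : G) : x ∈ closure {x, y, w} ∧ y ∈ closure {x, y, w} ∧ w ∈ closure {x, y, w} := clo_le.1 le_rfl

end MH1a

open MH1a in
theorem mh1 : MH1 := fun M T _ => by
  have h0 : M.RH hs M.s := M.rh_s
  have e1 : M.p * M.c 119 * M.p⁻¹ = M.c (ap cX 119) := by simpa using p_conj M (a := 119) (by norm_num) 0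
  refine ⟨delta M, fun v _ h => ?_, fun h hh => ?_⟩
  · have h1 : v ∈ M.V := by
      have := h 1 (one_mem _) (by rw [cj_one]; exact (M.c_mem_V (by norm_num)).2 (J4.inW_Wb (by decide)))
      rwa [cj_one] at this
    have h2 : v ∈ cj M.s M.V := h _ h0.mem (by
      have := (cz_mem_cj h0 (w := 3260) (by norm_num) 0).2 ((inW_iff (by norm_num)).1 (by decide +kernel))
      rwa [pow_zero, mul_one, show ap hs.A 3260 = 119 by decide +kernel] at this)
    obtain ⟨w, a1, a2, j, rfl⟩ := inf_cj h0 h1 h2 (by decide +kernel)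
    obtain ⟨n, hn, rfl⟩ := inW_iff_exists.1 a1
    have := (allBelow_iff _ _).1 (by decide +kernel : allBelow (fun n => (fun b => !inW b ||
      anyL (fun c => Nat.beq b c) [0, 119, ap cX 119, Nat.xor 119 (ap cX 119)]) (ap hs.A (ap Wb n))) 64 = true) n hn
    simp only [(inW_iff a2.1).2 a2, Bool.not_true, Bool.false_or, anyL_iff] at this
    obtain ⟨c, hc, e⟩ := this
    obtain ⟨m1, m2, m3⟩ := m (M.c 119) (M.p * M.c 119 * M.p⁻¹) M.z
    show _ ∈ Subgroup.closure {M.c 119, M.p * M.c 119 * M.p⁻¹, M.z}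
    rw [cz_iff m3, Nat.eq_of_beq_eq_true e]
    simp only [List.mem_cons, List.not_mem_nil, or_false] at hc
    rcases hc with rfl | rfl | rfl | rfl
    · rw [M.c_zero]; exact one_mem _
    · exact m1
    · exact e1 ▸ m2
    · exact (xor_iff m3 (by norm_num) (cX_lt M (by norm_num)) m1).2 (e1 ▸ m2)
  · obtain ⟨X, hX⟩ := M.exists_code' hh
    show Subgroup.closure {h * M.c 119 * h⁻¹, M.p * (h * M.c 119 * h⁻¹) * M.p⁻¹, M.z} =
      cj h (Subgroup.closure {M.c 119, M.p * M.c 119 * M.p⁻¹, M.z})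
    have a1 := hX.lt (b := 119) (by norm_num)
    have a2 := cX_lt M a1
    rw [MonoidHom.map_closure, Set.image_insert_eq, Set.image_insert_eq, Set.image_singleton, e1]
    simp only [MulEquiv.coe_toMonoidHom, MulAut.conj_apply]
    rw [show h * M.z * h⁻¹ = M.z from mul_inv_eq_iff_eq_mul.2 (M.mem_H.1 hh), hX.conj (by norm_num),
      hX.conj (cX_lt M (by norm_num)), p_conj M a1]
    generalize X.o * qn 119 + bn X.a (ap X.A 119) = i
    generalize X.o * qn (ap cX 119) + bn X.a (ap X.A (ap cX 119)) = j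
    obtain ⟨m1, m2, m3⟩ := m (M.c (ap X.A 119) * M.z ^ i) (M.c (ap cX (ap X.A 119)) * M.z ^ i) M.z
    obtain ⟨n1, n2, n3⟩ := m (M.c (ap X.A 119) * M.z ^ i) (M.c (ap X.A (ap cX 119)) * M.z ^ j) M.z
    refine le_antisymm (clo_le.2 ⟨n1, ?_, n3⟩) (clo_le.2 ⟨m1, ?_, m3⟩)
    · rw [cz_iff n3] at n1 n2 ⊢
      rcases semi hX with s | s
      · exact s 119 (by norm_num) ▸ n2
      · exact (xor_iff n3 a1 a2 n1).1 (s 119 (by norm_num) ▸ n2)
    · rw [cz_iff m3] at m1 m2 ⊢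
      rcases semi hX with s | s
      · exact s 119 (by norm_num) ▸ m2
      · exact s 119 (by norm_num) ▸ (xor_iff m3 a1 a2 m1).2 m2

end CL.SJ
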