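/-
Project SJ4, job MH2: the singular vectors of `Q` in the model of the fourth Janko group.
-/
import Cfsg.Agent.SJ4.Mod0

set_option autoImplicit false
open Cfsg Subgroup MulAction CL.Even CL.Grp CL.Wr CL.Spor
open CL.J4 (JM NM HM HC wt vcols qn bn bet hq hmul hsel hone dictS dictA Wv Wb InW bfs bfs_spec xor_lt12)
open CL.F24 (ap cX ap_cons ap_nil ap_lt)
open scoped commutatorElement Pointwise

namespace CL.SJ

namespace MH2

variable {G : Type*} [Group G] (M : JM G) {T : Subgroup G}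

theorem cz_mul {a b : ℕ} (ha : a < 4096) (hb : b < 4096) (i j : ℕ) :
    M.c a * M.z ^ i * (M.c b * M.z ^ j) = M.c (a ^^^ b) * M.z ^ (bet a b + i + j) := by
  rw [mul_assoc, ← mul_assoc (M.z ^ i), ← M.zp_comm (M.c_mem b), ← mul_assoc, ← mul_assoc, M.c_mul a ha b hb,
    mul_assoc, mul_assoc, ← pow_add, ← pow_add, add_assoc]

theorem cz_inv {a : ℕ} (ha : a < 4096) (i : ℕ) : (M.c a * M.z ^ i)⁻¹ = M.c a * M.z ^ (qn a + i) := by
  refine inv_eq_of_mul_eq_one_right ?_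
  rw [cz_mul M ha ha, Nat.xor_self, M.c_zero, one_mul, ← pow_zero M.z]
  exact M.zp_congr (by show (qn a + i + (qn a + i)) % 2 = _; omega)

theorem cz_conj {X : HC} {g : G} (h : M.RH X g) {b : ℕ} (hb : b < 4096) (j : ℕ) :
    ∃ k, g * (M.c b * M.z ^ j) * g⁻¹ = M.c (ap X.A b) * M.z ^ k := by
  have : g * (M.c b * M.z ^ j) * g⁻¹ = g * M.c b * g⁻¹ * (g * M.z ^ j * g⁻¹) := by group
  exact ⟨_, by rw [this, h.conj hb, M.conj_zp h.mem, mul_assoc, ← pow_add]⟩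

theorem p_conj {b : ℕ} (hb : b < 4096) (j : ℕ) :
    ∃ k, M.p * (M.c b * M.z ^ j) * M.p⁻¹ = M.c (ap cX b) * M.z ^ k := cz_conj M M.rp hb j

theorem cX_lt (b : ℕ) : ap cX b < 4096 := ap_lt (k := 12) (by decide) b

theorem pi_conj {b : ℕ} (hb : b < 4096) (j : ℕ) :
    ∃ k, M.p⁻¹ * (M.c b * M.z ^ j) * M.p = M.c (ap cX (ap cX b)) * M.z ^ k := by
  obtain ⟨k, e⟩ := p_conj M hb j
  obtain ⟨l, e'⟩ := p_conj M (cX_lt b) k
  have h1 : M.p⁻¹ = M.p * M.p := inv_eq_of_mul_eq_one_right (by rw [← M.p3, pow_succ', pow_two])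
  refine ⟨l, ?_⟩
  rw [← e', ← e]
  calc M.p⁻¹ * (M.c b * M.z ^ j) * M.p = M.p⁻¹ * (M.c b * M.z ^ j) * (M.p⁻¹)⁻¹ := by rw [inv_inv]
    _ = M.p * M.p * (M.c b * M.z ^ j) * (M.p * M.p)⁻¹ := by rw [h1]
    _ = _ := by group

theorem line_lt {a : ℕ} (ha : a < 4096) (n : ℕ) : ap [a, ap cX a] n < 4096 :=
  ap_lt (k := 12) (by simpa using ⟨ha, cX_lt a⟩) n

/-- The members of a line. -/
theorem mem_Om {a j : ℕ} (ha : a < 4096) {x g : G} (hx : x = M.c a * M.z ^ j) (hg : g ∈ (dat M T).Om x) :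
    ∃ n < 4, ∃ i, g = M.c (ap [a, ap cX a] n) * M.z ^ i := by
  subst hx
  induction hg using closure_induction with
  | mem g h =>
    rcases h with rfl | rfl | rfl
    · exact ⟨1, by norm_num, j, by simp [ap_cons, ap_nil]⟩
    · obtain ⟨k, e⟩ := p_conj M ha j
      exact ⟨2, by norm_num, k, e.trans (by simp [ap_cons, ap_nil])⟩
    · exact ⟨0, by norm_num, 1, by simp [ap_cons, ap_nil, M.c_zero]⟩
  | one => exact ⟨0, by norm_num, 0, by simp [ap_cons, ap_nil, M.c_zero]⟩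
  | mul g h _ _ h1 h2 =>
    obtain ⟨m, hm, i, rfl⟩ := h1
    obtain ⟨n, hn, k, rfl⟩ := h2
    exact ⟨m ^^^ n, Nat.xor_lt_two_pow (n := 2) hm hn, _, by
      rw [cz_mul M (line_lt ha m) (line_lt ha n), J4.ap_xor]⟩
  | inv g _ h1 =>
    obtain ⟨m, hm, i, rfl⟩ := h1
    exact ⟨m, hm, _, cz_inv M (line_lt ha m) i⟩

/-- A basis of `V ⊓ Q`. -/
def W7 : List ℕ := [496, 632, 1228, 640, 1888, 54, 1441]

theorem W7_lt (n : ℕ) : ap W7 n < 2048 := ap_lt (k := 11) (by decide) n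

theorem ap_mem {K : Subgroup G} : ∀ {l : List ℕ}, (∀ a ∈ l, M.v a ∈ K) → ∀ n, M.v (ap l n) ∈ K
  | [], _, _ => by rw [ap_nil, M.v_zero]; exact one_mem _
  | a :: l, h, n => by
    rw [ap_cons, M.v_xor]
    refine mul_mem ?_ (ap_mem (fun b hb => h b (by simp [hb])) _)
    rcases Nat.mod_two_eq_zero_or_one n with e | e <;> rw [e]
    · rw [mul_zero, M.v_zero]; exact one_mem _
    · rw [mul_one]; exact h a (by simp)

theorem W7_Q (n : ℕ) : M.v (ap W7 n) ∈ M.Qs := by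
  refine ap_mem M (fun a ha => ?_) n
  simp only [W7, List.mem_cons, List.not_mem_nil, or_false] at ha
  rcases ha with rfl | rfl | rfl | rfl | rfl | rfl | rfl
  · exact M.v_W (496, 119) (by decide) ▸ c_mem_Qs M (by norm_num)
  · exact M.v_W (632, 153) (by decide) ▸ c_mem_Qs M (by norm_num)
  · exact M.v_W (1228, 299) (by decide) ▸ c_mem_Qs M (by norm_num)
  · exact M.v_W (640, 573) (by decide) ▸ c_mem_Qs M (by norm_num)
  · exact M.v_W (1888, 1082) (by decide) ▸ c_mem_Qs M (by norm_num)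
  · exact M.v_W (54, 2079) (by decide) ▸ c_mem_Qs M (by norm_num)
  · exact M.v_z ▸ z_mem_Qs M

theorem c_ap : ∀ {l : List (ℕ × ℕ)}, (∀ e ∈ l, M.v e.1 = M.c e.2 ∧ e.2 < 4096) → ∀ n, ∃ k,
    M.v (ap (l.map Prod.fst) n) = M.c (ap (l.map Prod.snd) n) * M.z ^ k
  | [], _, _ => ⟨0, by simp [ap_nil, M.v_zero, M.c_zero]⟩
  | e :: l, h, n => by
    have h1 : ∀ d ∈ l, M.v d.1 = M.c d.2 ∧ d.2 < 4096 := fun d hd => h d (by simp [hd])
    obtain ⟨k, ih⟩ := c_ap h1 (n / 2)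
    have h4 : ap (l.map Prod.snd) (n / 2) < 4096 := ap_lt (k := 12) (by simpa using fun a b hab => (h1 _ hab).2) _
    rw [List.map_cons, List.map_cons, ap_cons, ap_cons, M.v_xor, ih]
    rcases Nat.mod_two_eq_zero_or_one n with h0 | h0 <;> rw [h0]
    · exact ⟨k, by rw [mul_zero, mul_zero, M.v_zero, one_mul, Nat.zero_xor]⟩
    · exact ⟨_, by rw [mul_one, mul_one, (h e (by simp)).1, ← mul_assoc, M.c_mul _ (h e (by simp)).2 _ h4, mul_assoc,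
        ← pow_add]⟩

theorem U_dec {w : ℕ} (hw : InW w) (j : ℕ) : ∃ n < 128, M.c w * M.z ^ j = M.v (ap W7 n) := by
  obtain ⟨n, hn, rfl⟩ := J4.inW_iff_exists.1 hw
  obtain ⟨k, e⟩ := c_ap M (l := Wv.zip Wb) (fun e he => ⟨M.v_W e he, by revert e; decide⟩) n
  change M.v (ap Wv n) = M.c (ap Wb n) * M.z ^ k at e
  have h1 : ∀ n < 64, ap W7 n = ap Wv n ∧ ap W7 (n + 64) = ap Wv n ^^^ 1441 := by decide +kernel
  rcases Nat.mod_two_eq_zero_or_one (j + k) with h | h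
  · exact ⟨n, by omega, by rw [(h1 n hn).1, e, M.zp_congr (m := j) (n := k) (by omega)]⟩
  · exact ⟨n + 64, by omega, by
      rw [(h1 n hn).2, M.v_xor, e, M.v_z, mul_assoc, ← pow_succ, M.zp_congr (m := j) (n := k + 1) (by omega)]⟩

theorem genU : M.V ⊓ M.Qs ≤ closure {x | x ∈ M.V ∧ x ∈ M.Qs ∧ (dat M T).cl x} := by
  rintro _ ⟨h1, w, hw, j, rfl⟩
  obtain ⟨n, -, e⟩ := U_dec M ((M.cz_mem_V hw j).1 h1) j
  have h2 : ∀ n, wt (ap W7 n) = 4 → M.v (ap W7 n) ∈ closure {x | x ∈ M.V ∧ x ∈ M.Qs ∧ (dat M T).cl x} :=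
    fun n h => subset_closure ⟨M.v_mem (W7_lt n), W7_Q M n, (cl_v M (W7_lt n)).2 h⟩
  have h3 : ∀ a ∈ W7, wt a = 4 ∨ ∃ n ∈ [5, 9], wt (ap W7 n) = 4 ∧ a = ap W7 1 ^^^ ap W7 n := by decide +kernel
  have h4 : ∀ a ∈ W7, ∃ n ∈ [1, 2, 4, 8, 16, 32, 64], a = ap W7 n := by decide +kernel
  rw [e]
  refine ap_mem M (fun a ha => ?_) n
  rcases h3 a ha with h5 | ⟨n, -, h5, rfl⟩
  · obtain ⟨n, -, rfl⟩ := h4 a ha
    exact h2 n h5
  · rw [M.v_xor]
    exact mul_mem (h2 1 (by decide +kernel)) (h2 n h5)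

theorem orbU {n : ℕ} (hn : n < 128) (h1 : wt (ap W7 n) = 4) (h2 : ap W7 n ≠ 1441) :
    ∃ h ∈ M.H, M.v (ap W7 n) = h * M.v 496 * h⁻¹ := by
  have h3 : (fun m => F24.all2 (fun n => or (not (Nat.beq (wt (ap W7 n)) 4))
      (or (Nat.beq (ap W7 n) 1441) (Nat.testBit m (ap W7 n)))) 7 0)
      (bfs ((dictS.take 7).map fun e => vcols e.1) 100 [496] (Nat.shiftLeft 1 496)) = true := by decide +kernel
  have h4 := F24.all2_spec h3 n hn
  rw [h1] at h4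
  simp only [Nat.beq_refl, Bool.not_true, Bool.false_or, Bool.or_eq_true, Nat.beq_eq] at h4
  have h0 : 496 < 2048 ∧ ∃ h ∈ M.H, M.v 496 = h * M.v 496 * h⁻¹ := ⟨by norm_num, 1, one_mem _, by simp⟩
  refine (bfs_spec (C := fun a => a < 2048 ∧ ∃ h ∈ M.H, M.v a = h * M.v 496 * h⁻¹) ?_ _ _ _ ?_ ?_ _
    (h4.resolve_left h2)).2
  · rintro g hg a ⟨ha, h, hh, e⟩
    obtain ⟨d, hd, rfl⟩ := List.mem_map.1 hg
    have hd := List.mem_of_mem_take hd
    refine ⟨J4.vcols_lt _ _, _, mul_mem (M.rh_S d hd).mem hh, ?_⟩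
    rw [← M.μ_v _ _ (J4.rep_dictS hd) a ha, e]
    group
  · intro b hb
    rw [List.mem_singleton.1 hb]
    exact h0
  · intro b hb
    rw [← J4.testBit_one_shift hb]
    exact h0

theorem ex : M.c 119 = M.v 496 := (M.v_W (496, 119) (by decide)).symm

theorem ey : M.c 1082 = M.v 1888 := (M.v_W (1888, 1082) (by decide)).symm

theorem epx : M.p * M.c 119 * M.p⁻¹ = M.v 632 := by
  rw [M.rp.conj (by norm_num), M.v_W (632, 153) (by decide)]
  show M.c (ap cX 119) * M.z ^ (0 * qn 119 + bn 0 (ap cX 119)) = M.c 153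
  rw [show ap cX 119 = 153 by decide +kernel, show 0 * qn 119 + bn 0 153 = 0 by decide +kernel, pow_zero, mul_one]

theorem cl_ne {a : ℕ} (ha : a < 2048) (h1 : wt a = 4) (h2 : a ≠ 1441) : (dat M T).cl (M.v a) ∧ M.v a ≠ M.z :=
  ⟨(cl_v M ha).2 h1, fun e => h2 ((M.v_eq_iff ha (by norm_num)).1 (e.trans M.v_z.symm))⟩

theorem orbQ {x : G} (hx : x ∈ M.Qs) (h1 : (dat M T).cl x) (h2 : x ≠ M.z) : ∃ h ∈ M.H, x = h * M.c 119 * h⁻¹ := by
  obtain ⟨b, hb, j, rfl⟩ := hx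
  rw [cl_iff] at h1
  have h3 : M.c b * M.z ^ j * (M.c b * M.z ^ j) = 1 := by
    obtain ⟨g, e⟩ := isConj_iff.1 h1
    rw [← e, conj_mul, M.z_mul, mul_one, mul_inv_cancel]
  obtain ⟨_, -, u, w, i, hu, hw, -, e⟩ := M.orbQ' hb (M.qn_eq_zero_of_sq hb h3) j
  obtain ⟨n, hn, e1⟩ := U_dec M hw i
  rw [e, e1] at h1 h2 ⊢
  obtain ⟨h, hh, e2⟩ := orbU M hn ((isConj_v_iff M (W7_lt n)).1 (h1.trans (isConj_iff.2 ⟨u, rfl⟩).symm)) fun e2 => h2 (by
    rw [e2, M.v_z, M.mem_H.1 hu.mem, mul_inv_cancel_right])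
  exact ⟨u * h, mul_mem hu.mem hh, by rw [e2, ex]; group⟩

theorem indep {α β : G} (h1 : α ∈ (dat M T).Om (M.c 119)) (h2 : β ∈ (dat M T).Om (M.c 1082))
    (h3 : α * β ∈ (dat M T).Om (M.c 119 * M.c 1082))
    (h4 : M.p⁻¹ * α * M.p * β ∈ (dat M T).Om (M.p * M.c 119 * M.p⁻¹ * M.c 1082)) : Z2 M.z α := by
  have l1 : 119 < 4096 := by norm_num
  have l2 : 1082 < 4096 := by norm_num
  have l3 : 153 < 4096 := by norm_num
  obtain ⟨m, hm, i, rfl⟩ := mem_Om M (j := 0) l1 (by simp) h1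
  obtain ⟨n, hn, j, rfl⟩ := mem_Om M (j := 0) l2 (by simp) h2
  obtain ⟨r, hr, k, e1⟩ := mem_Om M (xor_lt12 l1 l2) (M.c_mul _ l1 _ l2) h3
  obtain ⟨s, hs, l, e2⟩ := mem_Om M (xor_lt12 l3 l2)
    (by rw [epx, M.v_W (632, 153) (by decide)]; exact M.c_mul _ l3 _ l2) h4
  obtain ⟨t, e3⟩ := pi_conj M (line_lt l1 m) i
  have l4 := cX_lt (ap cX (ap [119, ap cX 119] m))
  rw [cz_mul M (line_lt l1 m) (line_lt l2 n),
    M.c_eq_iff (xor_lt12 (line_lt l1 m) (line_lt l2 n)) (line_lt (xor_lt12 l1 l2) r)] at e1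
  rw [e3, cz_mul M l4 (line_lt l2 n), M.c_eq_iff (xor_lt12 l4 (line_lt l2 n)) (line_lt (xor_lt12 l3 l2) s)] at e2
  have h5 : ∀ m < 4, ∀ n < 4, ap [119, ap cX 119] m = 0 ∨
      (∀ r < 4, ap [119, ap cX 119] m ^^^ ap [1082, ap cX 1082] n ≠ ap [119 ^^^ 1082, ap cX (119 ^^^ 1082)] r) ∨
      ∀ s < 4, ap cX (ap cX (ap [119, ap cX 119] m)) ^^^ ap [1082, ap cX 1082] n ≠
        ap [153 ^^^ 1082, ap cX (153 ^^^ 1082)] s := by decide +kernel
  rw [(h5 m hm n hn).resolve_right (not_or.2 ⟨fun h => h r hr e1.1, fun h => h s hs e2.1⟩), M.c_zero, one_mul]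
  exact z2_zp M i

theorem rank {e : G} (he : e ∈ M.V) (h : ∀ q ∈ M.Qs, ⁅q, e⁆ ∈ (dat M T).Om (M.c 119)) : e ∈ M.Qs := by
  obtain ⟨m, hm, h1⟩ := M.exists_dec_V he
  by_cases h0 : m = 0
  · subst h0
    obtain ⟨w, hw, j, rfl⟩ := h1 1 (M.rh_one.congr (by decide +kernel))
    rw [mul_one]
    exact cz_mem M hw.1 j
  obtain ⟨u, -, hu⟩ := M.exists_selA m
  obtain ⟨w, hw, j, rfl⟩ := h1 u hu
  have h2 := (M.rh_cz hw.1 j).mul hu
  have h3 : ∀ m < 16, m ≠ 0 → ∃ b ∈ [1, 4], ∀ n < 4,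
      b ^^^ ap (J4.mm F24.idc (hsel dictA m).A) b ≠ ap [119, ap cX 119] n := by decide +kernel
  obtain ⟨b, hb, h4⟩ := h3 m hm h0
  have hb : b < 4096 := (by decide : ∀ b ∈ [1, 4], b < 4096) b hb
  obtain ⟨n, hn, i, e1⟩ := mem_Om M (j := 0) (a := 119) (by norm_num) (by simp) (h _ (cz_mem M hb 0))
  obtain ⟨k, e2⟩ := cz_conj M h2 hb 0
  have e3 : ∀ a g : G, ⁅a, g⁆ = a * (g * a * g⁻¹)⁻¹ := fun a g => by rw [commutatorElement_def]; group
  rw [e3, e2, cz_inv M (h2.lt hb), cz_mul M hb (h2.lt hb),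
    M.c_eq_iff (xor_lt12 hb (h2.lt hb)) (line_lt (by norm_num) n)] at e1
  exact absurd e1.1 (h4 n hn)

end MH2

open MH2 in
theorem mh2 : MH2 := fun M T _ =>
  { orbQ := fun _ => orbQ M
    x_V := by show M.c 119 ∈ M.V; rw [ex]; exact M.v_mem (by norm_num)
    x_Q := c_mem_Qs M (by norm_num)
    y_V := by show M.c 1082 ∈ M.V; rw [ey]; exact M.v_mem (by norm_num)
    y_Q := c_mem_Qs M (by norm_num)
    x_cl := by
      show (dat M T).cl (M.c 119) ∧ M.c 119 ≠ M.z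
      rw [ex]; exact cl_ne M (by norm_num) (by decide +kernel) (by norm_num)
    y_cl := by
      show (dat M T).cl (M.c 1082) ∧ M.c 1082 ≠ M.z
      rw [ey]; exact cl_ne M (by norm_num) (by decide +kernel) (by norm_num)
    xy_cl := by
      show (dat M T).cl (M.c 119 * M.c 1082) ∧ M.c 119 * M.c 1082 ≠ M.z
      rw [ex, ey, ← M.v_xor]; exact cl_ne M (by decide) (by decide +kernel) (by decide)
    pxy_cl := by
      show (dat M T).cl (M.p * M.c 119 * M.p⁻¹ * M.c 1082) ∧ M.p * M.c 119 * M.p⁻¹ * M.c 1082 ≠ M.z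
      rw [epx, ey, ← M.v_xor]; exact cl_ne M (by decide) (by decide +kernel) (by decide)
    indep := fun _ h1 _ h2 h3 h4 => indep M h1 h2 h3 h4
    rank := fun _ => rank M
    genU := genU M }

end CL.SJ
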