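/-
Project SJ4, job MJ1: the structure of `J = H'` in the model of the fourth Janko group.
-/
import Cfsg.Agent.SJ4.Mod0

set_option autoImplicit false
open Cfsg Subgroup MulAction CL.Even CL.Grp CL.Wr CL.Spor
open CL.J4 (JM NM HM HC wt hk hy hf hs qn bn bet bfs bfs_spec testBit_one_shift xor_ind xor_lt12)
open CL.F24 (ap all2 all2_spec)
open scoped commutatorElement Pointwise

namespace CL.SJ

namespace MJ1a

/-- the orbit of the vector `r` -/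
noncomputable def orb (r : ℕ) : ℕ := bfs [hy.A, hf.A, hs.A, hk.A] 2100 [r] (Nat.shiftLeft 1 r)

theorem orb_ok : (fun A B C : ℕ => and (all2 (fun a => or (or (Nat.beq a 0) (Nat.testBit A a))
    (or (Nat.testBit B a) (Nat.testBit C a))) 12 0) (and (and (Nat.testBit A (Nat.xor 5 (ap hf.A 5)))
    (Nat.testBit A (Nat.xor 18 (ap hf.A 18)))) (all2 (fun i => or (Nat.ble 12 i) (Nat.testBit A (Nat.pow 2 i))) 4 0)))
    (orb 1) (orb 5) (orb 18) = true := by decide +kernel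

variable {G : Type*} [Group G] (M : JM G) {N P : Subgroup G}

theorem orb_spec {C : ℕ → Prop} (h : ∀ X g, M.RH X g → ∀ a, C a → C (ap X.A a)) {r b : ℕ} (hr : C r)
    (hb : (orb r).testBit b = true) : C b :=
  bfs_spec (fun g hg => by
    simp only [List.mem_cons, List.not_mem_nil, or_false] at hg
    rcases hg with rfl | rfl | rfl | rfl
    exacts [h _ _ M.rh_y, h _ _ M.rh_f, h _ _ M.rh_s, h _ _ M.rh_k]) _ _ _ (by simpa using hr)
    (fun _ e => testBit_one_shift e ▸ hr) b hb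

theorem irrQ (hn : M.H ≤ 𝒩(N)) {a j : ℕ} (ha : a < 4096) (a0 : a ≠ 0) (h : M.c a * M.z ^ j ∈ N) : M.Qs ≤ N := by
  let C : ℕ → Prop := fun a => a < 4096 ∧ ∃ j : ℕ, M.c a * M.z ^ j ∈ N
  have cx : ∀ a b, C a → C b → C (a ^^^ b) := fun a b ⟨ha, i, hi⟩ ⟨hb, j, hj⟩ => ⟨xor_lt12 ha hb, bet a b + (i + j), by
    have := mul_mem hi hj
    rwa [mul_assoc, ← mul_assoc (M.z ^ i), ← M.zp_comm (M.c_mem b), mul_assoc, ← mul_assoc, M.c_mul a ha b hb,
      mul_assoc, ← pow_add, ← pow_add] at this⟩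
  have e : ∀ {X g}, M.RH X g → ∀ {a}, a < 4096 → ∃ k, ∀ j : ℕ,
      g * (M.c a * M.z ^ j) * g⁻¹ = M.c (ap X.A a) * M.z ^ (k + j) := fun hX _ ha =>
    ⟨_, fun j => by rw [← conj_mul, hX.conj ha, M.conj_zp hX.mem, mul_assoc, ← pow_add]⟩
  have c1 : ∀ X g, M.RH X g → ∀ a, C a → C (ap X.A a) := fun X g hX a ⟨ha, j, hj⟩ =>
    let ⟨k, hk⟩ := e hX ha
    ⟨hX.lt ha, k + j, hk j ▸ conj_mem (hn hX.mem) hj⟩
  have c2 : ∀ X g, M.RH X g → ∀ a, a < 4096 ∧ (C a → C 1) → ap X.A a < 4096 ∧ (C (ap X.A a) → C 1) :=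
    fun X g hX a ⟨ha, h1⟩ => ⟨hX.lt ha, fun ⟨_, j, hj⟩ => h1 ⟨ha, by
      obtain ⟨k, hk⟩ := e hX ha
      refine ⟨k + j, (mem_normalizer_iff.1 (hn hX.mem) _).2 ?_⟩
      rwa [hk, M.zp_congr (n := j) (by omega)]⟩⟩
  have ok := orb_ok
  simp only [Bool.and_eq_true] at ok
  obtain ⟨k1, ⟨k2, k3⟩, k4⟩ := ok
  have d1 : ∀ b, (orb 1).testBit b = true → C b → C 1 := fun b hb => (orb_spec M c2 ⟨by norm_num, id⟩ hb).2
  have h1 : C 1 := by
    have := all2_spec k1 a ha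
    simp only [Bool.or_eq_true, Nat.beq_eq] at this
    rcases this with (e | e) | e | e
    · exact absurd e a0
    · exact d1 a e ⟨ha, j, h⟩
    · exact (orb_spec M c2 ⟨by norm_num, fun h => d1 _ k2 (cx _ _ h (c1 _ _ M.rh_f _ h))⟩ e).2 ⟨ha, j, h⟩
    · exact (orb_spec M c2 ⟨by norm_num, fun h => d1 _ k3 (cx _ _ h (c1 _ _ M.rh_f _ h))⟩ e).2 ⟨ha, j, h⟩
  have h2 : ∀ a < 2 ^ 12, C a := xor_ind ⟨by norm_num, 0, by simp [M.c_zero]⟩ 12 (fun i hi => by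
    have := all2_spec k4 i (by omega)
    simp only [Bool.or_eq_true, Nat.ble_eq] at this
    exact orb_spec M c1 h1 (this.resolve_left (by omega))) fun a _ b _ => cx a b
  have hz : M.z ∈ N := by
    obtain ⟨-, i, hi⟩ := h1
    have := conj_mem (hn (M.c_mem 2)) hi
    rwa [← conj_mul, M.c_conj (by norm_num) (by norm_num), M.conj_zp (M.c_mem 2), show bn 2 1 = 1 by decide +kernel,
      mul_assoc, pow_mul_comm, ← mul_assoc, mul_mem_cancel_left hi, pow_one] at this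
  rintro _ ⟨b, hb, i, rfl⟩
  obtain ⟨-, k, hk⟩ := h2 b hb
  exact mul_mem ((mul_mem_cancel_right (pow_mem hz k)).1 hk) (pow_mem hz i)

theorem not_z2 : ¬ Z2 M.z (M.c 119) := fun h => absurd (M.c_inj (by norm_num) (M.mem_Z.2 h)) (by norm_num)

theorem v496 : M.v 496 = M.c 119 := M.v_W (496, 119) (by decide)

variable [Finite G]

theorem nz {T : Subgroup G} (o : OkA (dat M T)) (hN : N ≤ M.H) (hn : M.H ≤ 𝒩(N)) :
    (∀ x ∈ N, Z2 M.z x) ∨ M.Qs ≤ N := by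
  refine or_iff_not_imp_right.2 fun h => ?_
  have k : ∀ x ∈ N, x ∈ M.Qs → Z2 M.z x := by
    rintro _ hx ⟨a, ha, j, rfl⟩
    by_cases a0 : a = 0
    · rw [a0, M.c_zero, one_mul]; exact z2_zp M j
    · exact absurd (irrQ M hn ha a0 hx) h
  refine fun x hx => k x hx (o.cQ x (hN hx) fun q hq => k _ ?_ ?_)
  · simpa [commutatorElement_def, mul_assoc] using mul_mem hx (conj_mem (hn (M.Qs_le hq)) (inv_mem hx))
  · exact mul_mem (conj_mem (M.H_le_normalizer_Qs (hN hx)) hq) (inv_mem hq)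

/-- the elements of the kernel -/
theorem ker_dec {g : G} (hg : g ∈ M.H) (h : M.π ⟨g, hg⟩ = 1) : ∃ i : ℕ, ∃ q ∈ M.Qs, g = M.p ^ i * q := by
  obtain ⟨a, ha, i, j, e⟩ := M.ker _ h
  exact ⟨i, _, mul_mem (conj_mem' (M.H_le_normalizer_Qs (pow_mem M.rp.mem i)) (c_mem_Qs M ha)) (pow_mem (z_mem_Qs M) j),
    e.trans (by group)⟩

theorem J_le : ⁅M.H, M.H⁆ ≤ M.H := fun _ h => ((mem_J M).1 h).1

theorem J_perf : ⁅M.H, M.H⁆ ≤ ⁅⁅M.H, M.H⁆, ⁅M.H, M.H⁆⁆ := fun g hg => by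
  have h1 : M.Cp ≤ ⁅⁅M.H, M.H⁆, ⁅M.H, M.H⁆⁆ := M.Cp_perfect.ge.trans (commutator_mono (Cp_le_J M) (Cp_le_J M))
  obtain ⟨q, hq, k, hk, rfl⟩ := J_dec M hg
  exact mul_mem (Qs_le_of M (h1 M.z_mem_K0) (fun b hb =>
    commutator_mem_commutator (Cp_le_J M M.p_mem_K0) (Qs_le_J M (c_mem_Qs M hb))) hq) (h1 hk)

theorem J_idx : (⁅M.H, M.H⁆ : Subgroup G).relIndex M.H = 2 := by
  have h1 : (⁅M.H, M.H⁆ : Subgroup G).subgroupOf M.H = (fixS duad0 : Subgroup M24).comap M.π :=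
    Subgroup.ext fun x => (mem_J M).trans ⟨fun ⟨_, h⟩ => h, fun h => ⟨x.2, h⟩⟩
  have h2 := card_mul_relIndex (fixS_le_stabilizer (G := M24) duad0)
  rw [card_fixS_two duad0_card, card_stabilizer_duad duad0_card] at h2
  rw [relIndex, h1, index_comap, M.range]
  omega

theorem im_cases (hP : P ≤ ⁅M.H, M.H⁆) (hn : ⁅M.H, M.H⁆ ≤ 𝒩(P)) : M.im P = ⊥ ∨ M.im P = fixS duad0 := by
  have h1 : M.im P ≤ fixS duad0 := by
    rintro _ ⟨g, hg, rfl⟩
    exact ((mem_J M).1 (hP hg)).2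
  haveI := fixS_two_simple duad0_card
  have h2 : ((M.im P).subgroupOf (fixS duad0)).Normal :=
    (normal_subgroupOf_iff_le_normalizer h1).2 (le_normalizer_iff.2 fun x hx y hy => by
      obtain ⟨g, hg, rfl⟩ := M.exists_K0 hx
      obtain ⟨k, hk, rfl⟩ := hy
      exact ⟨⟨g, hg.1⟩ * k * ⟨g, hg.1⟩⁻¹, conj_mem (hn (Cp_le_J M hg)) hk, by simp only [map_mul, map_inv]⟩)
  exact h2.eq_bot_or_eq_top.imp (fun e => by rwa [subgroupOf_eq_bot, disjoint_iff, inf_eq_left.2 h1] at e)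
    fun e => le_antisymm h1 (subgroupOf_eq_top.1 e)

theorem O2J (hP : P ≤ ⁅M.H, M.H⁆) (h2 : IsPGroup 2 P) (hn : ⁅M.H, M.H⁆ ≤ 𝒩(P)) : P ≤ M.Qs := fun g hg => by
  rcases im_cases M hP hn with e | e
  · obtain ⟨i, q, hq, rfl⟩ := ker_dec M (J_le M (hP hg)) (mem_bot.1 (e ▸ M.mem_im.2 ⟨g, hg, _, rfl⟩))
    obtain ⟨n, h3⟩ := h2 ⟨_, hg⟩
    obtain ⟨k, hk, e1⟩ := exists_mul_pow_eq (M.H_le_normalizer_Qs (pow_mem M.rp.mem i)) hq (2 ^ n)
    refine mul_mem (mem_of_pow_mem_of_coprime (n := 2 ^ n) ?_ ?_) hq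
    · exact Nat.Coprime.coprime_dvd_left ((orderOf_pow_dvd i).trans M.orderOf_p.dvd) (Nat.Coprime.pow_right n (by decide))
    · rw [eq_inv_of_mul_eq_one_left (e1.symm.trans (congrArg Subtype.val h3))]
      exact inv_mem hk
  · obtain ⟨n, h3⟩ := IsPGroup.iff_card.1 ((h2.comap_subtype (K := M.H)).map M.π)
    replace h3 : Nat.card (M.im P) = 2 ^ n := h3
    rw [e, card_fixS_two duad0_card] at h3
    exact absurd (Nat.prime_three.dvd_of_dvd_pow (h3 ▸ (by norm_num : 3 ∣ 443520))) (by decide)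

theorem genJ {T : Subgroup G} (o : OkA (dat M T)) : ⁅M.H, M.H⁆ ≤ closure {x | ∃ h ∈ M.H, x ∈ cj h M.V} := by
  set Y := closure {x | ∃ h ∈ M.H, x ∈ cj h M.V}
  have h1 : Y ≤ ⁅M.H, M.H⁆ := (closure_le _).2 fun x ⟨h, hh, hx⟩ =>
    cj_le_of_le (V_le_J M) (le_norm_commutator le_normalizer le_normalizer hh) hx
  have h2 : M.H ≤ 𝒩(Y) := le_norm_of_cj_le fun g hg => cj_le_iff.2 ((closure_le _).2 fun x ⟨h, hh, hx⟩ =>
    mem_cj.2 (subset_closure ⟨g * h, mul_mem hg hh, by rw [cj_mul, inv_inv]; exact conj_mem_cj g hx⟩))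
  have h3 : M.V ≤ Y := fun x hx => subset_closure ⟨1, one_mem _, by rwa [cj_one]⟩
  have h4 : M.Qs ≤ Y := (nz M o (h1.trans (J_le M)) h2).resolve_left fun h =>
    not_z2 M (h _ (h3 (v496 M ▸ M.v_mem (by norm_num))))
  have h5 := (im_cases M h1 ((J_le M).trans h2)).resolve_left fun e => by
    have := card_le_of_le (M.im_V ▸ e ▸ map_mono (comap_mono h3) : (fixS oct0 : Subgroup M24) ≤ ⊥)
    rw [J4.chainE.card_eq, card_bot] at this
    exact absurd this (by decide +kernel)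
  haveI : (Y.subgroupOf M.H).Normal := (normal_subgroupOf_iff_le_normalizer (h1.trans (J_le M))).2 h2
  have h6 : ∀ j (hj : j ∈ ⁅M.H, M.H⁆), ∃ i : ℕ, QuotientGroup.mk' (Y.subgroupOf M.H) ⟨j, J_le M hj⟩ =
      QuotientGroup.mk' _ ⟨M.p, M.rp.mem⟩ ^ i := fun j hj => by
    obtain ⟨y, hy, e⟩ := h5.ge ((mem_J M).1 hj).2
    obtain ⟨i, q, hq, e1⟩ := ker_dec M (mul_mem (J_le M hj) (inv_mem y.2))
      (show M.π (⟨j, J_le M hj⟩ * y⁻¹) = 1 by rw [map_mul, map_inv, e, mul_inv_cancel])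
    refine ⟨i, Eq.symm ?_⟩
    rw [← map_pow, QuotientGroup.mk'_apply, QuotientGroup.mk'_apply, QuotientGroup.eq]
    show (M.p ^ i)⁻¹ * j ∈ Y
    rw [mul_inv_eq_iff_eq_mul.1 e1, mul_assoc, inv_mul_cancel_left]
    exact mul_mem (h4 hq) hy
  refine (J_perf M).trans (commutator_le.2 fun a ha b hb => ?_)
  obtain ⟨i, hi⟩ := h6 a ha
  obtain ⟨k, hk⟩ := h6 b hb
  refine (QuotientGroup.eq_one_iff (N := Y.subgroupOf M.H) ⁅(⟨a, J_le M ha⟩ : M.H), ⟨b, J_le M hb⟩⁆).1 ?_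
  rw [← QuotientGroup.mk'_apply, map_commutatorElement, hi, hk, commutatorElement_eq_one_iff_commute]
  exact Commute.pow_pow_self _ i k

end MJ1a

open MJ1a in
theorem mj1 : MJ1 := fun M T o =>
  { Q_J := Qs_le_J M
    V_J := V_le_J M
    p_J := Cp_le_J M M.p_mem_K0
    J_perf := J_perf M
    card_J := by
      have := card_mul_relIndex (J_le M)
      rw [J_idx, M.card_H] at this
      show Nat.card (⁅M.H, M.H⁆ : Subgroup _) = _
      omega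
    H_dec := fun h hh => by
      obtain ⟨x, hx, h1⟩ := SetLike.not_le_iff_exists.1 fun e : T ≤ ⁅M.H, M.H⁆ =>
        (o.syl.of_le o.T_H le_top).not_dvd_relIndex_of_le e (J_le M) (J_idx M).symm.dvd
      by_cases e : h ∈ ⁅M.H, M.H⁆
      · exact ⟨h, e, 1, one_mem _, (mul_one h).symm⟩
      · exact ⟨h * x⁻¹, (mul_mem_iff_of_index_two (J_idx M) (a := ⟨h, hh⟩) (b := ⟨x, o.T_H hx⟩⁻¹)).2
          (iff_of_false e fun e => h1 (inv_mem_iff.1 e)), x, hx, (inv_mul_cancel_right h x).symm⟩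
    O2J := fun _ => O2J M
    nz := fun _ => nz M o
    genJ := genJ M o
    genQ := (nz M o ((closure_le _).2 fun x hx => M.Qs_le hx.1) (le_norm_of_cj_le fun g hg => cj_le_iff.2
      ((closure_le _).2 fun x hx => mem_cj.2 (subset_closure (by
        rw [inv_inv]; exact ⟨conj_mem (M.H_le_normalizer_Qs hg) hx.1, hx.2.conj trivial⟩))))).resolve_left fun h =>
      not_z2 M (h _ (subset_closure ⟨c_mem_Qs M (by norm_num), v496 M ▸ (cl_v M (by norm_num)).2 (by decide +kernel)⟩)) }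

end CL.SJ
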