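/-
Project SJ4, job MJ2: the derived group `2¹¹ : M₂₂` of the centraliser of an involution of the second class.
-/
import Cfsg.Agent.SJ4.Mod0

set_option autoImplicit false
set_option linter.unusedSectionVars false
open Cfsg Subgroup MulAction CL.Even CL.Grp CL.Wr CL.Spor
open CL.J4 (JM NM HM HC vcols M22_perfect cent_M22 bfs bfs_spec testBit_one_shift y0 s0 vcols_lt mem_stab_duad0 xor_ind
  xor_lt11)
open CL.F24 (ap all2 all2_spec)
open scoped commutatorElement Pointwise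

namespace CL.SJ

namespace MJ2a

/-- the orbit of `r` -/
noncomputable def ob (r : ℕ) : ℕ := bfs [vcols y0, vcols pC, vcols s0, vcols pB] 2048 [r] (Nat.shiftLeft 1 r)

theorem cover : (fun A B C D => all2 (fun a => or (or (or (Nat.beq a 0) (Nat.beq a 1141)) (or (Nat.testBit A a)
    (Nat.testBit B a))) (or (Nat.testBit C a) (Nat.testBit D a))) 11 0 &&
    allL (Nat.testBit A) [1, 2, 4, 8, 16, 32, 64, 128, 256, 512, 1024] && allL (Nat.testBit B) [6, 40, 47] &&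
    allL (Nat.testBit C) [14, 15] && allL (Nat.testBit D) [27, 79, 85]) (ob 1) (ob 3) (ob 7) (ob 27) = true := by
  decide +kernel

theorem rep_y : Rep y0 (m24 y0) := rep_m24 (by decide +kernel)

theorem y_F : m24 y0 ∈ (fixS duad0 : Subgroup M24) := rep_y.mem_fixS_iff.2 (by decide +kernel)

theorem F_norm {x k : M24} (hx : x ∈ stabilizer M24 duad0) (hk : k ∈ (fixS duad0 : Subgroup M24)) :
    x⁻¹ * k * x ∈ (fixS duad0 : Subgroup M24) := mem_fixS_smul.1 (by rwa [mem_stabilizer_iff.1 hx])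

variable {G : Type*} [Group G] [Finite G] (M : JM G)

/-- the submodules of `V` -/
theorem sub {Y : Subgroup G} (hY : ∀ x ∈ stabilizer M24 duad0, M.μ x ∈ 𝒩(Y)) {a : ℕ} (ha : a < 2048) (h0 : a ≠ 0)
    (h1 : a ≠ 1141) (h : M.v a ∈ Y) : M.V ≤ Y := by
  have ho : ∀ r < 2048, ∀ b, (ob r).testBit b = true → b < 2048 ∧ (M.v b ∈ Y ↔ M.v r ∈ Y) := fun r hr =>
    bfs_spec (C := fun b => b < 2048 ∧ (M.v b ∈ Y ↔ M.v r ∈ Y)) (fun g hg b hb => by
      obtain ⟨P, hP, e, rfl⟩ : ∃ P, inM24 P = true ∧ ap (vcols P) 1141 = 1141 ∧ g = vcols P := by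
        simp only [List.mem_cons, List.not_mem_nil, or_false] at hg
        rcases hg with h | h | h | h <;> exact ⟨_, by decide +kernel, by decide +kernel, h⟩
      refine ⟨vcols_lt _ _, ?_⟩
      rw [← M.μ_v P _ (rep_m24 hP) b hb.1, ← hb.2]
      exact (mem_normalizer_iff.1 (hY _ ((mem_stab_duad0 (rep_m24 hP)).2 e)) _).symm) _ _ _
      (fun b hb => (List.mem_singleton.1 hb).symm ▸ ⟨hr, Iff.rfl⟩) fun b hb => testBit_one_shift hb ▸ ⟨hr, Iff.rfl⟩
  have c := cover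
  simp only [Bool.and_eq_true, allL_iff] at c
  obtain ⟨⟨⟨⟨c0, c1⟩, c3⟩, c7⟩, c27⟩ := c
  have x : ∀ {a b}, M.v a ∈ Y → M.v b ∈ Y → M.v (a ^^^ b) ∈ Y := fun ha hb => M.v_xor _ _ ▸ mul_mem ha hb
  have k1 : M.v 1 ∈ Y := by
    have := all2_spec c0 a ha
    simp only [Bool.or_eq_true, Nat.beq_eq, h0, h1, false_or] at this
    rcases this with (e | e) | e | e
    · exact (ho 1 (by norm_num) a e).2.1 h
    · have k := fun b hb => (ho 3 (by norm_num) b (c3 b hb)).2.2 ((ho 3 (by norm_num) a e).2.1 h)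
      exact x (x (k 6 (by simp)) (k 40 (by simp))) (k 47 (by simp))
    · have k := fun b hb => (ho 7 (by norm_num) b (c7 b hb)).2.2 ((ho 7 (by norm_num) a e).2.1 h)
      exact x (k 14 (by simp)) (k 15 (by simp))
    · have k := fun b hb => (ho 27 (by norm_num) b (c27 b hb)).2.2 ((ho 27 (by norm_num) a e).2.1 h)
      exact x (x (k 27 (by simp)) (k 79 (by simp))) (k 85 (by simp))
  intro g hg
  obtain ⟨b, hb, rfl⟩ := (M.mem_V g).1 hg
  refine xor_ind (C := fun b => M.v b ∈ Y) (M.v_zero ▸ one_mem Y) 11 (fun i hi => ?_) (fun _ _ _ _ => x) b hb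
  exact (ho 1 (by norm_num) _ (c1 _ (by interval_cases i <;> simp))).2.2 k1

/-- the centraliser -/
abbrev C : Subgroup G := ⊤ ⊓ centralizer {M.t}

theorem V_C : M.V ≤ C M := le_inf le_top M.V_le_cent_t

theorem μ_C {x : M24} (hx : x ∈ stabilizer M24 duad0) : M.μ x ∈ C M := ⟨mem_top _, M.map_le_cent_t ⟨x, hx, rfl⟩⟩

theorem C_N : C M ≤ M.N := inf_le_right.trans M.centT

theorem nu_D {g : G} (hg : g ∈ C M) : nu M ⟨g, C_N M hg⟩ ∈ stabilizer M24 duad0 := by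
  obtain ⟨X, hX⟩ := M.exists_rn (C_N M hg)
  rw [← (nu_rn M hX).m24_eq]
  exact hX.cent_t_iff.1 hg.2

theorem comm_y {n : G} {a : ℕ} (e : n = M.v a * M.μ (m24 y0)) : ⁅n, M.v 1⁆ = M.v 1182 := by
  rw [commutatorElement_def, e, M.conj_v rep_y (by norm_num), M.v_inv, ← M.v_xor]
  exact congrArg M.v (by decide +kernel)

theorem V_le {K : Subgroup G} (hV : M.V ≤ K) (hy : M.μ (m24 y0) ∈ K) (hn : C M ≤ 𝒩(K)) : M.V ≤ ⁅K, K⁆ :=
  sub M (fun _ hx => le_norm_commutator hn hn (μ_C M hx)) (a := 1182) (by norm_num) (by norm_num) (by norm_num)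
    (comm_y M (a := 0) (by rw [M.v_zero, one_mul]) ▸ commutator_mem_commutator hy (hV (M.v_mem (by norm_num))))

theorem μ_le {K : Subgroup G} (h : ∀ x ∈ (fixS duad0 : Subgroup M24), M.μ x ∈ K) {x : M24}
    (hx : x ∈ (fixS duad0 : Subgroup M24)) : M.μ x ∈ ⁅K, K⁆ := by
  have h1 : (fixS duad0 : Subgroup M24).map M.μ ≤ K := map_le_iff_le_comap.2 h
  refine commutator_mono h1 h1 ?_
  rw [← map_commutator]
  exact mem_map_of_mem _ (M22_perfect hx)

theorem V_K : M.V ≤ ⁅C M, C M⁆ := V_le M (V_C M) (μ_C M (fixS_le_stabilizer _ y_F)) le_normalizer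

theorem μ_K {x : M24} (hx : x ∈ (fixS duad0 : Subgroup M24)) : M.μ x ∈ ⁅C M, C M⁆ :=
  μ_le M (fun _ h => μ_C M (fixS_le_stabilizer _ h)) hx

theorem mem_K {g : G} : g ∈ ⁅C M, C M⁆ ↔ ∃ a < 2048, ∃ x ∈ (fixS duad0 : Subgroup M24), g = M.v a * M.μ x := by
  refine ⟨fun h => ?_, ?_⟩
  · have h1 : ⁅C M, C M⁆ ≤ ((fixS duad0 : Subgroup M24).comap (nu M)).map M.N.subtype :=
      commutator_le.2 fun a ha b hb => ⟨⁅(⟨a, C_N M ha⟩ : M.N), (⟨b, C_N M hb⟩ : M.N)⁆, by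
        obtain ⟨u, hu⟩ := M.range.ge (nu_D M ha)
        obtain ⟨v, hv⟩ := M.range.ge (nu_D M hb)
        rw [SetLike.mem_coe, mem_comap, map_commutatorElement, ← hu, ← hv, ← map_commutatorElement]
        exact ((mem_J M).1 (commutator_mem_commutator u.2 v.2)).2, rfl⟩
    obtain ⟨x, hx, rfl⟩ := h1 h
    obtain ⟨a, ha, e⟩ := eq_v_mul M x
    exact ⟨a, ha, _, hx, e⟩
  · rintro ⟨a, ha, x, hx, rfl⟩
    exact mul_mem (V_K M (M.v_mem ha)) (μ_K M hx)

theorem dich {Y : Subgroup G} (h : Y ≤ C M) (hn : ∀ x ∈ (fixS duad0 : Subgroup M24), M.μ x ∈ 𝒩(Y)) :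
    Y ≤ M.V ∨ (fixS duad0 : Subgroup M24) ≤ (Y.subgroupOf M.N).map (nu M) := by
  have h1 : ∀ k ∈ (fixS duad0 : Subgroup M24), ∀ x ∈ (Y.subgroupOf M.N).map (nu M),
      k * x * k⁻¹ ∈ (Y.subgroupOf M.N).map (nu M) := by
    rintro k hk _ ⟨g, hg, rfl⟩
    exact ⟨⟨_, M.μ_mem k⟩ * g * ⟨_, M.μ_mem k⟩⁻¹, conj_mem (hn k hk) hg, by rw [map_mul, map_mul, map_inv, nu_μ]⟩
  have := fixS_two_simple duad0_card
  have h2 : (((Y.subgroupOf M.N).map (nu M)).subgroupOf (fixS duad0)).Normal := ⟨fun x hx k => h1 k k.2 x hx⟩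
  refine h2.eq_bot_or_eq_top.imp (fun e g hg => ?_) subgroupOf_eq_top.1
  have hx : nu M ⟨g, C_N M (h hg)⟩ ∈ (Y.subgroupOf M.N).map (nu M) := mem_map_of_mem _ hg
  refine (nu_ker M ⟨g, C_N M (h hg)⟩).1 (mem_bot.1 (cent_M22.le (mem_centralizer_iff.2 fun k hk => ?_)))
  have h3 := F_norm (nu_D M (h hg)) hk
  generalize nu M ⟨g, C_N M (h hg)⟩ = x at hx h3
  have h4 : k⁻¹ * (x⁻¹ * k * x) = 1 := (subgroupOf_eq_bot.1 e).le_bot (mem_inf.2 ⟨by
    simpa [mul_assoc] using mul_mem (h1 _ (inv_mem hk) _ (inv_mem hx)) hx, mul_mem (inv_mem hk) h3⟩)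
  rw [inv_mul_eq_one, mul_assoc, eq_inv_mul_iff_mul_eq] at h4
  exact h4.symm

end MJ2a

open MJ2a in
theorem mj2 : MJ2 := by
  intro Γ _ _ M T _
  have kn : C M ≤ 𝒩(⁅C M, C M⁆) := le_norm_commutator le_normalizer le_normalizer
  refine ⟨V_K M, fun g hg => ?_, ?_, fun P h1 h2 h3 => ?_, fun N h1 h2 => ?_, fun g _ hg => ?_⟩
  · obtain ⟨a, ha, x, hx, rfl⟩ := (mem_K M).1 hg
    exact mul_mem (V_le M (V_K M) (μ_K M y_F) kn (M.v_mem ha)) (μ_le M (fun _ h => μ_K M h) hx)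
  · let f : Fin 2048 × (fixS duad0 : Subgroup M24) → (⁅C M, C M⁆ : Subgroup Γ) := fun e =>
      ⟨M.v e.1 * M.μ e.2, (mem_K M).2 ⟨_, e.1.2, _, e.2.2, rfl⟩⟩
    have hf : Function.Bijective f := ⟨fun a b h => by
      have := (M.vμ_eq_iff a.1.2 b.1.2).1 (congrArg Subtype.val h)
      exact Prod.ext (Fin.ext this.1) (Subtype.ext this.2), fun g => by
      obtain ⟨a, ha, x, hx, e⟩ := (mem_K M).1 g.2
      exact ⟨(⟨a, ha⟩, ⟨x, hx⟩), Subtype.ext e.symm⟩⟩
    refine (Nat.card_congr (Equiv.ofBijective f hf)).symm.trans ?_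
    rw [Nat.card_prod, card_fixS_two duad0_card]
    simp
  · refine (dich M (h1.trans (comm_le_self _)) fun x hx => h3 (μ_K M hx)).resolve_right fun e => ?_
    have := Fact.mk Nat.prime_two
    obtain ⟨n, hn⟩ := IsPGroup.iff_card.1 ((h2.comap_subtype.map (nu M)).to_le e)
    rw [card_fixS_two duad0_card] at hn
    exact absurd (Nat.prime_three.dvd_of_dvd_pow (m := 2) (n := n) (by rw [← hn]; norm_num)) (by norm_num)
  · have hD : ∀ x ∈ stabilizer M24 duad0, M.μ x ∈ 𝒩(N) := fun x hx => h2 (μ_C M hx)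
    rcases dich M h1 fun x hx => hD x (fixS_le_stabilizer _ hx) with e | e
    · refine or_iff_not_imp_left.2 fun hn => ?_
      push Not at hn
      obtain ⟨x, hx, hn⟩ := hn
      obtain ⟨a, ha, rfl⟩ := (M.mem_V x).1 (e hx)
      exact sub M hD ha (fun e => hn (.inl (e ▸ M.v_zero))) (fun e => hn (.inr (e ▸ rfl))) hx
    · obtain ⟨n, hn, e1⟩ := e y_F
      obtain ⟨a, -, e2⟩ := eq_v_mul M n
      refine .inr (sub M hD (a := 1182) (by norm_num) (by norm_num) (by norm_num) ?_)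
      rw [← comm_y M (e1 ▸ e2)]
      exact commutator_le_of_le_norm h2 (commutator_mem_commutator hn (V_C M (M.v_mem (by norm_num))))
  · obtain ⟨a, ha, rfl⟩ := (M.mem_V g).1 (M.cent_V (cent_mono (V_K M) hg))
    have e := M.μ_v _ _ rep_y a ha
    rw [comm_of_mem hg (μ_K M y_F), mul_inv_cancel_right, M.v_eq_iff ha (vcols_lt _ _)] at e
    have c : (fun A => all2 (fun a => or (or (Nat.beq a 0) (Nat.beq a 1141)) (not (Nat.beq a (ap A a)))) 11 0)
        (vcols y0) = true := by decide +kernel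
    have := all2_spec c a ha
    rw [← e] at this
    simp only [Bool.or_eq_true, Nat.beq_eq, Nat.beq_refl, Bool.not_true, Bool.false_eq_true, or_false] at this
    rcases this with rfl | rfl
    exacts [.inl M.v_zero, .inr rfl]

end CL.SJ
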