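/-
Project SJ4: the action of `M24` on `V` in the model of the fourth Janko group.
-/
import Cfsg.Agent.SJ4.Mod0

set_option autoImplicit false
open Cfsg Subgroup MulAction CL.Even CL.Grp CL.Wr CL.Spor
open CL.J4 (JM NM HM HC wt vcols hk D_cases fixS_duad0 M22_perfect evn_spec qn bn vc vc_lt wt_vc wt_zero vc_eq_iff exists_vc
  VC dictS Wv Wb y0 xor_ind vcols_lt xor_lt11)
open CL.F24 (ap cX all2 all2_spec)
open scoped commutatorElement Pointwise

namespace CL.SJ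

namespace MMx

variable {G : Type} [Group G] [Finite G] (M : JM G) {T : Subgroup G}

theorem aut (φ : G → G) (h1 : ∀ u ∈ M.V, φ u ∈ M.V) (h2 : MulOn M.V φ) (h3 : ∀ u ∈ M.V, φ u = 1 → u = 1)
    (h4 : ∀ u ∈ M.V, ¬ (dat M T).cl u → ¬ (dat M T).cl (φ u)) : ∃ m ∈ M.N, ∀ u ∈ M.V, φ u = m * u * m⁻¹ := by
  have C : VC M.toHM M.v := ⟨M.v_xor, M.v_top, M.v_z, M.v_W, M.rh_A⟩
  let ψ : M.AV →+ M.AV := AddMonoidHom.mk' (fun a => (⟨φ a.1, h1 _ a.2⟩ : M.V)) fun a b => Subtype.ext (h2 _ a.2 _ b.2)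
  have hψ : Function.Injective ψ := (injective_iff_map_eq_zero ψ).2 fun a ha =>
    Subtype.ext (h3 _ a.2 (congrArg Subtype.val ha))
  have h0 : vc ∅ = 0 := by rw [← ofMask_zero, J4.vc_ofMask (by norm_num)]; rfl
  obtain ⟨σ, hσ⟩ := F24.exists_perm (D := fun i => C.e (vc {i})) M.AV_add_self (fun s hs => by
    rw [C.sum_e, ← C.e_zero, C.e_inj (vc_lt s) (by norm_num), ← h0, vc_eq_iff hs (by simp), ← Finset.bot_eq_empty,
      symmDiff_bot]) ψ hψ fun i j hij => by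
    rw [← Finset.sum_pair (f := fun i => C.e (vc {i})) hij, C.sum_e]
    obtain ⟨a, ha, e⟩ := C.e_surj (ψ (C.e (vc {i, j})))
    have h5 : wt (vc {i, j}) = 2 := by
      rw [wt_vc (by rw [Finset.card_pair hij]; decide) (by rw [Finset.card_pair hij]; decide), Finset.card_pair hij]
    have h6 : wt a = 2 := by
      rcases (evn_spec ha).2.2.2 with h | h | h
      · exact h
      · have e1 : φ (C.e (vc {i, j})).1 = (C.e a).1 := congrArg Subtype.val e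
        rw [C.e_val (vc_lt _), C.e_val ha] at e1
        exact absurd (e1 ▸ (cl_v M ha).2 h) (h4 _ (M.v_mem (vc_lt _)) (by rw [cl_v M (vc_lt _), h5]; norm_num))
      · rw [h, C.e_zero, map_eq_zero_iff ψ hψ, ← C.e_zero, C.e_inj (vc_lt _) (by norm_num)] at e
        rw [e, wt_zero] at h5
        cases h5
    obtain ⟨s, h7, -, -, rfl⟩ := exists_vc ha
    obtain ⟨x, y, hxy, rfl⟩ := Finset.card_eq_two.1 (h7.trans h6)
    exact ⟨x, y, hxy, by rw [e, ← C.sum_e, Finset.sum_pair hxy]⟩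
  refine ⟨M.μ σ, M.μ_mem σ, fun u hu => ?_⟩
  obtain ⟨a, ha, rfl⟩ := (M.mem_V u).1 hu
  obtain ⟨s, -, hs, -, rfl⟩ := exists_vc ha
  have h5 : ψ (C.e (vc s)) = C.e (vc (σ • s)) := by
    rw [← C.sum_e, ← C.sum_e, ← F24.sum_even M.AV_add_self _ (C.e (vc {gPt 0})) hs, map_sum,
      Finset.sum_congr rfl fun i _ => hσ i _, F24.sum_even M.AV_add_self _ _ hs, Finset.smul_finset_def,
      Finset.sum_image fun a _ b _ h => MulAction.injective _ h]
    rfl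
  have h6 : φ (C.e (vc s)).1 = (C.e (vc (σ • s))).1 := congrArg Subtype.val h5
  rw [C.e_val (vc_lt _), C.e_val (vc_lt _)] at h6
  rw [h6, M.μ_vc σ hs]

theorem z2_v {a b : ℕ} (ha : a < 2048) (hb : b < 2048) : Z2 (M.v b) (M.v a) ↔ a = 0 ∨ a = b := by
  rw [Z2, ← M.v_zero, M.v_eq_iff ha (by norm_num), M.v_eq_iff ha hb]

theorem fix {b : ℕ} (hb : b < 2048) {L : List ℕ} (hL : ∀ P ∈ L, inM24 P = true ∧ ap (vcols P) b = b)
    (hc : all2 (fun a => decide ((∀ P ∈ L, ap (vcols P) a ^^^ a = 0 ∨ ap (vcols P) a ^^^ a = b) → a = 0 ∨ a = b)) 11 0 = true) :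
    ∀ s ∈ M.V, (∀ m ∈ M.N, m * M.v b = M.v b * m → Z2 (M.v b) (m * s * m⁻¹ * s)) → Z2 (M.v b) s := fun s hs h => by
  obtain ⟨a, ha, rfl⟩ := (M.mem_V s).1 hs
  refine (z2_v M ha hb).2 (of_decide_eq_true (all2_spec hc a ha) fun P hP => ?_)
  have h1 := M.rn_μ (rep_m24 (hL P hP).1)
  have h2 := h _ h1.mem (mem_centralizer_singleton_iff.1 ((h1.cent_iff hb).2 (hL P hP).2))
  rwa [h1.conj_v ha, ← M.v_xor, z2_v M (xor_lt11 (vcols_lt _ _) ha) hb] at h2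

theorem irr (Y : Subgroup G) (h1 : Y ≤ M.V) (h2 : M.N ≤ 𝒩(Y)) : Y = ⊥ ∨ Y = M.V := by
  refine (Y.bot_or_exists_ne_one).imp id fun ⟨y, hy, h3⟩ => le_antisymm h1 fun u hu => ?_
  obtain ⟨a, ha, rfl⟩ := (M.mem_V y).1 (h1 hy)
  have k : ∀ {a b : ℕ}, a < 2048 → b < 2048 → wt a = wt b → M.v a ∈ Y → M.v b ∈ Y := fun ha hb e h => by
    obtain ⟨x, hx⟩ := M.isConj_v ha hb e
    exact hx ▸ (mem_normalizer_iff.1 (h2 (M.μ_mem x)) _).1 h
  have h4 : M.v 1 ∈ Y := by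
    rcases (evn_spec ha).2.2.2 with h | h | h
    · exact k ha (by norm_num) (h.trans (by decide +kernel)) hy
    · have := mul_mem (k ha (b := 14) (by norm_num) (h.trans (by decide +kernel)) hy)
        (k ha (b := 15) (by norm_num) (h.trans (by decide +kernel)) hy)
      rwa [← M.v_xor] at this
    · exact absurd (h ▸ M.v_zero) h3
  obtain ⟨b, hb, rfl⟩ := (M.mem_V u).1 hu
  have h5 : ∀ i < 11, wt 1 = wt (2 ^ i) := by decide +kernel
  exact xor_ind (C := fun b => M.v b ∈ Y) (M.v_zero ▸ one_mem Y) 11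
    (fun i hi => k (by norm_num) (Nat.pow_lt_pow_right (by norm_num) hi) (h5 i hi) h4)
    (fun a _ b _ h h' => M.v_xor a b ▸ mul_mem h h') b hb

theorem nuT : ∃ ν : G → M24, MulOn M.N ν ∧ (∀ x, ∃ m ∈ M.N, ν m = x) ∧ ∀ m ∈ M.N, ν m = 1 ↔ m ∈ M.V := by
  classical
  refine ⟨fun g => if h : g ∈ M.N then nu M ⟨g, h⟩ else 1, fun x hx y hy => ?_, fun x => ⟨_, M.μ_mem x, ?_⟩,
    fun m hm => ?_⟩
  · simp only [dif_pos hx, dif_pos hy, dif_pos (mul_mem hx hy)]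
    exact map_mul (nu M) ⟨x, hx⟩ ⟨y, hy⟩
  · simp only [dif_pos (M.μ_mem x)]
    exact nu_μ M x
  · simp only [dif_pos hm]
    exact nu_ker M ⟨m, hm⟩

theorem split (m : G) (hm : m ∈ M.N) (h : m * m ∈ M.V) : ∃ v ∈ M.V, m * v * (m * v) = 1 := by
  have h1 : nu M ⟨m, hm⟩ * nu M ⟨m, hm⟩ = 1 := by rw [← map_mul]; exact (nu_ker M _).2 h
  obtain ⟨a, ha, e⟩ := eq_v_mul M ⟨m, hm⟩
  generalize nu M ⟨m, hm⟩ = x at h1 e
  refine ⟨_, M.conj_mem_V x⁻¹ (M.v_mem ha), ?_⟩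
  have h2 : m * (M.μ x⁻¹ * M.v a * (M.μ x⁻¹)⁻¹) = M.μ x := by
    rw [show m = _ from e, map_inv, inv_inv]
    calc _ = M.v a * M.v a * M.μ x := by group
      _ = _ := by rw [M.v_mul_self, one_mul]
  rw [h2, ← map_mul, h1, map_one]

theorem g23 : ∃ g ∈ M.N, ∃ n ∈ M.N, g ^ 23 = 1 ∧ n * g * n⁻¹ = g * g ∧ ∀ v ∈ M.V, g * v = v * g → v = 1 := by
  have h1 := M.rn_μ (rep_m24 (P := pA) (by decide +kernel))
  have h2 := M.rn_μ (rep_m24 (P := y0) (by decide +kernel))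
  refine ⟨_, h1.mem, _, h2.mem, (h1.pow 23).eq_of M.rn_one (by decide +kernel),
    (h2.conj h1).eq_of (h1.mul h1) (by decide +kernel), fun v hv h => ?_⟩
  obtain ⟨a, ha, rfl⟩ := (M.mem_V v).1 hv
  have h3 : all2 (fun a => decide (ap (vcols pA) a = a → a = 0)) 11 0 = true := by decide +kernel
  rw [of_decide_eq_true (all2_spec h3 a ha) ((h1.cent_iff ha).1 (mem_centralizer_singleton_iff.2 h)), M.v_zero]

theorem v_ap {K : Subgroup G} : ∀ {L : List ℕ}, (∀ c ∈ L, M.v c ∈ K) → ∀ a, M.v (ap L a) ∈ K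
  | [], _, _ => M.v_zero ▸ one_mem K
  | c :: L, h, a => by
    rw [F24.ap_cons, M.v_xor]
    refine mul_mem ?_ (v_ap (fun d hd => h d (by simp [hd])) _)
    rcases Nat.mod_two_eq_zero_or_one a with e | e <;> rw [e]
    · exact M.v_zero ▸ one_mem K
    · rw [mul_one]; exact h c (by simp)

theorem VX : M.V ≤ ⁅M.V, M.H ⊓ M.N⁆ ⊔ M.Qs := fun u hu => by
  obtain ⟨a, ha, rfl⟩ := (M.mem_V u).1 hu
  have h1 : all2 (fun a => Nat.beq (ap [496, 632, 1228, 640, 1888, 54, 1441, 1807, 487, 687, 1493]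
      (ap [704, 1784, 1014, 1575, 1743, 993, 664, 411, 1580, 403, 1750] a)) a) 11 0 = true := by decide +kernel
  rw [← Nat.eq_of_beq_eq_true (all2_spec h1 a ha)]
  refine v_ap M (fun c hc => ?_) _
  have h2 : ∀ c ∈ [496, 632, 1228, 640, 1888, 54, 1441, 1807, 487, 687, 1493], (∃ e ∈ Wv.zip Wb, c = e.1 ∧ e.2 < 4096) ∨
      c = 1441 ∨ ∃ e ∈ dictS, inM24 e.1 = true ∧ ∃ b ∈ [1, 2, 4], c = b ^^^ ap (vcols e.1) b := by decide +kernel
  rcases h2 c hc with ⟨e, he, rfl, h3⟩ | rfl | ⟨e, he, h3, b, hb, rfl⟩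
  · exact mem_sup_right (M.v_W e he ▸ c_mem_Qs M h3)
  · exact mem_sup_right (M.v_z ▸ z_mem_Qs M)
  · have h4 := M.rn_μ (rep_m24 h3)
    have h5 : b < 2048 := (by decide : ∀ b ∈ [1, 2, 4], b < 2048) b hb
    have h6 := commutator_mem_commutator (M.v_mem h5) (mem_inf.2 ⟨(M.rh_S e he).mem, h4.mem⟩)
    rw [commutatorElement_def, M.v_inv, mul_assoc, mul_assoc, ← mul_assoc (M.μ _), h4.conj_v h5, ← M.v_xor] at h6
    exact mem_sup_left h6

end MMx

theorem mmThm : MM := fun M _ _ =>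
  { aut := MMx.aut M
    fixz := by
      have := MMx.fix M (b := 1441) (by norm_num) (L := (dictS.take 3).map Prod.fst) (by decide +kernel) (by decide +kernel)
      rwa [M.v_z] at this
    fixf := MMx.fix M (b := 1141) (by norm_num) (L := [y0]) (by decide +kernel) (by decide +kernel)
    irr := MMx.irr M
    nu := MMx.nuT M
    split := MMx.split M
    g23 := MMx.g23 M
    VX := MMx.VX M }

end CL.SJ
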