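/-
Project SJ4: the facts about the extraspecial subgroup `Q` of the model.
-/
import Cfsg.Agent.SJ4.Mod0

set_option autoImplicit false
open Cfsg Subgroup MulAction CL.Even CL.Grp CL.Wr CL.Spor
open CL.J4 (JM NM HM HC qn bn bet InW inW Wb dictA hp hpow mm xor_lt12 ap_xor ap_mm bn_le bn_comm bn_xor_left
  bn_xor_right eq_zero_of_bn mem_idc_lt inW_iff inW_Wb Wb_lt bn_zero_right)
open CL.F24 (ap cX idc all2 all2_spec)
open scoped commutatorElement Pointwise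

namespace CL.SJ

namespace MQ

variable {G : Type*} [Group G] (M : JM G)

theorem z2_ex {x : G} (h : Z2 M.z x) : ∃ n : ℕ, x = M.z ^ n :=
  h.elim (fun e => ⟨0, by rw [e, pow_zero]⟩) fun e => ⟨1, by rw [e, pow_one]⟩

theorem cz_mul {a b : ℕ} (ha : a < 4096) (hb : b < 4096) (i j : ℕ) :
    M.c a * M.z ^ i * (M.c b * M.z ^ j) = M.c (a ^^^ b) * M.z ^ (bet a b + (i + j)) := by
  rw [mul_assoc, ← mul_assoc (M.z ^ i), ← M.zp_comm (M.c_mem b), mul_assoc, ← pow_add, ← mul_assoc,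
    M.c_mul a ha b hb, mul_assoc, ← pow_add]

theorem conj_cz {X : HC} {g : G} (hX : M.RH X g) {b : ℕ} (hb : b < 4096) (j : ℕ) :
    g * (M.c b * M.z ^ j) * g⁻¹ = M.c (ap X.A b) * M.z ^ (X.o * qn b + bn X.a (ap X.A b) + j) := by
  rw [pow_add, ← mul_assoc (M.c _), ← hX.conj hb, mul_assoc _ g⁻¹, M.zp_comm (inv_mem hX.mem)]
  group

theorem fix_of_z2 {X : HC} {g : G} (hX : M.RH X g) {b : ℕ} (hb : b < 4096) (j : ℕ)
    (h : Z2 M.z ⁅g, M.c b * M.z ^ j⁆) : ap X.A b = b := by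
  obtain ⟨n, e⟩ := z2_ex M h
  rw [commutatorElement_def, mul_inv_eq_iff_eq_mul, conj_cz M hX hb, ← M.zp_comm (M.cz_mem_H b j), mul_assoc,
    ← pow_add, M.c_eq_iff (hX.lt hb) hb] at e
  exact e.1

theorem fixQ {X : HC} {g : G} (hX : M.RH X g) (h : ∀ b < 4096, ap X.A b = b) : ∃ j : ℕ, g = M.c X.a * M.z ^ j := by
  have h1 : X.o % 2 = 0 := by
    have := hX.bet_sum (a := 1) (b := 2) (by norm_num) (by norm_num)
    rw [h 1 (by norm_num), h 2 (by norm_num), show qn 1 = 1 by decide +kernel, show qn 2 = 1 by decide +kernel,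
      show qn (1 ^^^ 2) = 1 by decide +kernel] at this
    omega
  have h2 := M.cent ((M.c X.a)⁻¹ * g) (mul_mem (inv_mem (M.c_mem _)) hX.mem) fun b hb => by
    have h3 := hX.conj hb
    have h4 : M.z ^ (X.o * qn b + bn X.a b) = M.z ^ bn X.a b := by
      refine M.zp_congr ?_
      have := CL.J4.qn_le b
      generalize qn b = q at *
      interval_cases q <;> omega
    rw [h b hb, h4, ← M.c_conj hX.a_lt hb] at h3
    calc (M.c X.a)⁻¹ * g * M.c b = (M.c X.a)⁻¹ * (g * M.c b * g⁻¹) * g := by group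
      _ = M.c b * ((M.c X.a)⁻¹ * g) := by rw [h3]; group
  obtain ⟨n, e⟩ := z2_ex M (M.mem_Z.1 h2)
  exact ⟨n, by rw [← e, mul_inv_cancel_left]⟩

theorem card_Qs : Nat.card M.Qs = 8192 := by
  let f : Fin 4096 × Fin 2 → M.Qs := fun e => ⟨M.c e.1 * M.z ^ (e.2 : ℕ), e.1, e.1.2, e.2, rfl⟩
  have hf : Function.Bijective f := by
    refine ⟨fun ⟨a, i⟩ ⟨b, j⟩ h => ?_, fun ⟨_, a, ha, j, rfl⟩ =>
      ⟨(⟨a, ha⟩, ⟨j % 2, Nat.mod_lt _ (by norm_num)⟩), Subtype.ext ?_⟩⟩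
    · have h1 := (M.c_eq_iff a.2 b.2).1 (Subtype.mk.inj h)
      have h2 : i = j := Fin.ext (by have := i.2; have := j.2; have : (i : ℕ) % 2 = j % 2 := h1.2; omega)
      rw [show a = b from Fin.ext h1.1, h2]
    · show M.c a * M.z ^ (j % 2) = _
      rw [← pow_eq_pow_mod j M.z_sq]
  rw [← Nat.card_congr (Equiv.ofBijective f hf)]
  simp

theorem comm_cz {a b : ℕ} (ha : a < 4096) (hb : b < 4096) (i j : ℕ) :
    ⁅M.c a * M.z ^ i, M.c b * M.z ^ j⁆ = M.z ^ bn a b := by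
  rw [commutatorElement_def, mul_inv_eq_iff_eq_mul, conj_cz M (M.rh_cz ha i) hb, ← M.zp_comm (M.cz_mem_H b j),
    mul_assoc, ← pow_add]
  show M.c (ap idc b) * M.z ^ (0 * qn b + bn a (ap idc b) + j) = _
  rw [F24.ap_idc hb, zero_mul, zero_add, add_comm]

theorem comm_iff {a b : ℕ} (ha : a < 4096) (hb : b < 4096) (i j : ℕ) :
    M.c a * M.z ^ i * (M.c b * M.z ^ j) = M.c b * M.z ^ j * (M.c a * M.z ^ i) ↔ bn a b = 0 := by
  rw [← commutatorElement_eq_one_iff_mul_comm, comm_cz M ha hb, ← pow_zero M.z, M.zp_eq_iff]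
  have := bn_le a b
  omega

theorem cQ {h : G} (hh : h ∈ M.H) (H : ∀ q ∈ M.Qs, Z2 M.z ⁅h, q⁆) : h ∈ M.Qs := by
  obtain ⟨X, hX⟩ := M.exists_code' hh
  obtain ⟨j, e⟩ := fixQ M hX fun b hb => fix_of_z2 M hX hb 0 (H _ (cz_mem M hb 0))
  exact ⟨_, hX.a_lt, j, e⟩

theorem cVQ {q : G} (hq : q ∈ M.Qs) (H : ∀ v ∈ M.V, Z2 M.z ⁅v, q⁆) : q ∈ M.V := by
  obtain ⟨a, ha, j, rfl⟩ := hq
  have h : all2 (fun a => or (inW a) (anyL (fun e => not (Nat.beq (ap e.2.A a) a)) dictA)) 12 0 = true := by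
    decide +kernel
  have h1 := all2_spec h a ha
  rw [Bool.or_eq_true, anyL_iff] at h1
  rcases h1 with h1 | ⟨e, he, h1⟩
  · exact (M.cz_mem_V ha j).2 ((inW_iff ha).1 h1)
  · obtain ⟨g, hg, hX⟩ := M.exists_dictA e he
    rw [fix_of_z2 M hX ha j (H g hg), Nat.beq_refl] at h1
    cases h1

theorem p_fpf {q : G} (hq : q ∈ M.Qs) : Z2 M.z (q * (M.p * q * M.p⁻¹) * (M.p⁻¹ * q * M.p)) := by
  obtain ⟨a, ha, j, rfl⟩ := hq
  have h3 : M.p * M.p * M.p = 1 := by rw [← M.p3, pow_succ, pow_two]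
  have h1 : ∀ x : G, M.p⁻¹ * x * M.p = M.p * (M.p * x * M.p⁻¹) * M.p⁻¹ := fun x => by
    rw [show M.p * (M.p * x * M.p⁻¹) * M.p⁻¹ = M.p * M.p * x * (M.p * M.p)⁻¹ by simp only [mul_inv_rev, mul_assoc],
      eq_inv_of_mul_eq_one_left h3, inv_inv]
  have h4 := M.rp.lt ha
  have h5 := M.rp.lt h4
  have h6 : a ^^^ ap hp.A a ^^^ ap hp.A (ap hp.A a) = 0 := by
    have : all2 (fun a => Nat.beq (Nat.xor (Nat.xor a (ap cX a)) (ap cX (ap cX a))) 0) 12 0 = true := by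
      decide +kernel
    exact Nat.eq_of_beq_eq_true (all2_spec this a ha)
  rw [h1, conj_cz M M.rp ha, conj_cz M M.rp h4, cz_mul M ha h4, cz_mul M (xor_lt12 ha h4) h5, h6, M.c_zero, one_mul]
  exact z2_zp M _

theorem p_mem_N : M.p ∈ M.N := M.μ_p ▸ M.μ_mem _

theorem p_V {v : G} (hv : v ∈ M.V) : ⁅M.p, v⁆ ∈ M.Qs := by
  have h1 : ⁅M.p, v⁆ ∈ M.V := mul_mem ((mem_normalizer_iff.1 (p_mem_N M) v).1 hv) (inv_mem hv)
  obtain ⟨w, hw, j, e⟩ := HM.ker_V h1 (by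
    have : (⟨⁅M.p, v⁆, M.V_le_H h1⟩ : M.H) = ⁅(⟨M.p, M.rp.mem⟩ : M.H), (⟨v, M.V_le_H hv⟩ : M.H)⁆ := rfl
    rw [this, map_commutatorElement, π_p, commutatorElement_one_left])
  exact ⟨w, hw.1, j, e⟩

theorem p_conj {h : G} (hh : h ∈ M.H) : h⁻¹ * M.p * h ∈ M.N := by
  refine ker_le_N M (mul_mem (mul_mem (inv_mem hh) M.rp.mem) hh) ?_
  have : (⟨h⁻¹ * M.p * h, mul_mem (mul_mem (inv_mem hh) M.rp.mem) hh⟩ : M.H) =
    (⟨h, hh⟩ : M.H)⁻¹ * ⟨M.p, M.rp.mem⟩ * ⟨h, hh⟩ := rfl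
  rw [this, map_mul, map_mul, map_inv, π_p, mul_one, inv_mul_cancel]

/-- A matrix of the group that fixes a hyperplane pointwise is the identity. -/
theorem fix_all {X : HC} {g : G} (hX : M.RH X g) {b : ℕ} (hb : b < 4096)
    (h : ∀ a < 4096, bn a b = 0 → ap X.A a = a) : ∀ a < 4096, ap X.A a = a := by
  have hc : ∀ a < 4096, ap cX a < 4096 := fun a ha => M.rp.lt ha
  obtain ⟨i, hi, e⟩ := (hX.mul M.rp).exists_scalar hX (((hX.mul M.rp).rep).unique' (by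
    have : (⟨g * M.p, (hX.mul M.rp).mem⟩ : M.H) = ⟨g, hX.mem⟩ * ⟨M.p, M.rp.mem⟩ := rfl
    rw [this, map_mul, π_p, mul_one]
    exact hX.rep))
  have e : ∀ a < 4096, ap X.A (ap cX a) = ap (hpow hp i).A (ap X.A a) := fun a ha => by
    rw [← ap_mm, ← ap_mm]; exact e a ha
  have h1 : i = 1 := by
    have t1 : all2 (fun b => anyL (fun a => and (Nat.beq (bn a b) 0) (Nat.beq (bn (ap cX a) b) 0))
      [1, 2, 3, 4, 5, 6, 7]) 12 0 = true := by decide +kernel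
    obtain ⟨a, ha, t2⟩ := (anyL_iff _ _).1 (all2_spec t1 b hb)
    rw [Bool.and_eq_true, Nat.beq_eq, Nat.beq_eq] at t2
    have t3 : ∀ a ∈ [1, 2, 3, 4, 5, 6, 7], a < 4096 ∧ ∀ i < 3, ap cX a = ap (hpow hp i).A a → i = 1 := by
      decide +kernel
    have t4 := e a (t3 a ha).1
    rw [h a (t3 a ha).1 t2.1, h _ (hc a (t3 a ha).1) t2.2] at t4
    exact (t3 a ha).2 i hi t4
  subst h1
  intro a ha
  have t1 : all2 (fun b => or (Nat.beq b 0) (anyL (fun d => and (Nat.blt d 4096) (and (Nat.beq (bn d b) 0)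
    (and (Nat.beq (bn (ap cX d) b) 1) (Nat.beq (ap (hpow hp 1).A d) (ap cX d)))))
      [1, 2, 3, 4, 8, 12, 16, 32, 48, 64, 128, 192, 256, 512, 768, 1024, 2048, 3072])) 12 0 = true := by
    decide +kernel
  have t2 := all2_spec t1 b hb
  rw [Bool.or_eq_true, anyL_iff, Nat.beq_eq] at t2
  rcases t2 with rfl | ⟨d, -, t2⟩
  · exact h a ha (bn_zero_right a)
  simp only [Bool.and_eq_true, Nat.beq_eq, Nat.blt_eq] at t2
  obtain ⟨hd, d0, d1, d2⟩ := t2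
  by_cases h0 : bn a b = 0
  · exact h a ha h0
  have h1 : bn a b = 1 := by have := bn_le a b; omega
  have h2 := h _ (xor_lt12 ha (hc d hd)) (by rw [bn_xor_left ha (hc d hd) hb, h1, d1]; rfl)
  rw [ap_xor, e d hd, h d hd d0, d2] at h2
  exact Nat.xor_left_injective h2

theorem eq_of_orth {a b : ℕ} (ha : a < 4096) (hb : b < 4096) (h : ∀ u < 4096, bn u b = 0 → bn a u = 0) :
    a = 0 ∨ a = b := by
  by_cases h0 : ∀ d ∈ idc, bn b d = 0
  · obtain rfl := eq_zero_of_bn hb h0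
    exact Or.inl (eq_zero_of_bn ha fun u hu => h u (mem_idc_lt hu) (bn_zero_right u))
  push Not at h0
  obtain ⟨d, hd, h0⟩ := h0
  have hd := mem_idc_lt hd
  have h1 : bn d b = 1 := by have := bn_le b d; rw [bn_comm]; omega
  have h2 : ∀ u < 4096, bn u b = 1 → bn a u ^^^ bn a d = 0 := fun u hu e => by
    rw [← bn_xor_right ha hu hd]
    exact h _ (xor_lt12 hu hd) (by rw [bn_xor_left hu hd hb, e, h1]; rfl)
  have h3 : ∀ u, bn u b = 0 ∨ bn u b = 1 := fun u => by have := bn_le u b; omega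
  have h4 : bn a d = 0 ∨ bn a d = 1 := by have := bn_le a d; omega
  rcases h4 with h4 | h4
  · refine Or.inl (eq_zero_of_bn ha fun u hu => ?_)
    rcases h3 u with e | e
    · exact h u (mem_idc_lt hu) e
    · simpa [h4] using h2 u (mem_idc_lt hu) e
  · refine Or.inr (Nat.xor_eq_zero_iff.1 (eq_zero_of_bn (xor_lt12 ha hb) fun u hu => ?_))
    have hu := mem_idc_lt hu
    rw [bn_xor_left ha hb hu, bn_comm b]
    rcases h3 u with e | e
    · rw [h u hu e, e]; rfl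
    · rw [e, ← h4]; exact h2 u hu e

theorem cenCQ {y : G} (hy : y ∈ M.Qs) {g : G} (H : ∀ q ∈ M.Qs, q * y = y * q → g * q = q * g) : Z4 M.z y g := by
  obtain ⟨b, hb, j, rfl⟩ := hy
  have hg : g ∈ M.H := M.mem_H.2 (H _ (z_mem_Qs M) (M.mem_H.1 (M.cz_mem_H b j)).symm)
  obtain ⟨X, hX⟩ := M.exists_code' hg
  have h1 : ∀ u < 4096, bn u b = 0 → g * (M.c u * M.z ^ 0) = M.c u * M.z ^ 0 * g := fun u hu e =>
    H _ (cz_mem M hu 0) ((comm_iff M hu hb 0 j).2 e)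
  obtain ⟨i, e⟩ := fixQ M hX (fix_all M hX hb fun u hu e => hX.fix_of_comm hu (h1 u hu e))
  rcases eq_of_orth hX.a_lt hb (fun u hu e' => (comm_iff M hX.a_lt hu i 0).1 (e ▸ h1 u hu e')) with h2 | h2
  · rw [h2, M.c_zero, one_mul] at e
    rcases M.zp_cases i with h3 | h3
    · exact Or.inl (e.trans h3)
    · exact Or.inr (Or.inl (e.trans h3))
  · have h4 : g = M.c b * M.z ^ j * M.z ^ (i + j) := by
      rw [e, h2, mul_assoc, ← pow_add, M.zp_congr (n := j + (i + j)) (by omega)]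
    rcases M.zp_cases (i + j) with h3 | h3
    · exact Or.inr (Or.inr (Or.inl (by rw [h4, h3, mul_one])))
    · exact Or.inr (Or.inr (Or.inr (by rw [h4, h3])))

end MQ

theorem mq : MQ := fun M T =>
  { Q_comm := by
      rintro _ ⟨a, ha, i, rfl⟩ _ ⟨b, hb, j, rfl⟩
      rw [MQ.comm_cz M ha hb]
      exact z2_zp M _
    Q_sq := by
      rintro _ ⟨a, ha, i, rfl⟩
      rw [M.cz_sq ha]
      exact z2_zp M _
    card_Q := MQ.card_Qs M
    cenQ := fun g _ h => M.mem_Z.1 (M.cent g (M.mem_H.2 (h _ (z_mem_Qs M))) fun a ha => h _ (c_mem_Qs M ha))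
    cQ := fun h hh H => MQ.cQ M hh H
    cenU := fun g _ h => mem_inf.2 ⟨M.mem_H.2 (h _ M.z_mem_V (z_mem_Qs M)), mem_centralizer_iff.2 (by
      rintro _ ⟨w, hw, rfl⟩
      exact (h _ ((M.c_mem_V (Wb_lt hw)).2 (inW_Wb hw)) (c_mem_Qs M (Wb_lt hw))).symm)⟩
    cVQ := fun q hq H => MQ.cVQ M hq H
    p_fpf := fun q hq => MQ.p_fpf M hq
    p_V := fun v hv => MQ.p_V M hv
    p_conj := fun h hh => MQ.p_conj M hh
    cenCQ := fun y hy g _ H => MQ.cenCQ M hy H }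

end CL.SJ
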