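/-
Project SJ4: the basic facts about the model.
-/
import Cfsg.Agent.SJ4.Mod0

set_option autoImplicit false
open Cfsg Subgroup MulAction CL.Even CL.Grp CL.Wr CL.Spor
open CL.J4 (JM NM HM wt evn_spec isPGroup_of_elem)
open scoped commutatorElement Pointwise

namespace CL.SJ

namespace MA

variable {G : Type*} [Group G] [Finite G] (M : JM G)

omit [Finite G] in
theorem elem_of_sq {E : Subgroup G} (h : ∀ x ∈ E, x * x = 1) : IsElementaryAbelian 2 E :=
  ⟨⟨⟨fun a b => Subtype.ext (HM.comm_of_sq h a.2 b.2)⟩⟩, fun a ha => by rw [pow_two, h a ha]⟩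

include M in
theorem card_eq {E : Subgroup G} (h : ∀ x ∈ E, x * x = 1) (hc : 2048 ≤ Nat.card E) : Nat.card E = 2 ^ 11 := by
  obtain ⟨g, hg⟩ := M.sylow E (isPGroup_of_elem (elem_of_sq h))
  have h1 : Nat.card (cj g E) = Nat.card E := card_cj g E
  obtain ⟨k, -, hk⟩ := M.exists_conj_le_V (E := cj g E) (hg.trans inf_le_left) (fun x hx => by
    have := h _ (mem_cj.1 hx)
    calc x * x = g * (g⁻¹ * x * g * (g⁻¹ * x * g)) * g⁻¹ := by group
      _ = 1 := by rw [this]; group) (h1 ▸ hc)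
  have h2 : Nat.card (cj k (cj g E)) ≤ Nat.card M.V := card_le_of_le hk
  rw [card_cj, h1, M.card_V] at h2
  omega

omit [Finite G] in
theorem ncard_wt {b : ℕ} (hb : b < 2048) :
    {v : G | ∃ a < 2048, wt a = wt b ∧ v = M.v a}.ncard = cnt64 (fun a => Nat.beq (wt a) (wt b)) 32 := by
  rw [← M.ncard_orbit hb]
  congr 1
  ext u
  refine ⟨fun ⟨a, ha, h, e⟩ => ?_, fun ⟨n, hn, e⟩ => ?_⟩
  · obtain ⟨x, hx⟩ := M.isConj_v hb ha h.symm
    exact ⟨_, M.μ_mem x, hx.trans e.symm⟩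
  · obtain ⟨X, hX⟩ := M.exists_rn hn
    exact ⟨_, J4.vcols_lt _ _, J4.wt_vcols hX.rep hb, by rw [← e, hX.conj_v hb]⟩

omit [Finite G] in
theorem card_cl (T : Subgroup G) : {v | v ∈ M.V ∧ (dat M T).cl v}.ncard = 1771 := by
  have h4 : wt 1441 = 4 := by decide +kernel
  rw [show 1771 = cnt64 (fun a => Nat.beq (wt a) (wt 1441)) 32 by decide +kernel, ← ncard_wt M (by norm_num), h4]
  congr 1
  ext u
  refine ⟨fun ⟨h1, h2⟩ => ?_, fun ⟨a, ha, h, e⟩ => e ▸ ⟨M.v_mem ha, (cl_v M ha).2 h⟩⟩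
  obtain ⟨a, ha, rfl⟩ := (M.mem_V _).1 h1
  exact ⟨a, ha, (cl_v M ha).1 h2, rfl⟩

omit [Finite G] in
theorem card_ncl (T : Subgroup G) : {v | v ∈ M.V ∧ v ≠ 1 ∧ ¬ (dat M T).cl v}.ncard = 276 := by
  have h4 : wt 1141 = 2 := by decide +kernel
  rw [show 276 = cnt64 (fun a => Nat.beq (wt a) (wt 1141)) 32 by decide +kernel, ← ncard_wt M (by norm_num), h4]
  congr 1
  ext u
  refine ⟨fun ⟨h1, h2, h3⟩ => ?_, fun ⟨a, ha, h, e⟩ => e ▸ ⟨M.v_mem ha, fun h1 => ?_, fun h1 => ?_⟩⟩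
  · obtain ⟨a, ha, rfl⟩ := (M.mem_V _).1 h1
    rcases (evn_spec ha).2.2.2 with e | e | e
    · exact ⟨a, ha, e, rfl⟩
    · exact absurd ((cl_v M ha).2 e) h3
    · exact absurd (e ▸ M.v_zero) h2
  · rw [M.v_inj a ha h1] at h
    revert h; decide +kernel
  · rw [(cl_v M ha).1 h1] at h
    cases h

omit [Finite G] in
theorem orbV {v : G} (hv : v ∈ M.V) (h1 : v ≠ 1) : ∃ m ∈ M.N, v = m * M.z * m⁻¹ ∨ v = m * M.t * m⁻¹ := by
  obtain ⟨a, ha, rfl⟩ := (M.mem_V _).1 hv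
  rcases (evn_spec ha).2.2.2 with e | e | e
  · obtain ⟨x, hx⟩ := M.isConj_v (a := 1141) (by norm_num) ha (by rw [e]; decide +kernel)
    exact ⟨_, M.μ_mem x, Or.inr hx.symm⟩
  · obtain ⟨x, hx⟩ := M.isConj_v (a := 1441) (by norm_num) ha (by rw [e]; decide +kernel)
    exact ⟨_, M.μ_mem x, Or.inl (M.v_z ▸ hx.symm)⟩
  · exact absurd (e ▸ M.v_zero) h1

theorem z2 {T : Subgroup G} (hT : IsPGroup 2 T) (hH : T ≤ M.H) (hQ : M.Qs ≤ T) :
    ∃ x ∈ T, ¬ Z2 M.z x ∧ ∀ y ∈ T, Z2 M.z ⁅x, y⁆ := by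
  have : ((zpowers M.z).subgroupOf T).Normal := ⟨fun n hn g => by
    rw [mem_subgroupOf] at hn ⊢
    rcases M.mem_Z.1 hn with e | e
    · simp [e]
    · rw [coe_mul, coe_mul, e, M.mem_H.1 (hH g.2), InvMemClass.coe_inv, mul_inv_cancel_right]
      exact mem_zpowers _⟩
  have : Nontrivial (T ⧸ (zpowers M.z).subgroupOf T) := by
    refine ⟨(⟨M.c 1, hQ (c_mem_Qs M (by norm_num))⟩ : T), 1, fun e => ?_⟩
    have := M.c_inj (by norm_num) (mem_subgroupOf.1 ((QuotientGroup.eq_one_iff _).1 e))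
    cases this
  have := Fact.mk Nat.prime_two
  have := (hT.to_quotient ((zpowers M.z).subgroupOf T)).center_nontrivial
  obtain ⟨⟨c, hc⟩, h1⟩ := exists_ne (1 : center (T ⧸ (zpowers M.z).subgroupOf T))
  obtain ⟨x, rfl⟩ := QuotientGroup.mk_surjective c
  refine ⟨x, x.2, fun h => h1 (Subtype.ext ((QuotientGroup.eq_one_iff _).2 (mem_subgroupOf.2 (M.mem_Z.2 h)))),
    fun y hy => M.mem_Z.1 ?_⟩
  have h2 : ((⁅x, (⟨y, hy⟩ : T)⁆ : T) : T ⧸ (zpowers M.z).subgroupOf T) = 1 := by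
    rw [← QuotientGroup.mk'_apply, map_commutatorElement, commutatorElement_eq_one_iff_mul_comm]
    exact (mem_center_iff.1 hc _).symm
  exact mem_subgroupOf.1 ((QuotientGroup.eq_one_iff _).1 h2)

end MA

theorem ma : MA := fun M T hT q => by
  have := Fact.mk Nat.prime_two
  have hH : T ≤ M.H := hT.le.trans inf_le_left
  have hN : T ≤ M.N := hT.le.trans inf_le_right
  have hQ : M.Qs ≤ T := hT.le_of_normalizes M.isPGroup_Qs (le_inf M.Qs_le (Qs_le_N M)) (hH.trans M.H_le_normalizer_Qs)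
  exact
    { q with
      z_V := M.z_mem_V
      z_Q := z_mem_Qs M
      f_V := M.v_mem (by norm_num)
      z_ne := M.z_ne
      f_ne := fun h => by
        have := M.orderOf_t
        rw [show M.t = 1 from h, orderOf_one] at this
        cases this
      V_sq := fun v hv => M.V_sq hv
      mem_H := fun g => M.mem_H.trans (and_iff_right (mem_top g)).symm
      mem_M := fun g => (and_iff_right (mem_top g)).symm
      V_T := hT.le_of_normalizes (isPGroup_of_elem M.V_elem) (le_inf M.V_le_H M.V_le_N) hN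
      Q_T := hQ
      T_H := hH
      T_M := hN
      J_eq := rfl
      p_M := (M.μ_p ▸ M.μ_mem _ : M.p ∈ M.N)
      p_cube := by rw [← M.p3, pow_succ, pow_two]; rfl
      Q_norm := M.H_le_normalizer_Qs
      syl := isSylowIn_top_iff.2 (Fus.sylIn_top_iff.1 (M.sylIn_top hT))
      simple := topEquiv.isSimpleGroup
      two := fun u _ h1 h2 => by
        rcases M.two u (orderOf_eq_prime (by rw [pow_two, h1]) h2) with h | h <;> obtain ⟨a, e⟩ := isConj_iff.1 h
        exacts [⟨a, mem_top a, Or.inl e.symm⟩, ⟨a, mem_top a, Or.inr e.symm⟩]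
      f_not := fun h => M.nconj ((cl_iff M).1 h)
      orbV := fun v hv h => MA.orbV M hv h
      card_V := M.card_V
      card_M := M.card_N
      card_cl := MA.card_cl M T
      card_ncl := MA.card_ncl M T
      uniqM := fun E hE h hc => M.uniqN E (MA.elem_of_sq h) (MA.card_eq M h hc) hE
      uniqH := fun E hE h hc => M.uniqH E (MA.elem_of_sq h) (MA.card_eq M h hc) hE
      z2 := MA.z2 M hT.isPGroup hH hQ }

end CL.SJ
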