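/-
Project SJ4, job H3: the fusion of the first component of `z`.
-/
import Cfsg.Agent.SJ4.H0

set_option autoImplicit false
set_option linter.unusedSectionVars false
open Cfsg Subgroup CL.Even CL.Grp CL.Wr CL.Wr.P5a
open scoped commutatorElement

namespace CL.SJ

universe u

namespace H3a

open H0

variable {G : Type u} [Group G] [Finite G] {d : Dat G} {t w a b c k n u x y : G} {L X E : Subgroup G}

theorem sq_cj (h2 : ∀ x ∈ E, x * x = 1) (k : G) : ∀ x ∈ cj k E, x * x = 1 := by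
  rintro _ ⟨x, hx, rfl⟩
  rw [← map_mul, h2 x hx, map_one]

variable (g : Glb d t L X w)
include g

theorem exists_pr : ∃ f : G → G, ∀ a ∈ L, ∀ b ∈ L, f (a * (t * b * t⁻¹)) = dg t a := by
  classical
  refine ⟨fun x => if h : ∃ a ∈ L, ∃ b ∈ L, x = a * (t * b * t⁻¹) then dg t h.choose else 1, fun a ha b hb => ?_⟩
  have h : ∃ a' ∈ L, ∃ b' ∈ L, a * (t * b * t⁻¹) = a' * (t * b' * t⁻¹) := ⟨a, ha, b, hb, rfl⟩
  obtain ⟨h1, b', hb', e⟩ := h.choose_spec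
  simp only [dif_pos h]
  exact congrArg (dg t) (pair_eq g ha hb h1 hb' e).1.symm

theorem ea_fst (h : E ≤ g.toDg.dub d.T) (h2 : ∀ x ∈ E, x * x = 1) (hc : 2048 * 2048 ≤ Nat.card E) (ha : a ∈ L)
    (hb : b ∈ L) (e : a * (t * b * t⁻¹) ∈ E) : dg t a ∈ d.V := by
  obtain ⟨f, hf⟩ := exists_pr g
  have m : MulOn (g.toDg.dub d.T) f := fun x hx y hy => by
    obtain ⟨a, ha, b, hb, rfl⟩ := g.toDg.mem_dub.1 hx
    obtain ⟨a', ha', b', hb', rfl⟩ := g.toDg.mem_dub.1 hy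
    rw [pair_mul g hb.1 ha'.1, hf _ (mul_mem ha.1 ha'.1) _ (mul_mem hb.1 hb'.1), hf _ ha.1 _ hb.1, hf _ ha'.1 _ hb'.1,
      g.cm.mul ha.1 ha'.1]
  have fT : ∀ x ∈ g.toDg.dub d.T, f x ∈ d.T := fun x hx => by
    obtain ⟨a, ha, b, hb, rfl⟩ := g.toDg.mem_dub.1 hx
    exact hf a ha.1 b hb.1 ▸ ha.2
  have m2 : MulOn (g.toDg.dub d.T) fun x => f (t * x * t⁻¹) := fun x hx y hy => by
    simp only [← m _ (t_dub g hx) _ (t_dub g hy), conj_mul]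
  have c2 : Nat.card (E ⊓ m.pre ⊥ : Subgroup G) ≤ 2048 := by
    rw [← m2.card_img_of_inj (inf_le_left.trans h) fun x hx e => ?_]
    · refine (ok g).card_ea (m2.img_le fun x _ hx => (ok g).T_A (fT _ (t_dub g hx))) fun y hy => ?_
      obtain ⟨x, hx, hx', rfl⟩ := m2.mem_img.1 hy
      exact m2.sq hx' (h2 x hx.1)
    · obtain ⟨a, ha, b, hb, rfl⟩ := g.toDg.mem_dub.1 (h hx.1)
      have e1 := mem_bot.1 (m.mem_pre.1 hx.2).2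
      simp only [t_pair g ha.1 hb.1, hf b hb.1 a ha.1] at e
      rw [hf a ha.1 b hb.1] at e1
      rw [g.inj a ha.1 e1, g.inj b hb.1 e]; group
  have c3 : m.img E = d.V := g.uniqM _ (m.img_le fun x _ hx => g.T_M (fT x hx)) (fun y hy => by
    obtain ⟨x, hx, hx', rfl⟩ := m.mem_img.1 hy
    exact m.sq hx' (h2 x hx)) (Nat.le_of_mul_le_mul_right
      (hc.trans ((m.card_img h).le.trans (Nat.mul_le_mul_left _ c2))) (by norm_num))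
  exact c3 ▸ hf a ha b hb ▸ m.mem_img_of e (h e)

theorem card_W : Nat.card (g.toDg.dub d.V) = 2048 * 2048 := by
  rw [g.toDg.card_dub (fun _ => (ok g).cenA) (ok g).V_A, g.card_V]

theorem ea_eq (h : E ≤ g.toDg.dub d.T) (h2 : ∀ x ∈ E, x * x = 1) (hc : 2048 * 2048 ≤ Nat.card E) :
    E = g.toDg.dub d.V := eq_of_le_of_card_ge (fun x hx => by
  obtain ⟨a, ha, b, hb, rfl⟩ := g.toDg.mem_dub.1 (h hx)
  exact g.toDg.mem_dub.2 ⟨a, ⟨ha.1, ea_fst g h h2 hc ha.1 hb.1 hx⟩, b, ⟨hb.1,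
    ea_fst g (cj_le_of_le h (g.toDg.t_norm_dub g.t_sq)) (sq_cj h2 t) (by rwa [card_cj]) hb.1 ha.1
      (t_pair g ha.1 hb.1 ▸ conj_mem_cj t hx)⟩, rfl⟩) (by rwa [card_W g])

theorem W_comm (hx : x ∈ g.toDg.dub d.V) (hy : y ∈ g.toDg.dub d.V) : x * y = y * x :=
  comm_of_sq (fun _ => W_sq g) hx hy

theorem M_norm (ha : a ∈ g.toDg.lo d.M) : a ∈ 𝒩(g.toDg.dub d.V) := mem_norm_of fun x hx => by
  obtain ⟨u, hu, v, hv, rfl⟩ := g.toDg.mem_dub.1 hx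
  refine g.toDg.mem_dub.2 ⟨a * u * a⁻¹, ⟨mul_mem (mul_mem ha.1 hu.1) (inv_mem ha.1), ?_⟩, v, hv, ?_⟩
  · exact dg_cj g ha.1 hu.1 ▸ (ok g).conj_V ha.2 hu.2
  · rw [mul_assoc _ a⁻¹, cm g (inv_mem ha.1) hv.1]; group

theorem R_norm : g.toDg.dub d.T ≤ 𝒩(g.toDg.dub d.V) := fun x hx => by
  obtain ⟨a, ha, b, hb, rfl⟩ := g.toDg.mem_dub.1 hx
  have tn := g.toDg.t_norm_dub (R := d.V) g.t_sq
  exact mul_mem (M_norm g (g.toDg.lo_mono g.T_M ha))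
    (mul_mem (mul_mem tn (M_norm g (g.toDg.lo_mono g.T_M hb))) (inv_mem tn))

theorem cen_W (hx : x ∈ g.toDg.dub d.T) (h : x ∈ 𝒞(g.toDg.dub d.V)) : x ∈ g.toDg.dub d.V := by
  have k : ∀ a ∈ L, ∀ b ∈ L, a * (t * b * t⁻¹) ∈ 𝒞(g.toDg.dub d.V) → a ∈ g.toDg.lo d.V := fun a ha b hb h =>
    ⟨ha, (ok g).cenV (g.mem a ha) (mem_cent.2 fun v hv => by
      obtain ⟨u, hu, rfl⟩ := g.toDg.exists_lo (ok g).V_A hv
      have := comm_of_mem h (lo_dub g hu)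
      rw [mul_assoc a, ← cm g hu.1 hb, ← mul_assoc, ← mul_assoc a] at this
      exact g.toDg.mulOn.mul_comm hu.1 ha (mul_right_cancel this))⟩
  obtain ⟨a, ha, b, hb, rfl⟩ := g.toDg.mem_dub.1 hx
  exact g.toDg.mem_dub.2 ⟨a, k a ha.1 b hb.1 h, b, k b hb.1 a ha.1 (t_pair g ha.1 hb.1 ▸
    conj_mem (norm_le_norm_cent _ (g.toDg.t_norm_dub g.t_sq)) h), rfl⟩

theorem exists_M (hx : x ∈ g.toDg.lo d.V) (h : d.cl (dg t x)) : ∃ m ∈ g.toDg.lo d.M, x = m * w * m⁻¹ := by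
  obtain ⟨m, hm, e⟩ := (ok g).fuse hx.2 h
  obtain ⟨l, hl, rfl⟩ := g.toDg.exists_lo (ok g).M_A hm
  exact ⟨l, hl, g.toDg.eq_of hx.1 (mul_mem (mul_mem hl.1 g.w_mem) (inv_mem hl.1)) (by
    rw [dg_cj g hl.1 g.w_mem, g.w_dg, e])⟩

section

variable (hN : ∀ n ∈ X, n ∈ 𝒩(g.toDg.dub d.V) → n * w * n⁻¹ ∈ L)
include hN

theorem norm_lo (hn : n ∈ X) (h : n ∈ 𝒩(g.toDg.dub d.V)) (hx : x ∈ g.toDg.lo d.V) : n * x * n⁻¹ ∈ g.toDg.lo d.V := by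
  have := (g.genV.trans ((closure_le (g.toDg.mulOn.img (g.toDg.lo d.V ⊓ cj n⁻¹ (g.toDg.lo d.V)))).2 fun v hv => by
    obtain ⟨u, hu, rfl⟩ := g.toDg.exists_lo (ok g).V_A hv.1
    obtain ⟨m, hm, e⟩ := exists_M g hu hv.2
    refine g.toDg.mulOn.mem_img_of ⟨hu, mem_cj.2 (lo_of_dub g (by
      rw [inv_inv]; exact conj_mem h (lo_dub g hu)) ?_)⟩ hu.1
    have := hN _ (mul_mem hn (g.L_le hm.1)) (mul_mem h (M_norm g hm))
    rw [e]; simpa only [mul_assoc, mul_inv_rev, inv_inv] using this)) hx.2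
  obtain ⟨y, hy, -, e⟩ := g.toDg.mulOn.mem_img.1 this
  rw [← g.toDg.eq_of hy.1.1 hx.1 e]
  simpa only [inv_inv] using mem_cj.1 hy.2

theorem norm_hi (hn : n ∈ X) (h : n ∈ 𝒩(g.toDg.dub d.V)) : n ∈ 𝒩(cj t (g.toDg.lo d.V)) := mem_norm_of fun x hx => by
  have tn := g.toDg.t_norm_dub (R := d.V) g.t_sq
  have := norm_lo g hN (tX g hn) (mul_mem (mul_mem tn h) (inv_mem tn)) (mem_cj.1 hx)
  rw [mem_cj, t_inv g]
  rwa [show t * n * t⁻¹ * (t⁻¹ * x * t) * (t * n * t⁻¹)⁻¹ = t * n * (t * t)⁻¹ * x * (t * t) * n⁻¹ * t⁻¹ by group, g.t_sq,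
    inv_one, mul_one, mul_one, t_inv g, mul_assoc t, mul_assoc t] at this

end

variable (hS : IsSylowIn 2 (g.toDg.dub d.T) X)
include hS

/-- Burnside's fusion argument -/
theorem burn (hu : u ∈ g.toDg.dub d.V) (hx : x ∈ X) (h : x * u * x⁻¹ ∈ g.toDg.dub d.V) :
    ∃ n ∈ X, n ∈ 𝒩(g.toDg.dub d.V) ∧ x * u * x⁻¹ = n * u * n⁻¹ := by
  have pW := isP_of_sq fun _ => W_sq (L := L) g
  obtain ⟨P, hP, h1⟩ := exists_isSylowIn_ge (H := X ⊓ centralizer {x * u * x⁻¹}) pW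
    fun y hy => ⟨dub_X g hy, mem_cent1.2 (W_comm g hy h)⟩
  obtain ⟨c, hc, h2⟩ := syl_conj_le hP (isPGroup_cj pW x) (by
    rintro _ ⟨y, hy, rfl⟩
    exact ⟨X.mul_mem (mul_mem hx (dub_X g hy)) (inv_mem hx), mem_cent1.2 (by
      show x * y * x⁻¹ * _ = _ * (x * y * x⁻¹)
      rw [conj_mul, conj_mul, W_comm g hy hu])⟩)
  obtain ⟨k, -, h3⟩ := syl_conj_le hS hP.isPGroup (hP.le.trans inf_le_left)
  have e1 := ea_eq g ((cj_mono k h1).trans h3) (sq_cj (fun _ => W_sq g) k) (by rw [card_cj, card_W g])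
  have e2 := ea_eq g ((cj_mono k h2).trans h3) (sq_cj (sq_cj (sq_cj (fun _ => W_sq g) x) c) k)
    (by rw [card_cj, card_cj, card_cj, card_W g])
  refine ⟨c * x, mul_mem hc.1 hx, cj_eq_iff_mem.1 (by rw [cj_mul]; exact cj_inj.1 (e2.trans e1.symm)), ?_⟩
  rw [← mul_inv_cancel_right (x * u * x⁻¹) c, ← mem_cent1.1 hc.2]; group

/-- an element acting on `W` as its conjugate under `t` acts as an element of `A` -/
theorem act {δ : G} (h : t * (δ⁻¹ * t * δ) ∈ X ⊓ 𝒞(g.toDg.dub d.V)) :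
    ∃ a ∈ d.A, ∀ v ∈ d.V, δ * v * δ⁻¹ = a * v * a⁻¹ := by
  obtain ⟨j, h2, e⟩ := dih g.t_sq (b := δ⁻¹ * t * δ) (by
    rw [mul_assoc, ← mul_assoc δ, ← mul_assoc δ, mul_inv_cancel, one_mul, mul_assoc, ← mul_assoc t, g.t_sq]; group)
  have h3 := (X ⊓ 𝒞(g.toDg.dub d.V)).pow_mem h j
  have h4 := (X ⊓ 𝒞(g.toDg.dub d.V)).pow_mem h (2 * j + 1)
  generalize (t * (δ⁻¹ * t * δ)) ^ j = r at e h3
  generalize (t * (δ⁻¹ * t * δ)) ^ (2 * j + 1) = s at e h4 h2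
  obtain ⟨k, hk, h5⟩ := syl_conj_le (syl_inf_of_norm hS (D := X ⊓ 𝒞(g.toDg.dub d.V)) inf_le_left
    (le_norm_inf (hS.le.trans le_normalizer) (le_norm_cent (R_norm g)))) (isPGroup_zpowers h2.choose_spec) (zpowers_le.2 h4)
  have h6 := h5 (conj_mem_cj k (mem_zpowers s))
  have h7 := cen_W g h6.1 h6.2.2
  have h8 : s = k * s * k⁻¹ := by
    have := comm_of_mem hk.2 h7
    rw [inv_mul_cancel_right] at this
    exact mul_left_cancel this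
  rw [← h8] at h7
  obtain ⟨a, ha, b, hb, e1⟩ := g.toDg.mem_dub.1 h7
  have e2 : t * s * t⁻¹ * s = 1 := by
    rw [t_inv g, mul_assoc, e, show r⁻¹ * (δ⁻¹ * t * δ) * r * (r⁻¹ * (δ⁻¹ * t * δ) * r) = r⁻¹ * δ⁻¹ * (t * t) * δ * r by
      group, g.t_sq]; group
  rw [e1, t_pair g ha.1 hb.1, pair_mul g ha.1 ha.1] at e2
  have aa := g.toDg.sq_of ha.1 (g.V_sq _ ha.2)
  obtain rfl : b = a := by rw [eq_inv_of_mul_eq_one_left (pair_one g (mul_mem hb.1 ha.1) (mul_mem ha.1 hb.1) e2).1,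
    inv_eq_of_sq aa]
  have e3 : t * s = b * t * b⁻¹ := by
    rw [e1, cm g ha.1 ha.1, ← mul_assoc, ← mul_assoc, ← mul_assoc, g.t_sq, t_inv g, inv_eq_of_sq aa, one_mul]
  obtain ⟨a', ha', e4⟩ := g.dec (δ * (r * b)) (g.cen_le (mem_cent1.2 (by
    calc δ * (r * b) * t = δ * r * (b * t * b⁻¹) * b := by group
      _ = _ := by rw [← e3, e]; group)))
  refine ⟨a', ha', fun v hv => ?_⟩
  have c1 : r * b ∈ 𝒞(g.toDg.dub d.V) := mul_mem h3.2 (mem_cent.2 fun y hy => W_comm g hy (lo_dub g ha))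
  calc _ = δ * (r * b * v * (r * b)⁻¹) * δ⁻¹ := by rw [conj_eq_of_mem c1 (g.toDg.le_dub (ok g).V_A hv)]
    _ = a' * (a'⁻¹ * (δ * (r * b)) * v * (a'⁻¹ * (δ * (r * b)))⁻¹) * a'⁻¹ := by group
    _ = _ := by rw [conj_eq_of_mem e4 ((ok g).V_A hv)]

variable (hN : ∀ n ∈ X, n ∈ 𝒩(g.toDg.dub d.V) → n * w * n⁻¹ ∈ L)
include hN

theorem act2 (hk : k ∈ X) (h : k ∈ 𝒩(g.toDg.dub d.V)) (hc : k ∈ 𝒞(cj t (g.toDg.lo d.V))) :
    ∃ a ∈ d.A, ∀ x ∈ g.toDg.lo d.V, dg t (k * x * k⁻¹) = a * dg t x * a⁻¹ := by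
  have c1 : ∀ x ∈ g.toDg.lo d.V, k * (t * x * t⁻¹) * k⁻¹ = t * x * t⁻¹ := fun x hx => conj_eq_of_mem hc (conj_mem_cj t hx)
  have c2 : ∀ x ∈ g.toDg.lo d.V, t * k * t⁻¹ * x * (t * k * t⁻¹)⁻¹ = x := fun x hx => by
    rw [← tt g x, conj_mul, conj_inv, conj_mul, c1 x hx]
  have n1 : ∀ x ∈ g.toDg.lo d.V, k * x * k⁻¹ ∈ g.toDg.lo d.V := fun x => norm_lo g hN hk h
  have k1 : ∀ a ∈ g.toDg.lo d.V, ∀ b ∈ g.toDg.lo d.V, k * (a * (t * b * t⁻¹)) * k⁻¹ = k * a * k⁻¹ * (t * b * t⁻¹) :=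
    fun a ha b hb => by rw [← conj_mul, c1 b hb]
  have k2 : ∀ a ∈ g.toDg.lo d.V, ∀ b ∈ g.toDg.lo d.V,
      t * k * t⁻¹ * (a * (t * b * t⁻¹)) * (t * k * t⁻¹)⁻¹ = a * (t * (k * b * k⁻¹) * t⁻¹) :=
    fun a ha b hb => by rw [← conj_mul, c2 a ha]; group
  have k3 : ∀ a ∈ g.toDg.lo d.V, ∀ b ∈ g.toDg.lo d.V, dg t k * (a * (t * b * t⁻¹)) * (dg t k)⁻¹ =
      k * a * k⁻¹ * (t * (k * b * k⁻¹) * t⁻¹) := fun a ha b hb => by
    rw [← k1 a ha _ (n1 b hb), ← k2 a ha b hb, dg]; group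
  have h1 : dg t k ∈ X := mul_mem hk (tX g hk)
  obtain ⟨a, ha, e⟩ := act g hS (δ := dg t k) ⟨by
    have := mul_mem (tX g (inv_mem h1)) h1
    rwa [t_inv g, mul_assoc, mul_assoc, ← mul_assoc _ t] at this, mem_cent.2 fun y hy => by
    obtain ⟨a, ha, b, hb, e⟩ := g.toDg.mem_dub.1 hy
    have e2 := k3 b hb a ha
    rw [← t_pair g ha.1 hb.1, ← t_pair g (n1 a ha).1 (n1 b hb).1, ← k3 a ha b hb, ← e] at e2
    calc _ = t * (t * y * t⁻¹) * t⁻¹ * (t⁻¹ * ((dg t k)⁻¹ * t * dg t k)) := by rw [tt g, t_inv g]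
      _ = t * (dg t k)⁻¹ * (dg t k * (t * y * t⁻¹) * (dg t k)⁻¹) * (t * dg t k) * ((dg t k)⁻¹ * t⁻¹ * dg t k * (t * t)⁻¹ *
          (dg t k)⁻¹ * t * dg t k) := by group
      _ = _ := by rw [e2, g.t_sq]; group⟩
  exact ⟨a, ha, fun x hx => by rw [← e _ hx.2]; exact (k3 x hx x hx).symm⟩

theorem cl_w (hn : n ∈ X) (h : n ∈ 𝒩(g.toDg.dub d.V)) : d.cl (dg t (n * w * n⁻¹)) := by
  by_contra hc
  choose! σ h1 h2 using fun v (hv : v ∈ d.V) => g.toDg.exists_lo (ok g).V_A hv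
  have := Set.ncard_le_ncard_of_injOn (s := {v | v ∈ d.V ∧ d.cl v}) (t := {v | v ∈ d.V ∧ v ≠ 1 ∧ ¬ d.cl v})
    (fun v => dg t (n * σ v * n⁻¹)) (fun v hv => ?_) fun v hv v' hv' e => ?_
  · rw [g.card_cl, g.card_ncl] at this; omega
  · have h3 := norm_lo g hN hn h (h1 v hv.1)
    obtain ⟨m, hm, e⟩ := exists_M g (h1 v hv.1) (by rw [h2 v hv.1]; exact hv.2)
    obtain ⟨a, ha, e1⟩ := act2 g hS hN (k := n * m * n⁻¹) (mul_mem (mul_mem hn (g.L_le hm.1)) (inv_mem hn))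
      (mul_mem (mul_mem h (M_norm g hm)) (inv_mem h)) (conj_mem (norm_le_norm_cent _ (norm_hi g hN hn h))
        (le_centralizer_iff.1 ((cj_mono t g.toDg.lo_le).trans g.toDg.le_cent) hm.1))
    have e2 := e1 _ (norm_lo g hN hn h (w_lo g))
    rw [conj_mul, conj_inv, conj_mul, ← e] at e2
    refine ⟨h3.2, fun e3 => (ok g).cl_ne hv.2 ?_, fun e3 => hc ((Dat.cl_conj ha).1 (e2 ▸ e3))⟩
    rw [← h2 v hv.1, conj_eq_one_iff.1 (g.inj _ h3.1 e3), dg_one]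
  · have := g.toDg.eq_of (norm_lo g hN hn h (h1 v hv.1)).1 (norm_lo g hN hn h (h1 v' hv'.1)).1 e
    rw [← h2 v hv.1, ← h2 v' hv'.1, mul_left_cancel (mul_right_cancel this)]

end H3a

open H0 H3a in
theorem h3 : H3.{u} := by
  intro G _ _ d t L X w g hS hN x hx h
  obtain ⟨a, ha, b, hb, e⟩ := g.toDg.mem_dub.1 h
  have h1 := pair_one g (mul_mem ha.1 ha.1) (mul_mem hb.1 hb.1) (by
    rw [← pair_mul g hb.1 ha.1, ← e, conj_mul, w_sq g]; group)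
  have k : ∀ a ∈ L, a * a = 1 → ∃ l ∈ L, l * a * l⁻¹ ∈ g.toDg.lo d.V := fun a ha h => by
    obtain ⟨k, hk, e⟩ := (ok g).conj_into_V (g.mem a ha) (g.toDg.mulOn.sq ha h)
    obtain ⟨l, hl, rfl⟩ := g.surj k hk
    exact ⟨l, hl, mul_mem (mul_mem hl ha) (inv_mem hl), dg_cj g hl ha ▸ e⟩
  obtain ⟨l, hl, h2⟩ := k a ha.1 h1.1
  obtain ⟨m, hm, h3⟩ := k b hb.1 h1.2
  have e1 : l * (t * m * t⁻¹) * x * w * (l * (t * m * t⁻¹) * x)⁻¹ = l * a * l⁻¹ * (t * (m * b * m⁻¹) * t⁻¹) := by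
    calc _ = l * (t * m * t⁻¹) * (x * w * x⁻¹) * (l * (t * m * t⁻¹))⁻¹ := by group
      _ = _ := by rw [e, pair_mul g hm ha.1, cm g hl hm, mul_inv_rev, conj_inv, pair_mul g (mul_mem hm hb.1) (inv_mem hl)]
  obtain ⟨n, hn, h4, e2⟩ := burn g hS (lo_dub g (w_lo g)) (mul_mem (mul_mem (g.L_le hl) (tX g (g.L_le hm))) hx)
    (e1 ▸ g.toDg.mem_dub.2 ⟨_, h2, _, h3, rfl⟩)
  have h5 := hN n hn h4
  have h6 := disj g h3.1 ((mul_mem_cancel_left h2.1).1 (e1 ▸ e2 ▸ h5))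
  obtain ⟨c, hc, e3⟩ := cl_w g hS hN hn h4
  obtain ⟨c, hc', rfl⟩ := g.surj c hc
  have e4 := g.toDg.eq_of h5 (mul_mem (mul_mem hc' g.w_mem) (inv_mem hc')) (by rw [e3, dg_cj g hc' g.w_mem, g.w_dg])
  rw [← e2, e1, h6, mul_one, mul_inv_cancel, mul_one] at e4
  refine ⟨l⁻¹ * c, mul_mem (inv_mem hl) hc', ?_⟩
  rw [e, conj_eq_one_iff.1 h6]
  calc _ = l⁻¹ * (l * a * l⁻¹) * l := by group
    _ = _ := by rw [e4]; group

end CL.SJ
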